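import Cfsg.Agent.LocalThree.SpCentre.SixZ
import Cfsg.Agent.SpSixTwo.Cover
import Cfsg.Agent.Chev.Types
import Cfsg.Agent.FiOuter.SpSix

/-!
Seven reflections satisfying the relations of the Coxeter group of type `E₇` give a subgroup
isomorphic to the symplectic group of degree six over two elements.
-/

set_option autoImplicit false
set_option maxRecDepth 8000
set_option linter.unusedSectionVars false
set_option linter.style.haveILetI false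
set_option synthInstance.maxSize 2000
set_option maxHeartbeats 1000000

namespace Cfsg.Lib.SpCentre

open Subgroup Equiv Cfsg.Lib.HeisSL Cfsg.Lib.AmalgamSpFour Cfsg.Lib.SymNineLocal
open scoped MatrixGroups

universe u

/-- The symplectic group of degree six over two elements. -/
abbrev Sp6 : Type := Cfsg.Lib.SpSixTwo.Sp

/-- the centres of the seven transvections -/
def centE : Fin 7 → ℕ := ![32, 1, 5, 8, 3, 16, 2]

/-- the seven transvections -/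
noncomputable def spGen (c : Fin 7) : Sp6 := Cfsg.Lib.SpTwo.tv (Cfsg.Lib.SpSixTwo.vec (centE c))

/-- the entries of the Coxeter matrix -/
def m7 (c d : Fin 7) : ℕ := CoxeterMatrix.E₇ c d

theorem centre_form : ∀ c d : Fin 7, (c = d ∧ m7 c d = 1) ∨
    (((Matrix.J (Fin 3) (ZMod 2)).mulVec (Cfsg.Lib.SpSixTwo.vec (centE c))) ⬝ᵥ
        Cfsg.Lib.SpSixTwo.vec (centE d) = 0 ∧ m7 c d = 2) ∨
    (((Matrix.J (Fin 3) (ZMod 2)).mulVec (Cfsg.Lib.SpSixTwo.vec (centE c))) ⬝ᵥ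
        Cfsg.Lib.SpSixTwo.vec (centE d) = 1 ∧ m7 c d = 3) := by decide +kernel

theorem centre_cover : ∀ c : Fin 7, ∃ d : Fin 7, centE d = Cfsg.Lib.SpSixTwo.centres.getD c 0 := by decide +kernel

theorem tv_comm {v w : Cfsg.Lib.SpSixTwo.Vec} (h : (Matrix.J (Fin 3) (ZMod 2)).mulVec v ⬝ᵥ w = 0) :
    Cfsg.Lib.SpTwo.tv v * Cfsg.Lib.SpTwo.tv w = Cfsg.Lib.SpTwo.tv w * Cfsg.Lib.SpTwo.tv v := by
  have e := Cfsg.Lib.SpTwo.tv_conj (Cfsg.Lib.SpTwo.tv v) w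
  rw [Cfsg.Lib.SpTwo.tv_apply, h, zero_smul, add_zero] at e
  exact mul_inv_eq_iff_eq_mul.1 e

theorem tv_braid {v w : Cfsg.Lib.SpSixTwo.Vec} (h : (Matrix.J (Fin 3) (ZMod 2)).mulVec v ⬝ᵥ w = 1) :
    (Cfsg.Lib.SpTwo.tv v * Cfsg.Lib.SpTwo.tv w) ^ 3 = 1 := by
  set a := Cfsg.Lib.SpTwo.tv v
  set b := Cfsg.Lib.SpTwo.tv w
  have e1 : a * b * a⁻¹ = Cfsg.Lib.SpTwo.tv (w + v) := by
    rw [Cfsg.Lib.SpTwo.tv_conj, Cfsg.Lib.SpTwo.tv_apply, h, one_smul]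
  have e2 : b * a * b⁻¹ = Cfsg.Lib.SpTwo.tv (w + v) := by
    rw [Cfsg.Lib.SpTwo.tv_conj, Cfsg.Lib.SpTwo.tv_apply, Cfsg.Lib.SpTwo.dot_comm, h, one_smul, add_comm]
  have ha : a⁻¹ = a := inv_eq_of_mul_eq_one_right (Cfsg.Lib.SpTwo.tv_sq v)
  have hb : b⁻¹ = b := inv_eq_of_mul_eq_one_right (Cfsg.Lib.SpTwo.tv_sq w)
  calc (a * b) ^ 3 = (a * b * a⁻¹) * (b * a * b⁻¹) := by rw [ha, hb]; simp [pow_succ, mul_assoc]
    _ = 1 := by rw [e1, e2, Cfsg.Lib.SpTwo.tv_sq]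

theorem spGen_rel : ∀ i j, (spGen i * spGen j) ^ CoxeterMatrix.E₇ i j = 1 := by
  intro i j
  rcases centre_form i j with ⟨rfl, e⟩ | ⟨h, e⟩ | ⟨h, e⟩ <;> unfold m7 at e <;> rw [e]
  · rw [pow_one]; exact Cfsg.Lib.SpTwo.tv_sq _
  · rw [(show Commute (spGen i) (spGen j) from tv_comm h).mul_pow, pow_two, pow_two]
    simp only [spGen, Cfsg.Lib.SpTwo.tv_sq, one_mul]
  · exact tv_braid h

/-- The Coxeter system of type `E₇`. -/
noncomputable abbrev csE7 : CoxeterSystem CoxeterMatrix.E₇ CoxeterMatrix.E₇.Group :=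
  CoxeterMatrix.E₇.toCoxeterSystem

/-- The map onto the symplectic group. -/
noncomputable def toSp : CoxeterMatrix.E₇.Group →* Sp6 := csE7.lift ⟨spGen, spGen_rel⟩

theorem toSp_simple (i : Fin 7) : toSp (csE7.simple i) = spGen i := csE7.lift_apply_simple spGen_rel i

theorem toSp_surjective : Function.Surjective toSp := by
  intro M
  obtain ⟨⟨g, hg⟩, rfl⟩ := Cfsg.Lib.SpSixTwo.proj_surjective M
  show g.2 ∈ toSp.range
  induction hg using Subgroup.closure_induction with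
  | mem x hx =>
    obtain ⟨c, rfl⟩ := hx
    obtain ⟨d, hd⟩ := centre_cover c
    refine ⟨csE7.simple d, ?_⟩
    rw [toSp_simple]
    show spGen d = Cfsg.Lib.SpSixTwo.genT c
    rw [spGen, hd]
    rfl
  | one => exact one_mem _
  | mul x y _ _ hx hy => exact mul_mem hx hy
  | inv x _ hx => exact inv_mem hx

theorem sp6_simple : IsSimpleGroup Sp6 := by
  haveI : IsSimpleGroup (Cfsg.PSp 3 (ZMod 2)) :=
    Cfsg.Lib.Classical.isSimpleGroup_symplectic_quotient (by norm_num) (fun e => by omega)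
  obtain ⟨-, hc⟩ := Cfsg.Lib.FiOuter.card_sp
  exact MulEquiv.isSimpleGroup ((QuotientGroup.quotientMulEquivOfEq hc).trans QuotientGroup.quotientBot).symm

theorem cox_six : swap (4 : Fin 6) 5 * swap 4 5 = 1 ∧ swap (1 : Fin 6) 2 * swap 1 2 = 1 ∧
    swap (0 : Fin 6) 1 * swap 0 1 = 1 ∧
    swap (2 : Fin 6) 5 * swap 1 2 * (swap 2 5 * swap 1 2) * (swap 2 5 * swap 1 2) = 1 ∧
    swap (2 : Fin 6) 5 * swap 4 5 * (swap 2 5 * swap 4 5) * (swap 2 5 * swap 4 5) = 1 ∧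
    swap (1 : Fin 6) 2 * swap 4 5 = swap 4 5 * swap 1 2 ∧ swap (0 : Fin 6) 1 * swap 4 5 = swap 4 5 * swap 0 1 ∧
    swap (1 : Fin 6) 2 * swap 0 1 * (swap 1 2 * swap 0 1) * (swap 1 2 * swap 0 1) = 1 ∧
    (∀ h : S6, h * swap 0 1 = swap 0 1 * h → h * swap 1 2 = swap 1 2 * h → h * swap 4 5 = swap 4 5 * h →
      h = 1 ∨ h = swap 4 5) ∧
    swap (2 : Fin 6) 5 * swap 1 2 ≠ swap 1 2 * swap 2 5 := by decide +kernel

theorem cox_ops : cmp cW (cmp e1W (cmp cW cW)) = dg (1, -1, 1) ∧ app cW (1, 0, 0) = (0, 1, 0) ∧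
    cmp cW (cmp (dg (1, -1, 1)) (cmp cW cW)) = e3W ∧ app cW (0, 1, 0) = (0, 0, 1) ∧
    ((1, 0, 0) : V) ≠ 0 ∧ cmp e1W (dg (1, -1, 1)) = cmp (dg (1, -1, 1)) e1W := by decide +kernel

namespace Sx

variable {G : Type u} [Group G] [Finite G] (S : Sx G)

/-- the seven reflections -/
noncomputable def vv : Fin 7 → G :=
  ![S.f (swap 4 5), S.t, S.s 1, S.t * S.ι (1, 0, 0), S.s 2, S.f (swap 1 2), S.f (swap 0 1)]

theorem γ_cube : S.γ * (S.γ * S.γ) = 1 := by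
  rw [γ, S.σ_mul class_ops.2.2.2.2.1 class_ops.2.2.2.2.1, S.σ_mul class_ops.2.2.2.2.1
    (S.cmp_mem class_ops.2.2.2.2.1 class_ops.2.2.2.2.1), class_ops.2.2.2.2.2.2.2.2.2.1, S.σ_id]

theorem γ_inv : S.γ⁻¹ = S.γ * S.γ := inv_eq_of_mul_eq_one_right S.γ_cube

theorem γ_σ {x y : Op} (hx : x ∈ M48) (h : cmp cW (cmp x (cmp cW cW)) = y) : S.γ * S.σ x * S.γ⁻¹ = S.σ y := by
  have hc := class_ops.2.2.2.2.1
  have h2 := S.cmp_mem hc hc
  rw [γ, S.σ_inv hc h2 class_ops.2.2.2.2.2.2.2.2.2.1, mul_assoc, S.σ_mul hx h2, S.σ_mul hc (S.cmp_mem hx h2), h]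

theorem γ_a1 : S.γ * S.t * S.γ⁻¹ = S.f (swap 0 1) := by rw [S.f_u]; exact S.γ_σ e1W_mem.1 cox_ops.1

theorem γ_b1 : S.γ * (S.t * S.ι (1, 0, 0)) * S.γ⁻¹ = S.f (swap 1 2) := by
  rw [S.f12, show S.γ * (S.t * S.ι (1, 0, 0)) * S.γ⁻¹ = (S.γ * S.t * S.γ⁻¹) * (S.γ * S.ι (1, 0, 0) * S.γ⁻¹) by group,
    S.γ_a1, S.f_u, γ, S.σ_acts class_ops.2.2.2.2.1, cox_ops.2.1]

theorem γ_b2 : S.γ * S.f (swap 1 2) * S.γ⁻¹ = S.f (swap 4 5) := by
  rw [S.f12, S.f45, z_ops.2.1, show S.γ * (S.σ (dg (1, -1, 1)) * S.ι (0, 1, 0)) * S.γ⁻¹ =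
    (S.γ * S.σ (dg (1, -1, 1)) * S.γ⁻¹) * (S.γ * S.ι (0, 1, 0) * S.γ⁻¹) by group,
    S.γ_σ op_frame.1 cox_ops.2.2.1, γ, S.σ_acts class_ops.2.2.2.2.1, cox_ops.2.2.2.1]

theorem γ_b3 : S.γ * S.f (swap 4 5) * S.γ⁻¹ = S.t * S.ι (1, 0, 0) := by
  rw [← S.γ_b2, ← S.γ_b1]
  calc S.γ * (S.γ * (S.γ * (S.t * S.ι (1, 0, 0)) * S.γ⁻¹) * S.γ⁻¹) * S.γ⁻¹
      = (S.γ * (S.γ * S.γ)) * (S.t * S.ι (1, 0, 0)) * (S.γ * (S.γ * S.γ))⁻¹ := by group
    _ = _ := by rw [S.γ_cube, one_mul, inv_one, mul_one]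

theorem s_zero : S.s 0 = S.f (swap 2 5) := by simp [s]

theorem s_one : S.s 1 = S.γ * S.f (swap 2 5) * S.γ⁻¹ := by simp [s]

theorem s_two : S.s 2 = S.γ * S.s 1 * S.γ⁻¹ := by
  rw [s_one, s]
  show S.γ ^ 2 * _ * (S.γ ^ 2)⁻¹ = _
  rw [pow_two]; group

/-- conjugation by the cycle preserves relations -/
theorem γ_rel {a b a' b' : G} (ha : S.γ * a * S.γ⁻¹ = a') (hb : S.γ * b * S.γ⁻¹ = b') {n : ℕ}
    (h : (a * b) ^ n = 1) : (a' * b') ^ n = 1 := by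
  rw [← ha, ← hb, show S.γ * a * S.γ⁻¹ * (S.γ * b * S.γ⁻¹) = S.γ * (a * b) * S.γ⁻¹ by group, conj_pow, h, mul_one,
    mul_inv_cancel]

theorem vv_sq (i : Fin 7) : S.vv i * S.vv i = 1 := by
  have hs : ∀ j, S.s j * S.s j = 1 := fun j => S.Za_sq (S.s_Za j)
  fin_cases i
  · show S.f (swap 4 5) * S.f (swap 4 5) = 1
    rw [← map_mul, cox_six.1, map_one]
  · exact S.t_sq
  · exact hs 1
  · show S.t * S.ι (1, 0, 0) * (S.t * S.ι (1, 0, 0)) = 1
    calc _ = (S.t * S.ι (1, 0, 0) * S.t⁻¹) * (S.t * S.t) * S.ι (1, 0, 0) := by group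
      _ = 1 := by rw [S.t_e, S.t_sq, mul_one, ← S.ι_add, ← S.ι_zero]; congr 1
  · exact hs 2
  · show S.f (swap 1 2) * S.f (swap 1 2) = 1
    rw [← map_mul, cox_six.2.1, map_one]
  · show S.f (swap 0 1) * S.f (swap 0 1) = 1
    rw [← map_mul, cox_six.2.2.1, map_one]

theorem vv_rel : ∀ i j, (S.vv i * S.vv j) ^ CoxeterMatrix.E₇ i j = 1 := by
  have hsym : ∀ {a b : G}, a * a = 1 → b * b = 1 → ∀ {n : ℕ}, (a * b) ^ n = 1 → (b * a) ^ n = 1 := by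
    intro a b ha hb n h
    rw [show b * a = (a * b)⁻¹ by rw [mul_inv_rev, inv_eq_of_mul_eq_one_right ha, inv_eq_of_mul_eq_one_right hb],
      inv_pow, h, inv_one]
  have c2 : ∀ {a b : G}, a * a = 1 → b * b = 1 → a * b = b * a → (a * b) ^ 2 = 1 := fun {a b} ha hb h => by
    rw [(show Commute a b from h).mul_pow, pow_two, pow_two, ha, hb, one_mul]
  have p3 : ∀ {a b : S6}, a * b * (a * b) * (a * b) = 1 → (S.f a * S.f b) ^ 3 = 1 := fun {a b} h => by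
    rw [← map_mul, ← map_pow, pow_three', h, map_one]
  obtain ⟨-, -, -, h25b2, h25b3, c12, c01, h12, -, -⟩ := cox_six
  have sq := S.vv_sq
  have hb1 : S.t * S.ι (1, 0, 0) * (S.t * S.ι (1, 0, 0)) = 1 := S.vv_sq 3
  have hf2 : S.f (swap 2 5) * S.f (swap 2 5) = 1 := by rw [← S.s_zero]; exact S.Za_sq (S.s_Za 0)
  have fb1 : ∀ h : S6, S.f h * (S.t * S.ι (1, 0, 0)) = S.t * S.ι (1, 0, 0) * S.f h := fun h =>
    ((show Commute (S.f h) S.t from S.f_t h).mul_right (S.f_e h)).eq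
  have za : ∀ i, S.s i * S.t = S.t * S.s i ∧ S.s i * S.f (swap 0 1) = S.f (swap 0 1) * S.s i := fun i =>
    ⟨(S.mem_Za.1 (S.s_Za i)).1, (S.mem_Za.1 (S.s_Za i)).2.1⟩
  have e2 : S.γ * S.s 1 * S.γ⁻¹ = S.s 2 := S.s_two.symm
  have e1 : S.γ * S.f (swap 2 5) * S.γ⁻¹ = S.s 1 := S.s_one.symm
  -- the relations of the second reflection
  have r20 : (S.s 1 * S.f (swap 4 5)) ^ 3 = 1 := S.γ_rel e1 S.γ_b2 (p3 h25b2)
  have r23 : (S.s 1 * (S.t * S.ι (1, 0, 0))) ^ 3 = 1 := S.γ_rel e1 S.γ_b3 (p3 h25b3)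
  have r25 : (S.s 1 * S.f (swap 1 2)) ^ 2 = 1 := S.γ_rel e1 S.γ_b1 (c2 hf2 hb1 (fb1 _))
  -- the relations of the third reflection
  have r40 : (S.s 2 * S.f (swap 4 5)) ^ 2 = 1 := S.γ_rel e2 S.γ_b2 r25
  have r43 : (S.s 2 * (S.t * S.ι (1, 0, 0))) ^ 3 = 1 := S.γ_rel e2 S.γ_b3 r20
  have r45 : (S.s 2 * S.f (swap 1 2)) ^ 3 = 1 := S.γ_rel e2 S.γ_b1 r23
  have key : ∀ i j : Fin 7, i < j → (S.vv i * S.vv j) ^ CoxeterMatrix.E₇ i j = 1 := by
    intro i j hij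
    fin_cases i <;> fin_cases j <;> (try exact absurd hij (by decide))
    · exact c2 (sq 0) (sq 1) (S.f_t _)
    · exact hsym (sq 2) (sq 0) r20
    · exact c2 (sq 0) (sq 3) (fb1 _)
    · exact hsym (sq 4) (sq 0) r40
    · exact c2 (sq 0) (sq 5) (by show S.f _ * S.f _ = S.f _ * S.f _; rw [← map_mul, ← map_mul, c12])
    · exact c2 (sq 0) (sq 6) (by show S.f _ * S.f _ = S.f _ * S.f _; rw [← map_mul, ← map_mul, c01])
    · exact c2 (sq 1) (sq 2) (za 1).1.symm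
    · show (S.t * (S.t * S.ι (1, 0, 0))) ^ 3 = 1
      rw [← mul_assoc, S.t_sq, one_mul, pow_three, S.ι_cube]
    · exact c2 (sq 1) (sq 4) (za 2).1.symm
    · exact c2 (sq 1) (sq 5) (S.t_f _)
    · exact c2 (sq 1) (sq 6) (S.t_f _)
    · exact r23
    · exact c2 (sq 2) (sq 4) (S.s_comm 1 2)
    · exact r25
    · exact c2 (sq 2) (sq 6) (za 1).2
    · exact hsym (sq 4) (sq 3) r43
    · exact c2 (sq 3) (sq 5) (fb1 _).symm
    · exact c2 (sq 3) (sq 6) (fb1 _).symm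
    · exact r45
    · exact c2 (sq 4) (sq 6) (za 2).2
    · exact p3 h12
  intro i j
  rcases lt_trichotomy i j with h | rfl | h
  · exact key i j h
  · rw [CoxeterMatrix.diagonal, pow_one]; exact sq i
  · rw [CoxeterMatrix.symmetric]; exact hsym (sq j) (sq i) (key j i h)

/-- The map into the group. -/
noncomputable def toG : CoxeterMatrix.E₇.Group →* G := csE7.lift ⟨S.vv, S.vv_rel⟩

theorem toG_simple (i : Fin 7) : S.toG (csE7.simple i) = S.vv i := csE7.lift_apply_simple S.vv_rel i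

theorem exists_theta : ∃ θ : Sp6 →* G, Function.Injective θ ∧ ∀ i, θ (spGen i) = S.vv i := by
  classical
  haveI : Finite CoxeterMatrix.E₇.Group := Nat.finite_of_card_ne_zero (by
    rw [Cfsg.Lib.Chev.E7.natCard_coxeter]; norm_num)
  have hk : toSp.ker ≤ S.toG.ker := by
    intro z hz
    have hcard : Nat.card toSp.ker = 2 := by
      have h := Subgroup.card_eq_card_quotient_mul_card_subgroup toSp.ker
      rw [Nat.card_congr (QuotientGroup.quotientKerEquivOfSurjective toSp toSp_surjective).toEquiv,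
        Cfsg.Lib.SpSixTwo.card_Sp, Cfsg.Lib.Chev.E7.natCard_coxeter] at h
      omega
    by_cases hz1 : z = 1
    · rw [hz1]; exact one_mem _
    have hc : ∀ w, w * z = z * w := by
      intro w
      have hm : w * z * w⁻¹ ∈ toSp.ker := (MonoidHom.normal_ker toSp).conj_mem z hz w
      haveI : Fintype toSp.ker := Fintype.ofFinite _
      have : (⟨_, hm⟩ : toSp.ker) = ⟨z, hz⟩ := by
        obtain ⟨a, ha, huniq⟩ := Nat.card_eq_two_iff' (1 : toSp.ker) |>.1 hcard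
        rw [huniq ⟨_, hm⟩ (fun e => hz1 (conj_eq_one_iff.1 (congrArg Subtype.val e))),
          huniq ⟨z, hz⟩ (fun e => hz1 (congrArg Subtype.val e))]
      exact mul_inv_eq_iff_eq_mul.1 (congrArg Subtype.val this)
    set y := S.toG z
    have hy : ∀ i, y * S.vv i = S.vv i * y := fun i => by
      rw [← S.toG_simple, ← map_mul, ← map_mul, hc]
    have h1 : y * S.t = S.t * y := hy 1
    have he : y * S.ι (1, 0, 0) = S.ι (1, 0, 0) * y := by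
      have h := (show Commute y S.t from h1).mul_right (show Commute y (S.t * S.ι (1, 0, 0)) from hy 3)
      rwa [← mul_assoc, S.t_sq, one_mul] at h
    obtain ⟨k, h, hyk⟩ := S.cent_e y he
    have hk0 : k = 0 := by
      have e1 : S.ι (k, 0, 0) * S.t = S.t * S.ι (k, 0, 0) := by
        have e : S.ι (k, 0, 0) = y * (S.f h)⁻¹ := by rw [hyk, mul_inv_cancel_right]
        rw [e]
        exact ((show Commute y S.t from h1).mul_left (show Commute (S.f h) S.t from S.f_t h).inv_left).eq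
      exact (S.t_fix (k, 0, 0)).1 e1
    rw [hk0, show ((0 : ZMod 3), (0 : ZMod 3), (0 : ZMod 3)) = (0 : V) from rfl, S.ι_zero, one_mul] at hyk
    have hf : ∀ {a : S6}, y * S.f a = S.f a * y → h * a = a * h := fun {a} e => S.f_inj (by
      rw [map_mul, map_mul, ← hyk]; exact e)
    rcases cox_six.2.2.2.2.2.2.2.2.1 h (hf (hy 6)) (hf (hy 5)) (hf (hy 0)) with rfl | rfl
    · exact MonoidHom.mem_ker.2 (hyk.trans (map_one _))
    · exfalso
      have e : S.f (swap 4 5) * S.s 1 = S.s 1 * S.f (swap 4 5) := by rw [← hyk]; exact hy 2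
      rw [← S.γ_b2, S.s_one] at e
      have e' : S.γ * (S.f (swap 1 2) * S.f (swap 2 5)) * S.γ⁻¹ = S.γ * (S.f (swap 2 5) * S.f (swap 1 2)) * S.γ⁻¹ := by
        calc _ = S.γ * S.f (swap 1 2) * S.γ⁻¹ * (S.γ * S.f (swap 2 5) * S.γ⁻¹) := by group
          _ = _ := by rw [e]; group
      have e'' := mul_left_cancel (mul_right_cancel e')
      rw [← map_mul, ← map_mul] at e''
      exact cox_six.2.2.2.2.2.2.2.2.2 (S.f_inj e'').symm
  obtain ⟨θ, hθ⟩ : ∃ θ : Sp6 →* G, ∀ w, θ (toSp w) = S.toG w :=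
    ⟨MonoidHom.liftOfSurjective toSp toSp_surjective ⟨S.toG, hk⟩,
      fun w => MonoidHom.liftOfRightInverse_comp_apply _ _ _ _ w⟩
  have hgen : ∀ i, θ (spGen i) = S.vv i := fun i => by rw [← toSp_simple, hθ, S.toG_simple]
  refine ⟨θ, ?_, hgen⟩
  haveI := sp6_simple
  rcases θ.normal_ker.eq_bot_or_eq_top with h | h
  · exact (MonoidHom.ker_eq_bot_iff θ).1 h
  · exfalso
    have h1 : θ (spGen 1) = 1 := MonoidHom.mem_ker.1 (h ▸ mem_top _)
    rw [hgen] at h1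
    exact S.t_ne h1

end Sx

end Cfsg.Lib.SpCentre
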