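import Cfsg.Agent.LocalThree.SpCentre.SixCode

/-!
Checks on the conjugates of the elements fixing the standard Lagrangian.
-/

set_option autoImplicit false
set_option maxRecDepth 100000
set_option maxHeartbeats 2000000
set_option Elab.async false

namespace Cfsg.Lib.SpCentre.Code

theorem chunk_0 : chunk 0 = true := by decide +kernel

theorem chunk_1 : chunk 1 = true := by decide +kernel

theorem chunk_2 : chunk 2 = true := by decide +kernel

theorem chunk_3 : chunk 3 = true := by decide +kernel

theorem chunk_4 : chunk 4 = true := by decide +kernel

end Cfsg.Lib.SpCentre.Code
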