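import Cfsg.Agent.LocalThree.SpCentre.SixCode
import Cfsg.Agent.LocalThree.SpCentre.CodeChunkA
import Cfsg.Agent.LocalThree.SpCentre.CodeChunkB
import Cfsg.Agent.LocalThree.SpCentre.CodeChunkC
import Cfsg.Agent.SpSixTwo.Cover

/-!
The classes of involutions of the symplectic group of degree six over two elements.
-/

set_option autoImplicit false
set_option maxRecDepth 8000
set_option maxHeartbeats 1000000
set_option linter.unusedSectionVars false

namespace Cfsg.Lib.SpCentre.Code

open Cfsg.Lib.SpSixTwo Cfsg.Lib.SpTwo Cfsg.Lib.RootSub Matrix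

/-- The symplectic group of degree six over two elements. -/
abbrev Sp6' : Type := Cfsg.Lib.SpSixTwo.Sp

theorem vec_xor : ∀ a b : Fin 64, vec (a.val ^^^ b.val) = vec a.val + vec b.val ∧ a.val ^^^ b.val < 64 := by
  decide +kernel

theorem dot_form : ∀ a b : Fin 64,
    (Matrix.J (Fin 3) (ZMod 2) *ᵥ vec a.val) ⬝ᵥ vec b.val = bif bform a.val b.val then 1 else 0 := by decide +kernel

theorem bit_split : ∀ x : Fin 64, x.val = (bif x.val.testBit 0 then 1 else 0) ^^^ ((bif x.val.testBit 1 then 2 else 0) ^^^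
    ((bif x.val.testBit 2 then 4 else 0) ^^^ ((bif x.val.testBit 3 then 8 else 0) ^^^
      ((bif x.val.testBit 4 then 16 else 0) ^^^ (bif x.val.testBit 5 then 32 else 0))))) := by decide +kernel

theorem half_bit : ∀ (i : Fin 6) (x : Fin 64), (half i.val).testBit x.val = !x.val.testBit i.val ∧
    (x.val.testBit i.val = true → 2 ^ i.val ≤ x.val ∧ x.val ^^^ 2 ^ i.val = x.val - 2 ^ i.val) ∧
    (x.val.testBit i.val = false → x.val ^^^ 2 ^ i.val = x.val + 2 ^ i.val) ∧ x.val ^^^ 2 ^ i.val < 64 := by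
  decide +kernel

theorem low_form : ∀ a b : Fin 8, bform a.val b.val = false := by decide +kernel

theorem code_add (x y : Vec) : code (x + y) = code x ^^^ code y := by
  have h := vec_xor ⟨_, code_lt x⟩ ⟨_, code_lt y⟩
  simp only [vec_code] at h
  rw [← h.1, code_vec _ (List.mem_range.2 h.2)]

theorem vec_zero : vec 0 = 0 := by decide +kernel

theorem actV_xor (g : Sp6') {a b : ℕ} (ha : a < 64) (hb : b < 64) : actV g (a ^^^ b) = actV g a ^^^ actV g b := by
  rw [actV, actV, actV, (vec_xor ⟨a, ha⟩ ⟨b, hb⟩).1, mulVec_add, code_add]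

theorem actV_zero (g : Sp6') : actV g 0 = 0 := by
  rw [actV, vec_zero, mulVec_zero]; decide +kernel

/-- the code of a matrix -/
noncomputable def rep (g : Sp6') : ℕ := pk (actV g)

theorem pk_get (f : ℕ → ℕ) (hf : ∀ x, f x < 64) {i : ℕ} (hi : i < 6) : (pk f >>> (6 * i)) % 64 = f (2 ^ i) := by
  have := hf 1; have := hf 2; have := hf 4; have := hf 8; have := hf 16; have := hf 32
  rw [Nat.shiftRight_eq_div_pow, pk]
  interval_cases i <;> norm_num <;> omega

theorem actV_bit (g : Sp6') (b : Bool) (a : ℕ) : actV g (bif b then a else 0) = bif b then actV g a else 0 := by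
  cases b <;> simp [actV_zero]

theorem bit_lt (b : Bool) {a : ℕ} (ha : a < 64) : (bif b then a else 0) < 64 := by cases b <;> simp [ha]

theorem ap_rep (g : Sp6') {x : ℕ} (hx : x < 64) : ap (rep g) x = actV g x := by
  have hlt : ∀ {a b : ℕ}, a < 64 → b < 64 → a ^^^ b < 64 := fun ha hb => (vec_xor ⟨_, ha⟩ ⟨_, hb⟩).2
  have e := bit_split ⟨x, hx⟩
  simp only at e
  conv_rhs => rw [e]
  rw [actV_xor g, actV_xor g, actV_xor g, actV_xor g, actV_xor g]
  · simp only [ap, term, rep, pk_get _ (actV_lt g) (show 0 < 6 by omega), pk_get _ (actV_lt g) (show 1 < 6 by omega),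
      pk_get _ (actV_lt g) (show 2 < 6 by omega), pk_get _ (actV_lt g) (show 3 < 6 by omega),
      pk_get _ (actV_lt g) (show 4 < 6 by omega), pk_get _ (actV_lt g) (show 5 < 6 by omega), actV_bit]
    rfl
  all_goals
    repeat' apply hlt
    all_goals exact bit_lt _ (by norm_num)

theorem pk_congr {f f' : ℕ → ℕ} (h : ∀ x < 64, f x = f' x) : pk f = pk f' := by
  simp only [pk, h 1 (by norm_num), h 2 (by norm_num), h 4 (by norm_num), h 8 (by norm_num), h 16 (by norm_num),
    h 32 (by norm_num)]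

theorem rep_mul (g h : Sp6') : rep (g * h) = mul (rep g) (rep h) :=
  pk_congr fun x hx => by rw [actV_mul, ap_rep h hx, ap_rep g (actV_lt h x)]

theorem rep_one : rep 1 = one := pk_congr fun x hx => by rw [actV_one hx]; rfl

theorem rep_inj {g h : Sp6'} (e : rep g = rep h) : g = h :=
  sp_ext fun i hi => by
    have hlt : 2 ^ i < 64 := Nat.pow_lt_pow_right (by norm_num) hi
    rw [← ap_rep g hlt, ← ap_rep h hlt, e]

/-- the transvection with a centre given by a code -/
noncomputable def τ (c : ℕ) : Sp6' := tv (vec c)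

theorem actV_τ {c x : ℕ} (hc : c < 64) (hx : x < 64) : actV (τ c) x = tvA c x := by
  rw [τ, actV, tv_apply, dot_form ⟨c, hc⟩ ⟨x, hx⟩, code_add, code_vec x (List.mem_range.2 hx), tvA]
  simp only
  have hsym : bform c x = bform x c := by
    have h := Cfsg.Lib.SpTwo.dot_comm (vec c) (vec x)
    rw [dot_form ⟨c, hc⟩ ⟨x, hx⟩, dot_form ⟨x, hx⟩ ⟨c, hc⟩] at h
    revert h
    simp only
    cases bform c x <;> cases bform x c <;> simp
  cases bform c x
  · simp [show code (0 : Vec) = 0 by decide +kernel]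
  · simp [code_vec c (List.mem_range.2 hc)]

theorem rep_τ {c : ℕ} (hc : c < 64) : rep (τ c) = tvC c := pk_congr fun _ hx => actV_τ hc hx

theorem τ_sq (c : ℕ) : τ c * τ c = 1 := tv_sq _

theorem τ_conj (g : Sp6') (c : ℕ) : g * τ c * g⁻¹ = τ (actV g c) := by
  rw [τ, τ, tv_conj, actV, vec_code]

/-- products of transvections -/
noncomputable def prodS (l : List ℕ) : Sp6' := (l.map τ).prod

theorem rep_prod {l : List ℕ} (h : ∀ c ∈ l, c < 64) : rep (prodS l) = prodC l := by
  induction l with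
  | nil => exact rep_one
  | cons c r ih =>
    rw [show prodS (c :: r) = τ c * prodS r by simp [prodS], rep_mul, rep_τ (h c List.mem_cons_self),
      ih fun a ha => h a (List.mem_cons_of_mem _ ha)]
    rfl

theorem prodS_reverse (l : List ℕ) : prodS l.reverse = (prodS l)⁻¹ := by
  induction l with
  | nil => simp [prodS]
  | cons c r ih =>
    rw [List.reverse_cons, show prodS (r.reverse ++ [c]) = prodS r.reverse * τ c by simp [prodS],
      show prodS (c :: r) = τ c * prodS r by simp [prodS], ih, _root_.mul_inv_rev, inv_eq_of_mul_eq_one_right (τ_sq c)]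

theorem cent_lt : ∀ i : ℕ, cent i < 64
  | 0 | 1 | 2 | 3 | 4 | 5 | 6 => by decide
  | n + 7 => by simp [cent]

/-- the value of a word -/
noncomputable def wordS (w : List ℕ) : Sp6' := prodS (w.map cent)

theorem rep_word (w : List ℕ) : rep (wordS w) = wordC w :=
  rep_prod fun c hc => by obtain ⟨i, -, rfl⟩ := List.mem_map.1 hc; exact cent_lt i

theorem wordS_reverse (w : List ℕ) : wordS w.reverse = (wordS w)⁻¹ := by
  rw [wordS, List.map_reverse, prodS_reverse]; rfl

theorem form_actV (g : Sp6') {a b : ℕ} (ha : a < 64) (hb : b < 64) : bform (actV g a) (actV g b) = bform a b := by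
  have hform : (Matrix.J (Fin 3) (ZMod 2) *ᵥ (spCoe 3 _ g *ᵥ vec a)) ⬝ᵥ (spCoe 3 _ g *ᵥ vec b) =
      (Matrix.J (Fin 3) (ZMod 2) *ᵥ vec a) ⬝ᵥ vec b := by
    rw [dotProduct_mulVec, ← mulVec_transpose, mulVec_mulVec, mulVec_mulVec,
      show (spCoe 3 _ g)ᵀ * Matrix.J (Fin 3) (ZMod 2) * spCoe 3 _ g = Matrix.J (Fin 3) (ZMod 2) from
        SymplecticGroup.mem_iff'.mp g.2]
  have e1 := dot_form ⟨_, actV_lt g a⟩ ⟨_, actV_lt g b⟩
  simp only [show vec (actV g a) = spCoe 3 (ZMod 2) g *ᵥ vec a from vec_code _,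
    show vec (actV g b) = spCoe 3 (ZMod 2) g *ᵥ vec b from vec_code _] at e1
  rw [hform, dot_form ⟨a, ha⟩ ⟨b, hb⟩] at e1
  revert e1
  simp only
  cases bform a b <;> cases bform (actV g a) (actV g b) <;> simp

theorem bform_symm : ∀ a b : Fin 64, bform a.val b.val = bform b.val a.val := by decide +kernel

theorem bform_xor : ∀ a b c : Fin 64, bform (a.val ^^^ b.val) c.val = (bform a.val c.val ^^ bform b.val c.val) ∧
    bform a.val b.val = bform b.val a.val := by
  intro a b c
  refine ⟨?_, bform_symm a b⟩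
  simp only [bform, Nat.testBit_xor]
  cases c.val.testBit 0 <;> cases c.val.testBit 1 <;> cases c.val.testBit 2 <;> cases c.val.testBit 3 <;>
    cases c.val.testBit 4 <;> cases c.val.testBit 5 <;> simp <;>
    cases a.val.testBit 0 <;> cases a.val.testBit 1 <;> cases a.val.testBit 2 <;> cases a.val.testBit 3 <;>
    cases a.val.testBit 4 <;> cases a.val.testBit 5 <;> simp

theorem bform_nondeg : ∀ x : Fin 64, (∀ a : Fin 64, bform x.val a.val = false) → x.val = 0 := by decide +kernel

theorem flip_bit {U : ℕ} (i : Fin 6) {x : ℕ} (hx : x < 64) : (flip1 U i.val).testBit x = U.testBit (x ^^^ 2 ^ i.val) := by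
  obtain ⟨h1, h2, h3, -⟩ := half_bit i ⟨x, hx⟩
  simp only at h1 h2 h3
  rw [flip1, Nat.testBit_or, Nat.testBit_shiftLeft, Nat.testBit_and, Nat.testBit_and, Nat.testBit_shiftRight, h1]
  cases hb : x.testBit i.val
  · rw [h3 hb, add_comm (2 ^ i.val) x]
    by_cases hle : 2 ^ i.val ≤ x
    · have hlt : x - 2 ^ i.val < 64 := lt_of_le_of_lt (Nat.sub_le _ _) hx
      have := (half_bit i ⟨x - 2 ^ i.val, hlt⟩).1
      simp only at this
      have hb' : (x - 2 ^ i.val).testBit i.val = true := by
        have key : ∀ (i : Fin 6) (x : Fin 64), x.val.testBit i.val = false → 2 ^ i.val ≤ x.val →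
            (x.val - 2 ^ i.val).testBit i.val = true := by decide +kernel
        exact key i ⟨x, hx⟩ hb hle
      rw [this, hb']
      simp
    · simp [hle]
  · obtain ⟨hle, e⟩ := h2 hb
    rw [e]
    have hlt : x - 2 ^ i.val < 64 := lt_of_le_of_lt (Nat.sub_le _ _) hx
    have := (half_bit i ⟨x - 2 ^ i.val, hlt⟩).1
    simp only at this
    have key : ∀ (i : Fin 6) (x : Fin 64), x.val.testBit i.val = true → (x.val - 2 ^ i.val).testBit i.val = false := by
      decide +kernel
    rw [this, show (x - 2 ^ i.val).testBit i.val = false from key i ⟨x, hx⟩ hb]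
    simp [hle]

theorem shift_bit {S v x : ℕ} (hv : v < 64) (hx : x < 64) : (shiftV S v).testBit x = S.testBit (x ^^^ v) := by
  have step : ∀ (i : Fin 6) (b : Bool) (U : ℕ) (y : ℕ), y < 64 →
      (bif b then flip1 U i.val else U).testBit y = U.testBit (y ^^^ (bif b then 2 ^ i.val else 0)) ∧
        y ^^^ (bif b then 2 ^ i.val else 0) < 64 := by
    intro i b U y hy
    cases b
    · simp [hy]
    · exact ⟨flip_bit i hy, (half_bit i ⟨y, hy⟩).2.2.2⟩
  have e : v = (bif v.testBit 0 then 2 ^ 0 else 0) ^^^ ((bif v.testBit 1 then 2 ^ 1 else 0) ^^^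
      ((bif v.testBit 2 then 2 ^ 2 else 0) ^^^ ((bif v.testBit 3 then 2 ^ 3 else 0) ^^^
        ((bif v.testBit 4 then 2 ^ 4 else 0) ^^^ (bif v.testBit 5 then 2 ^ 5 else 0))))) := bit_split ⟨v, hv⟩
  simp only [shiftV, show List.range 6 = [0, 1, 2, 3, 4, 5] from rfl, List.foldl]
  obtain ⟨q5, l5⟩ := step 5 (v.testBit 5) _ x hx
  rw [show ((5 : Fin 6) : ℕ) = 5 from rfl] at q5 l5
  rw [q5]
  obtain ⟨q4, l4⟩ := step 4 (v.testBit 4) _ _ l5
  rw [show ((4 : Fin 6) : ℕ) = 4 from rfl] at q4 l4
  rw [q4]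
  obtain ⟨q3, l3⟩ := step 3 (v.testBit 3) _ _ l4
  rw [show ((3 : Fin 6) : ℕ) = 3 from rfl] at q3 l3
  rw [q3]
  obtain ⟨q2, l2⟩ := step 2 (v.testBit 2) _ _ l3
  rw [show ((2 : Fin 6) : ℕ) = 2 from rfl] at q2 l2
  rw [q2]
  obtain ⟨q1, l1⟩ := step 1 (v.testBit 1) _ _ l2
  rw [show ((1 : Fin 6) : ℕ) = 1 from rfl] at q1 l1
  rw [q1]
  obtain ⟨q0, -⟩ := step 0 (v.testBit 0) S _ l1
  rw [show ((0 : Fin 6) : ℕ) = 0 from rfl] at q0
  rw [q0]
  conv_rhs => rw [e]
  congr 1
  simp only [Nat.xor_comm, Nat.xor_left_comm, Nat.xor_assoc]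

/-- An involution is conjugate to one fixing the standard Lagrangian. -/
theorem exists_span {x : Sp6'} (hx : x * x = 1) :
    ∃ i n : ℕ, i < 135 ∧ n < 64 ∧ x = wordS (lagWords.getD i []) * prodS (spanSets.getD n []) * (wordS (lagWords.getD i []))⁻¹ := by
  classical
  let N : ℕ → ℕ := fun a => a ^^^ actV x a
  have hN : ∀ {a}, a < 64 → N a < 64 := fun {a} ha => (vec_xor ⟨a, ha⟩ ⟨_, actV_lt x a⟩).2
  have hNadd : ∀ {a b}, a < 64 → b < 64 → N a ^^^ N b = N (a ^^^ b) := fun {a b} ha hb => by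
    show _ = (a ^^^ b) ^^^ _
    rw [actV_xor x ha hb]
    simp only [N, Nat.xor_comm, Nat.xor_left_comm, Nat.xor_assoc]
  have hxx : ∀ {a}, a < 64 → actV x (actV x a) = a := fun {a} ha => by rw [← actV_mul, hx, actV_one ha]
  have hB : ∀ {a b c}, a < 64 → b < 64 → c < 64 → bform (a ^^^ b) c = (bform a c ^^ bform b c) := fun {a b c} ha hb hc =>
    (bform_xor ⟨a, ha⟩ ⟨b, hb⟩ ⟨c, hc⟩).1
  have hS : ∀ {a b}, a < 64 → b < 64 → bform a b = bform b a := fun {a b} ha hb =>
    (bform_xor ⟨a, ha⟩ ⟨b, hb⟩ ⟨0, by norm_num⟩).2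
  have hadj : ∀ {a b}, a < 64 → b < 64 → bform (N a) b = bform a (N b) := fun {a b} ha hb => by
    rw [hS ha (hN hb), hB ha (actV_lt x a) hb, hB hb (actV_lt x b) ha, hS hb ha, hS (actV_lt x b) ha]
    congr 1
    conv_lhs => rw [← form_actV x (actV_lt x a) hb, hxx ha]
  have hiso : ∀ {a b}, a < 64 → b < 64 → bform (N a) (N b) = false := fun {a b} ha hb => by
    rw [hadj ha (hN hb)]
    have e : N (N b) = 0 := by
      show (b ^^^ actV x b) ^^^ actV x (b ^^^ actV x b) = 0
      rw [actV_xor x hb (actV_lt x b), hxx hb, Nat.xor_comm (actV x b) b, Nat.xor_self]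
    rw [e]
    simp [bform]
  let P : List ℕ → Prop := fun l => ∃ T, isoTree.mem T = true ∧ (∀ a ∈ l, T.testBit (N a) = true) ∧
    (∀ y < 64, T.testBit y = true → ∃ a < 64, y = N a) ∧ T.testBit 0 = true
  have hP : ∀ l : List ℕ, (∀ a ∈ l, a < 64) → P l := by
    intro l
    induction l with
    | nil =>
      intro _
      refine ⟨1, iso_zero, by simp, fun y hy h => ⟨0, by norm_num, ?_⟩, rfl⟩
      have : y = 0 := by
        by_contra hne
        rw [Nat.testBit_one_eq_true_iff_self_eq_zero] at h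
        exact hne h
      subst this
      show 0 = 0 ^^^ actV x 0
      rw [actV_zero]; rfl
    | cons a r ih =>
      intro hl
      obtain ⟨T, hT, hr, him, h0⟩ := ih fun b hb => hl b (List.mem_cons_of_mem _ hb)
      have ha := hl a List.mem_cons_self
      by_cases hin : T.testBit (N a) = true
      · exact ⟨T, hT, fun b hb => (List.mem_cons.1 hb).elim (fun e => e ▸ hin) (hr b), him, h0⟩
      have hstep := List.all_eq_true.1 (List.all_eq_true.1 iso_step T (Tr.mem_toList hT)) (N a) (List.mem_range.2 (hN ha))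
      simp only [hin, Bool.false_or, Bool.or_eq_true] at hstep
      rcases hstep with h | h
      · exfalso
        have h' : T &&& nonPerp.getD (N a) 0 ≠ 0 := by simpa using h
        obtain ⟨y, hy⟩ := Nat.exists_testBit_of_ne_zero h'
        rw [Nat.testBit_and, Bool.and_eq_true] at hy
        have hy64 : y < 64 := by
          by_contra hge
          push Not at hge
          have hb : nonPerp.getD (N a) 0 < 2 ^ 64 := by
            have key : ∀ v : Fin 64, nonPerp.getD v.val 0 < 2 ^ 64 := by decide +kernel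
            exact key ⟨_, hN ha⟩
          rw [Nat.testBit_lt_two_pow (hb.trans_le (Nat.pow_le_pow_right (by norm_num) hge))] at hy
          exact absurd hy.2 (by simp)
        obtain ⟨b, hb, rfl⟩ := him y hy64 hy.1
        have h2 := List.all_eq_true.1 (List.all_eq_true.1 non_perp (N a) (List.mem_range.2 (hN ha))) (N b) (List.mem_range.2 (hN hb))
        rw [beq_iff_eq, hy.2, hiso hb ha] at h2
        exact Bool.noConfusion h2
      · refine ⟨_, h, fun b hb => ?_, fun y hy hyt => ?_, by rw [Nat.testBit_or, h0, Bool.true_or]⟩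
        · rw [Nat.testBit_or]
          rcases List.mem_cons.1 hb with rfl | hb
          · rw [shift_bit (hN ha) (hN ha), Nat.xor_self, h0, Bool.or_true]
          · rw [hr b hb, Bool.true_or]
        · rw [Nat.testBit_or, Bool.or_eq_true, shift_bit (hN ha) hy] at hyt
          rcases hyt with e | e
          · exact him y hy e
          · obtain ⟨b, hb, hbe⟩ := him _ (vec_xor ⟨y, hy⟩ ⟨_, hN ha⟩).2 e
            refine ⟨b ^^^ a, (vec_xor ⟨b, hb⟩ ⟨a, ha⟩).2, ?_⟩
            rw [← hNadd hb ha, ← hbe, Nat.xor_assoc, Nat.xor_self, Nat.xor_zero]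
  obtain ⟨T, hT, hTu, him, h0⟩ := hP units (by decide)
  -- the image lies in a Lagrangian
  obtain ⟨L, hL, hTL⟩ := List.any_eq_true.1 (List.all_eq_true.1 iso_top T (Tr.mem_toList hT))
  rw [beq_iff_eq] at hTL
  obtain ⟨i, hi, hiL⟩ := List.getElem_of_mem hL
  have hlen : lagList.length = 135 := by decide +kernel
  have hgetL : lagList.getD i 0 = L := by rw [List.getD_eq_getElem _ _ hi, hiL]
  rw [hlen] at hi
  have hadd : ∀ {a b}, a < 64 → b < 64 → T.testBit (N a) = true → T.testBit (N b) = true →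
      L.testBit (N a) = true ∧ L.testBit (N b) = true := fun {a b} _ _ h1 h2 =>
    ⟨by rw [← hTL, Nat.testBit_and, Bool.and_eq_true] at h1; exact h1.2,
      by rw [← hTL, Nat.testBit_and, Bool.and_eq_true] at h2; exact h2.2⟩
  set g := wordS (lagWords.getD i []) with hg
  obtain ⟨hcode, hspan⟩ := code_values
  have hci := List.all_eq_true.1 hcode i (List.mem_range.2 hi)
  simp only [Bool.and_eq_true, beq_iff_eq] at hci
  have hgi : rep g⁻¹ = lagInvs.getD i 0 := by rw [hg, ← wordS_reverse, rep_word, hci.2]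
  have hLmem : ∀ {y}, y < 64 → (L.testBit y = true ↔ actV g⁻¹ y < 8) := fun {y} hy => by
    have h := List.all_eq_true.1 (List.all_eq_true.1 lag_word i (List.mem_range.2 hi)) y (List.mem_range.2 hy)
    rw [beq_iff_eq, hgetL, ← hgi, ap_rep _ hy] at h
    rw [h, Nat.blt_eq]
  -- the image of every vector is in the Lagrangian
  have hImL : ∀ a < 64, L.testBit (N a) = true := by
    have hlin : ∀ {a b}, a < 64 → b < 64 → L.testBit (N a) = true → L.testBit (N b) = true →
        L.testBit (N (a ^^^ b)) = true := fun {a b} ha hb h1 h2 => by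
      rw [← hNadd ha hb, hLmem (vec_xor ⟨_, hN ha⟩ ⟨_, hN hb⟩).2, actV_xor _ (hN ha) (hN hb)]
      exact Nat.xor_lt_two_pow (n := 3) ((hLmem (hN ha)).1 h1) ((hLmem (hN hb)).1 h2)
    have hz : L.testBit (N 0) = true := by
      rw [show N 0 = 0 by show 0 ^^^ actV x 0 = 0; rw [actV_zero]; rfl, hLmem (by norm_num), actV_zero]; norm_num
    have hu : ∀ a ∈ units, L.testBit (N a) = true := fun a ha =>
      (hadd (a := a) (b := a) ((by decide : ∀ a ∈ units, a < 64) a ha) ((by decide : ∀ a ∈ units, a < 64) a ha)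
        (hTu a ha) (hTu a ha)).1
    intro a ha
    have hb : ∀ (c : Bool) (d : ℕ), d ∈ units → L.testBit (N (bif c then d else 0)) = true ∧ (bif c then d else 0) < 64 :=
      fun c d hd => by
        cases c
        · exact ⟨hz, by simp⟩
        · exact ⟨hu d hd, (by decide : ∀ a ∈ units, a < 64) d hd⟩
    have hlt : ∀ {a b : ℕ}, a < 64 → b < 64 → a ^^^ b < 64 := fun ha hb => (vec_xor ⟨_, ha⟩ ⟨_, hb⟩).2
    have e := bit_split ⟨a, ha⟩
    simp only at e
    rw [e]
    obtain ⟨m0, l0⟩ := hb (a.testBit 0) 1 (by decide)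
    obtain ⟨m1, l1⟩ := hb (a.testBit 1) 2 (by decide)
    obtain ⟨m2, l2⟩ := hb (a.testBit 2) 4 (by decide)
    obtain ⟨m3, l3⟩ := hb (a.testBit 3) 8 (by decide)
    obtain ⟨m4, l4⟩ := hb (a.testBit 4) 16 (by decide)
    obtain ⟨m5, l5⟩ := hb (a.testBit 5) 32 (by decide)
    exact hlin l0 (hlt l1 (hlt l2 (hlt l3 (hlt l4 l5)))) m0 (hlin l1 (hlt l2 (hlt l3 (hlt l4 l5))) m1
      (hlin l2 (hlt l3 (hlt l4 l5)) m2 (hlin l3 (hlt l4 l5) m3 (hlin l4 l5 m4 m5))))
  -- the elements of the Lagrangian are fixed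
  have hfix : ∀ y < 64, L.testBit y = true → actV x y = y := by
    intro y hy hyL
    have hzero : N y = 0 := bform_nondeg ⟨_, hN hy⟩ fun a => by
      show bform (N y) a.val = false
      rw [hadj hy a.2, ← form_actV g⁻¹ hy (hN a.2)]
      exact low_form ⟨_, (hLmem hy).1 hyL⟩ ⟨_, (hLmem (hN a.2)).1 (hImL a.val a.2)⟩
    have h := congrArg (fun z => y ^^^ z) hzero
    simp only [N, ← Nat.xor_assoc, Nat.xor_self, Nat.zero_xor, Nat.xor_zero] at h
    exact h
  set y := g⁻¹ * x * g with hy
  have hy8 : ∀ c, c < 8 → actV y c = c := by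
    intro c hc
    have e : actV g⁻¹ (actV g c) = c := by rw [← actV_mul, inv_mul_cancel, actV_one (by omega)]
    rw [hy, actV_mul, actV_mul, hfix _ (actV_lt g c) ((hLmem (actV_lt g c)).2 (by rw [e]; exact hc)), e]
  have hf : ∀ {c d : ℕ}, c < 8 → d < 64 → bform c (actV y d) = bform c d := fun {c d} hc hd => by
    conv_lhs => rw [← hy8 c hc]
    exact form_actV y (by omega) hd
  have hf' : ∀ {c d : ℕ}, c < 64 → d < 64 → bform (actV y c) (actV y d) = bform c d := fun hc hd => form_actV y hc hd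
  have h8 := List.all_eq_true.1 fix_eight (actV y 8) (List.mem_range.2 (actV_lt y 8))
  simp only [hf (c := 1) (by norm_num) (show 8 < 64 by norm_num), hf (c := 2) (by norm_num) (show 8 < 64 by norm_num),
    hf (c := 4) (by norm_num) (show 8 < 64 by norm_num)] at h8
  rw [show (!(bform 1 8 && !bform 2 8 && !bform 4 8)) = false by decide, Bool.false_or] at h8
  have h16 := List.all_eq_true.1 h8 (actV y 16) (List.mem_range.2 (actV_lt y 16))
  simp only [hf (c := 1) (by norm_num) (show 16 < 64 by norm_num), hf (c := 2) (by norm_num) (show 16 < 64 by norm_num),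
    hf (c := 4) (by norm_num) (show 16 < 64 by norm_num), hf' (show 8 < 64 by norm_num) (show 16 < 64 by norm_num)] at h16
  rw [show (!(!bform 1 16 && bform 2 16 && !bform 4 16 && !bform 8 16)) = false by decide, Bool.false_or] at h16
  have h32 := List.all_eq_true.1 h16 (actV y 32) (List.mem_range.2 (actV_lt y 32))
  simp only [hf (c := 1) (by norm_num) (show 32 < 64 by norm_num), hf (c := 2) (by norm_num) (show 32 < 64 by norm_num),
    hf (c := 4) (by norm_num) (show 32 < 64 by norm_num), hf' (show 8 < 64 by norm_num) (show 32 < 64 by norm_num),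
    hf' (show 16 < 64 by norm_num) (show 32 < 64 by norm_num)] at h32
  rw [show (!(!bform 1 32 && !bform 2 32 && bform 4 32 && !bform 8 32 && !bform 16 32)) = false by decide, Bool.false_or,
    List.elem_eq_mem, decide_eq_true_eq] at h32
  obtain ⟨n, hn, hne⟩ := List.getElem_of_mem h32
  have hlen2 : spanCodes.length = 64 := by decide +kernel
  have hget : spanCodes.getD n 0 = rep y := by
    rw [List.getD_eq_getElem _ _ hn, hne, rep, pk, hy8 1 (by norm_num), hy8 2 (by norm_num), hy8 4 (by norm_num)]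
  rw [hlen2] at hn
  refine ⟨i, n, hi, hn, ?_⟩
  rw [beq_iff_eq] at hspan
  have hey : rep (prodS (spanSets.getD n [])) = rep y := by
    rw [rep_prod, ← hget, hspan]
    · have hl : n < spanSets.length := by simpa [spanSets] using hn
      rw [List.getD_eq_getElem (spanSets.map prodC) 0 (by simpa using hl), List.getElem_map,
        List.getD_eq_getElem spanSets [] hl]
    · have key : ∀ n : Fin 64, ∀ c ∈ spanSets.getD n.val [], c < 64 := by decide +kernel
      exact key ⟨n, hn⟩
  rw [rep_inj hey, hy, hg]; group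

theorem rep_lt : ∀ j : Fin 5, ∀ c ∈ repSet j.val, c < 64 := by decide +kernel

/-- The class of an involution. -/
noncomputable def cx (x : Sp6') : ℕ := cl (rep x)

/-- Every involution is conjugate to a representative, and passes the checks. -/
theorem classify {x : Sp6'} (hx : x * x = 1) : cx x < 5 ∧ (cx x = 0 → x = 1) ∧
    (∃ k, k * x * k⁻¹ = prodS (repSet (cx x))) ∧ critB (rep x) = true ∧ critM (rep x) = true := by
  obtain ⟨i, n, hi, hn, hxe⟩ := exists_span hx
  obtain ⟨hcode, hspan⟩ := code_values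
  rw [beq_iff_eq] at hspan
  have hci := List.all_eq_true.1 hcode i (List.mem_range.2 hi)
  simp only [Bool.and_eq_true, beq_iff_eq] at hci
  have hl : n < spanSets.length := by simpa [spanSets] using hn
  have hspn : rep (prodS (spanSets.getD n [])) = spanCodes.getD n 0 := by
    have key : ∀ n : Fin 64, ∀ c ∈ spanSets.getD n.val [], c < 64 := by decide +kernel
    rw [rep_prod (key ⟨n, hn⟩), hspan, List.getD_eq_getElem (spanSets.map prodC) 0 (by simpa using hl), List.getElem_map,
      List.getD_eq_getElem spanSets [] hl]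
  have hrx : rep x = conjC i n := by
    rw [hxe, rep_mul, rep_mul, hspn, ← wordS_reverse, rep_word, rep_word, ← hci.1, ← hci.2, conjC]
    have assoc : mul (mul (lagCodes.getD i 0) (spanCodes.getD n 0)) (lagInvs.getD i 0) =
        mul (lagCodes.getD i 0) (mul (spanCodes.getD n 0) (lagInvs.getD i 0)) := by
      rw [hci.1, hci.2, ← rep_word, ← rep_word, ← hspn, ← rep_mul, ← rep_mul, ← rep_mul, ← rep_mul, mul_assoc]
    exact assoc
  have hchunk : cl (conjC i n) = cl (spanCodes.getD n 0) ∧ critB (conjC i n) = true ∧ critM (conjC i n) = true := by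
    have hall : chunk (i / 9) = true := by
      have : i / 9 < 15 := by omega
      interval_cases (i / 9)
      exacts [chunk_0, chunk_1, chunk_2, chunk_3, chunk_4, chunk_5, chunk_6, chunk_7, chunk_8, chunk_9, chunk_10,
        chunk_11, chunk_12, chunk_13, chunk_14]
    have h := List.all_eq_true.1 (List.all_eq_true.1 hall (i % 9) (List.mem_range.2 (Nat.mod_lt _ (by norm_num)))) n
      (List.mem_range.2 hn)
    simp only [Nat.div_add_mod, Bool.and_eq_true, beq_iff_eq] at h
    exact ⟨h.1.1, h.1.2, h.2⟩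
  have hcl := List.all_eq_true.1 span_class n (List.mem_range.2 hn)
  simp only [Bool.and_eq_true, Bool.or_eq_true, beq_iff_eq, bne_iff_ne, Nat.blt_eq] at hcl
  obtain ⟨⟨hw, hlt⟩, hzero⟩ := hcl
  have hcx : cx x = cl (spanCodes.getD n 0) := by rw [cx, hrx, hchunk.1]
  refine ⟨hcx ▸ hlt, fun h => ?_, ⟨wordS (spanWit.getD n []) * (wordS (lagWords.getD i []))⁻¹, ?_⟩,
    hrx ▸ hchunk.2.1, hrx ▸ hchunk.2.2⟩
  · rw [hcx] at h
    have h1 : prodS (spanSets.getD n []) = 1 := rep_inj (by rw [rep_one, hspn]; exact hzero.resolve_left (not_not.2 h))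
    rw [hxe, h1, mul_one, mul_inv_cancel]
  · rw [hcx]
    refine rep_inj ?_
    rw [rep_prod (rep_lt ⟨_, hlt⟩), ← hw]
    have e : wordS (spanWit.getD n []) * (wordS (lagWords.getD i []))⁻¹ * x *
        (wordS (spanWit.getD n []) * (wordS (lagWords.getD i []))⁻¹)⁻¹ =
        wordS (spanWit.getD n []) * (prodS (spanSets.getD n []) * (wordS (spanWit.getD n []))⁻¹) := by
      rw [hxe]; group
    rw [e, rep_mul, rep_mul, hspn, ← wordS_reverse, rep_word, rep_word]

end Cfsg.Lib.SpCentre.Code
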