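import Cfsg.Agent.LocalThree.SpCentre.Words

/-!
A linear group in which only permutations fix the sum of the basis is monomial in some frame.
-/

set_option autoImplicit false
set_option maxRecDepth 8000
set_option synthInstance.maxSize 2000

namespace Cfsg.Lib.SpCentre

open Cfsg.Lib.AmalgamSpFour

theorem app_smul' (w : Op) (a : ZMod 3) (v : V) : app w (sm a v) = sm a (app w v) := by
  simp only [app, sm, Prod.mk_add_mk, Prod.mk.injEq]
  refine ⟨?_, ?_, ?_⟩ <;> ring

theorem cmp_assoc (a b c : Op) : cmp (cmp a b) c = cmp a (cmp b c) :=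
  op_ext fun v => by simp only [app_cmp]

theorem cmp_id (w : Op) : cmp w idW = w ∧ cmp idW w = w :=
  ⟨op_ext fun v => by rw [app_cmp, app_id], op_ext fun v => by rw [app_cmp, app_id]⟩

theorem fr_inv : ∀ t : ZMod 3, cmp (fr (-t)) (fr t) = idW ∧ cmp (fr t) (fr (-t)) = idW := by decide +kernel

theorem toFr_cmp (t : ZMod 3) (a b : Op) : toFr t (cmp a b) = cmp (toFr t a) (toFr t b) := by
  simp only [toFr, cmp_assoc]
  rw [← cmp_assoc (fr t) (fr (-t)), (fr_inv t).2, (cmp_id _).2]

theorem toFr_back (t : ZMod 3) (a : Op) : toFr (-t) (toFr t a) = a := by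
  simp only [toFr, neg_neg, cmp_assoc]
  rw [(fr_inv t).2, (cmp_id a).1, ← cmp_assoc, (fr_inv t).2, (cmp_id a).2]

theorem cols (w : Op) : app w (1, 0, 0) = w.1 ∧ app w (0, 1, 0) = w.2.1 ∧ app w (0, 0, 1) = w.2.2 := by
  obtain ⟨⟨a, b, c⟩, ⟨d, e, f⟩, g, h, i⟩ := w
  simp [app, sm]

theorem toFr_id (t : ZMod 3) : toFr t idW = idW := by
  simp only [toFr, (cmp_id _).2, (fr_inv t).1]

theorem detW_cmp (a b : Op) : detW (cmp a b) = detW a * detW b := by
  show detW (app a b.1, app a b.2.1, app a b.2.2) = _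
  simp only [detW, app, sm, Prod.fst_add, Prod.snd_add]
  ring

theorem perms_facts : zW ∈ perms ∧ sW ∈ perms ∧ cW ∈ perms ∧ idW ∈ perms ∧ cmp zW sW = cW ∧
    cmp zW zW = idW ∧ cmp sW sW = idW := by decide +kernel

theorem sW_form : ∀ v : V, app sW v = v + sm (v.2.1 - v.2.2) (0, -1, 1) := by decide +kernel

theorem refl_app : ∀ f p v : V, app (refl f p) v = v + sm (dot f v) p := by
  intro f p v
  simp only [app, refl, dot, sm, Prod.mk_add_mk, Prod.mk.injEq, Prod.fst_add, Prod.snd_add]
  refine Prod.ext ?_ (Prod.ext ?_ ?_) <;> simp only [Prod.fst_add, Prod.snd_add] <;> ring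

/-- the conjugates of a fixed reflection are reflections -/
theorem conj_refl {w w' : Op} (h : cmp w w' = idW) (h' : cmp w' w = idW) :
    ∃ f p : V, dot f p = 1 ∧ cmp w (cmp sW w') = refl f p := by
  let φ : V → ZMod 3 := fun v => (app w' v).2.1 - (app w' v).2.2
  have hφ : ∀ v, φ v = dot (φ (1, 0, 0), φ (0, 1, 0), φ (0, 0, 1)) v := by
    intro v
    simp only [φ, app, sm, dot, Prod.fst_add, Prod.snd_add]
    ring
  refine ⟨(φ (1, 0, 0), φ (0, 1, 0), φ (0, 0, 1)), app w (0, -1, 1), ?_, op_ext fun v => ?_⟩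
  · rw [← hφ]
    simp only [φ]
    rw [← app_cmp, h', app_id]
    decide
  · rw [refl_app, ← hφ, app_cmp, app_cmp, sW_form, app_add, app_smul', ← app_cmp w w', h, app_id]

variable (mem : Op → Prop)

theorem frame_exists (hperm : ∀ p ∈ perms, mem p) (hmul : ∀ a b, mem a → mem b → mem (cmp a b))
    (hinv : ∀ a, mem a → ∃ b, mem b ∧ cmp a b = idW ∧ cmp b a = idW)
    (hfix : ∀ p, mem p → app p vZ = vZ → p ∈ perms) :
    ∃ t : ZMod 3, ∀ w, mem w → toFr t w ∈ M48 := by
  classical
  obtain ⟨hzp, hsp, hcp, hip, hzs, hzz, hss⟩ := perms_facts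
  have hF : ∀ p, mem p → fixPerm p = true := by
    intro p hp
    by_cases h : app p vZ = vZ
    · simp [fixPerm, isPerm, List.elem_eq_mem, hfix p hp h]
    · simp [fixPerm, h]
  have hprd : ∀ l : List Op, (∀ x ∈ l, mem x) → mem (prd l) := by
    intro l
    induction l with
    | nil => intro _; exact hperm _ hip
    | cons a l ih =>
      intro h
      cases l with
      | nil => exact h a List.mem_cons_self
      | cons b l => exact hmul _ _ (h a List.mem_cons_self) (ih fun x hx => h x (List.mem_cons_of_mem _ hx))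
  have hm : ∀ {x : Op}, x ∈ [zW, sW, cW] → mem x := fun {x} hx => by
    simp only [List.mem_cons, List.not_mem_nil, or_false] at hx
    rcases hx with rfl | rfl | rfl
    exacts [hperm _ hzp, hperm _ hsp, hperm _ hcp]
  -- the reflections of the group lie in frames
  let R : Op → Prop := fun r => mem r ∧ ∃ t : ZMod 3, inFr t r = true
  have hconj : ∀ w, mem w → ∀ w', mem w' → cmp w w' = idW → cmp w' w = idW → R (cmp w (cmp sW w')) := by
    intro w hw w' hw' h h'
    have hr : mem (cmp w (cmp sW w')) := hmul _ _ hw (hmul _ _ (hperm _ hsp) hw')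
    refine ⟨hr, ?_⟩
    obtain ⟨f, p, hfp, e⟩ := conj_refl h h'
    rw [e] at hr ⊢
    have h1 := one_ok f p
    have hall : (oneWords (refl f p)).all (fun l => fixPerm (prd l)) = true := by
      refine List.all_eq_true.2 fun l hl => hF _ (hprd l fun x hx => ?_)
      have hs : mem sW := hperm _ hsp
      have hc : mem cW := hperm _ hcp
      simp only [oneWords, List.mem_cons, List.not_mem_nil, or_false] at hl
      rcases hl with rfl | rfl | rfl | rfl | rfl <;>
        (simp only [List.mem_cons, List.not_mem_nil, or_false] at hx;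
         rcases hx with rfl | rfl | rfl | rfl | rfl | rfl <;> assumption)
    simp only [oneOk, hfp, decide_true, Bool.not_true, Bool.false_or, hall, Bool.or_eq_true] at h1
    rcases h1 with (h1 | h1) | h1
    exacts [⟨0, h1⟩, ⟨1, h1⟩, ⟨2, h1⟩]
  have hpair : ∀ {u x : Op}, mem u → mem x → (twoWords u x).all (fun l => fixPerm (prd l)) = true := by
    intro u x hu hx'
    refine List.all_eq_true.2 fun l hl => hF _ (hprd l fun y hy => ?_)
    have hc : mem cW := hperm _ hcp
    simp only [twoWords, List.mem_cons, List.not_mem_nil, or_false] at hl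
    rcases hl with rfl | rfl | rfl | rfl | rfl | rfl <;>
      (simp only [List.mem_cons, List.not_mem_nil, or_false] at hy;
       rcases hy with rfl | rfl | rfl | rfl | rfl | rfl <;> assumption)
  -- the frame
  obtain ⟨t, ht⟩ : ∃ t : ZMod 3, ∀ r, R r → inFr t r = true := by
    by_cases hnp : ∃ r, R r ∧ ¬ isPerm r = true
    · obtain ⟨r, ⟨hr, i, hi⟩, hrp⟩ := hnp
      refine ⟨i, fun x ⟨hx, j, hj⟩ => ?_⟩
      by_cases hij : i = j
      · exact hij ▸ hj
      have two : twoOk i j = true := by
        rcases (show ∀ i j : ZMod 3, i ≠ j → (i = 0 ∧ j = 1) ∨ (i = 0 ∧ j = 2) ∨ (i = 1 ∧ j = 2) ∨ (i = 1 ∧ j = 0) ∨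
          (i = 2 ∧ j = 0) ∨ (i = 2 ∧ j = 1) by decide) i j hij with
          ⟨rfl, rfl⟩ | ⟨rfl, rfl⟩ | ⟨rfl, rfl⟩ | ⟨rfl, rfl⟩ | ⟨rfl, rfl⟩ | ⟨rfl, rfl⟩
        exacts [two_01, two_02, two_12, two_10, two_20, two_21]
      simp only [inFr, List.elem_eq_mem, decide_eq_true_eq] at hi hj
      have h2 := List.all_eq_true.1 (List.all_eq_true.1 two _ hi) _ hj
      rw [toFr_back, toFr_back, hpair hr hx, Bool.not_true, Bool.or_false, Bool.or_eq_true] at h2
      rcases h2 with h2 | h2
      · exfalso
        have hm0 := meet_all i j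
        rw [Bool.or_eq_true, beq_iff_eq] at hm0
        have h3 := List.all_eq_true.1 (hm0.resolve_left hij) _ hi
        rw [toFr_back, h2, Bool.not_true, Bool.false_or] at h3
        exact hrp h3
      · exact h2
    · push Not at hnp
      refine ⟨0, fun r hr => ?_⟩
      have h1 := hnp r hr
      obtain ⟨-, t, ht⟩ := hr
      have h2 := List.all_eq_true.1 (perm_fixed t) r (by simpa [isPerm, List.elem_eq_mem] using h1)
      have h3 := List.all_eq_true.1 (perm_fixed 0) r (by simpa [isPerm, List.elem_eq_mem] using h1)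
      rw [beq_iff_eq] at h2 h3
      simp only [inFr, h2] at ht
      simp only [inFr, h3, ht]
  refine ⟨t, fun w hw => ?_⟩
  obtain ⟨w', hw', hww, hww'⟩ := hinv w hw
  set W := toFr t w with hW
  have hz : cmp sW sW = idW := hss
  have hzconj : R (cmp w (cmp zW w')) := by
    -- the other exchange is conjugate under a permutation
    obtain ⟨q, hq, q', hq', hqq, hqq', he⟩ : ∃ q ∈ perms, ∃ q' ∈ perms, cmp q q' = idW ∧ cmp q' q = idW ∧
        cmp q (cmp sW q') = zW := by decide +kernel
    have h := hconj (cmp w q) (hmul _ _ hw (hperm _ hq)) (cmp q' w') (hmul _ _ (hperm _ hq') hw')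
      (by rw [cmp_assoc, ← cmp_assoc q, hqq, (cmp_id _).2, hww])
      (by rw [cmp_assoc, ← cmp_assoc w', hww', (cmp_id _).2, hqq'])
    rwa [cmp_assoc, ← cmp_assoc sW, ← cmp_assoc q, he] at h
  have hsconj := hconj w hw w' hw' hww hww'
  have hq := ht _ hzconj
  have hr := ht _ hsconj
  simp only [inFr, List.elem_eq_mem, decide_eq_true_eq] at hq hr
  set q := toFr t (cmp w (cmp zW w')) with hqd
  set r := toFr t (cmp w (cmp sW w')) with hrd
  have hfz : toFr t zW = zW := by
    have := List.all_eq_true.1 (perm_fixed t) zW hzp; simpa using this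
  have hfs : toFr t sW = sW := by
    have := List.all_eq_true.1 (perm_fixed t) sW hsp; simpa using this
  have e1 : cmp W zW = cmp q W := by
    rw [hW, hqd, ← toFr_cmp, cmp_assoc, cmp_assoc, hww', (cmp_id _).1, toFr_cmp, hfz]
  have e2 : cmp W sW = cmp r W := by
    rw [hW, hrd, ← toFr_cmp, cmp_assoc, cmp_assoc, hww', (cmp_id _).1, toFr_cmp, hfs]
  have e3 : cmp W cW = cmp (cmp q r) W := by
    rw [← hzs, ← cmp_assoc, e1, cmp_assoc, e2, ← cmp_assoc]
  have hform : W = (W.1, app (cmp q r) W.1, app (cmp q r) (app (cmp q r) W.1)) := by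
    have h1 : W.2.1 = app (cmp q r) W.1 := by
      have h := congrArg (fun z => app z (1, 0, 0)) e3
      simp only [app_cmp] at h
      have a1 : app cW (1, 0, 0) = (0, 1, 0) := by decide
      have a2 : app W (1, 0, 0) = W.1 := by exact (cols W).1
      have a3 : app W (0, 1, 0) = W.2.1 := (cols W).2.1
      rw [a1, a3, a2] at h
      exact h.trans (app_cmp q r _).symm
    have h2 : W.2.2 = app (cmp q r) W.2.1 := by
      have h := congrArg (fun z => app z (0, 1, 0)) e3
      simp only [app_cmp] at h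
      have a1 : app cW (0, 1, 0) = (0, 0, 1) := by decide
      have a2 : app W (0, 0, 1) = W.2.2 := (cols W).2.2
      have a3 : app W (0, 1, 0) = W.2.1 := (cols W).2.1
      rw [a1, a3, a2] at h
      exact h.trans (app_cmp q r _).symm
    exact Prod.ext rfl (Prod.ext h1 (by rw [← h1]; exact h2))
  have hdet : detW W ≠ 0 := by
    intro h0
    have h := detW_cmp W (toFr t w')
    rw [h0, zero_mul, hW, ← toFr_cmp, hww, toFr_id] at h
    exact absurd h (by decide +kernel)
  by_cases hnp : ∃ x, R x ∧ ¬ isPerm x = true ∧ ∃ v v', mem v ∧ mem v' ∧ cmp v v' = idW ∧ cmp v' v = idW ∧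
      x = cmp v (cmp sW v')
  · obtain ⟨x, hxR, hxp, v, v', hv, hv', hvv, hvv', hxe⟩ := hnp
    have hxin : inFr t x = true := ht x hxR
    have hmv := hconj (cmp w v) (hmul _ _ hw hv) (cmp v' w') (hmul _ _ hv' hw')
      (by rw [cmp_assoc, ← cmp_assoc v, hvv, (cmp_id _).2, hww])
      (by rw [cmp_assoc, ← cmp_assoc w', hww', (cmp_id _).2, hvv'])
    rw [cmp_assoc, ← cmp_assoc sW, ← cmp_assoc v, ← hxe] at hmv
    have hs := ht _ hmv
    simp only [inFr, List.elem_eq_mem, decide_eq_true_eq] at hxin hs
    have e4 : cmp W (toFr t x) = cmp (toFr t (cmp w (cmp x w'))) W := by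
      rw [hW, ← toFr_cmp, ← toFr_cmp, cmp_assoc, cmp_assoc, hww', (cmp_id _).1]
    have hxp' : isPerm (toFr t x) = false := by
      by_contra hc
      rw [Bool.not_eq_false] at hc
      refine hxp ?_
      have h := List.all_eq_true.1 (perm_fixed (-t)) _ (by simpa [isPerm, List.elem_eq_mem] using hc)
      rw [toFr_back, beq_iff_eq] at h
      rwa [← h] at hc
    have hmono := List.all_eq_true.1 (List.all_eq_true.1 (mono_all W.1) q hq) r hr
    dsimp only at hmono
    rw [← hform] at hmono
    simp only [e1, e2, decide_true, Bool.not_true, Bool.false_or, decide_eq_false hdet, Bool.or_eq_true] at hmono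
    rcases hmono with h | h
    · simpa [List.elem_eq_mem] using h
    · exfalso
      have h2 := List.all_eq_true.1 h _ hxin
      rw [hxp', Bool.false_or] at h2
      have h3 := List.all_eq_true.1 h2 _ hs
      simp [e4] at h3
  · push Not at hnp
    have hall : ∀ v, mem v → ∀ v', mem v' → cmp v v' = idW → cmp v' v = idW → isPerm (cmp v (cmp sW v')) = true :=
      fun v hv v' hv' hvv hvv' => by
        by_contra hc
        exact hnp _ (hconj v hv v' hv' hvv hvv') hc v v' hv hv' hvv hvv' rfl
    obtain ⟨g, hg, g', hg', hgg, hgg', he⟩ : ∃ q ∈ perms, ∃ q' ∈ perms, cmp q q' = idW ∧ cmp q' q = idW ∧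
        cmp q (cmp sW q') = zW := by decide +kernel
    have hzp' : isPerm (cmp w (cmp zW w')) = true := by
      have h := hall (cmp w g) (hmul _ _ hw (hperm _ hg)) (cmp g' w') (hmul _ _ (hperm _ hg') hw')
        (by rw [cmp_assoc, ← cmp_assoc g, hgg, (cmp_id _).2, hww])
        (by rw [cmp_assoc, ← cmp_assoc w', hww', (cmp_id _).2, hgg'])
      rwa [cmp_assoc, ← cmp_assoc sW, ← cmp_assoc g, he] at h
    have hsp' := hall w hw w' hw' hww hww'
    have hfp : ∀ p, isPerm p = true → isPerm (toFr t p) = true := fun p hp => by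
      have := List.all_eq_true.1 (perm_fixed t) p (by simpa [isPerm, List.elem_eq_mem] using hp)
      rw [beq_iff_eq] at this
      rwa [this]
    have h := List.all_eq_true.1 (List.all_eq_true.1 (perm_all W.1) q hq) r hr
    dsimp only at h
    rw [← hform] at h
    have hqp : isPerm q = true := by rw [hqd]; exact hfp _ hzp'
    have hrp : isPerm r = true := by rw [hrd]; exact hfp _ hsp'
    simp only [hqp, hrp, e1, e2, decide_true, Bool.not_true, Bool.false_or, decide_eq_false hdet,
      Bool.or_eq_true] at h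
    rcases h with h | h
    · simpa [List.elem_eq_mem] using h
    · exfalso
      obtain ⟨p, hp, hbad⟩ := List.any_eq_true.1 h
      have hfix' : ∀ z, mem z → fixPerm (toFr t z) = true := by
        intro z hz
        have hv : ∀ t : ZMod 3, app (fr t) vZ = vZ := by decide +kernel
        have h1 := hF z hz
        simp only [fixPerm, Bool.or_eq_true, Bool.not_eq_true', decide_eq_false_iff_not] at h1 ⊢
        by_cases hzv : app z vZ = vZ
        · exact Or.inr (hfp z (h1.resolve_left (not_not.2 hzv)))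
        · refine Or.inl fun hc => hzv ?_
          have e : z = cmp (fr t) (cmp (toFr t z) (fr (-t))) := by
            have := toFr_back t z
            simpa [toFr] using this.symm
          rw [e, app_cmp, app_cmp, hv, hc, hv]
      have hpe : toFr t p = p := by
        have := List.all_eq_true.1 (perm_fixed t) p hp; simpa using this
      have b1 := hfix' (cmp p w) (hmul _ _ (hperm _ hp) hw)
      have b2 := hfix' (cmp (cmp p w) (cmp p w)) (hmul _ _ (hmul _ _ (hperm _ hp) hw) (hmul _ _ (hperm _ hp) hw))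
      simp only [toFr_cmp, hpe, ← hW] at b1 b2
      simp [b1, b2] at hbad

end Cfsg.Lib.SpCentre
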