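import Cfsg.Agent.AmalgamSpFour.Model

/-!
Reflections which generate, with the permutations, a group in which only permutations fix the sum
of the basis.
-/

set_option autoImplicit false
set_option maxRecDepth 8000
set_option synthInstance.maxSize 2000

namespace Cfsg.Lib.SpCentre

open Cfsg.Lib.AmalgamSpFour

/-- the exchange fixing the first vector -/
def sW : Op := ((1, 0, 0), (0, 0, 1), (0, 1, 0))

/-- the change of frame -/
def fr (t : ZMod 3) : Op := ((1 + t, t, t), (t, 1 + t, t), (t, t, 1 + t))

/-- the pairing -/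
def dot (f p : V) : ZMod 3 := f.1 * p.1 + f.2.1 * p.2.1 + f.2.2 * p.2.2

/-- the map `v ↦ v + f(v) p` -/
def refl (f p : V) : Op := ((1, 0, 0) + sm f.1 p, (0, 1, 0) + sm f.2.1 p, (0, 0, 1) + sm f.2.2 p)

/-- the six permutations, literally -/
def isPerm (w : Op) : Bool := perms.elem w

/-- the nine reflections of the standard frame -/
def R0 : List Op :=
  [((0, 1, 0), (1, 0, 0), (0, 0, 1)), ((0, 0, 1), (0, 1, 0), (1, 0, 0)), ((1, 0, 0), (0, 0, 1), (0, 1, 0)),
   ((0, -1, 0), (-1, 0, 0), (0, 0, 1)), ((0, 0, -1), (0, 1, 0), (-1, 0, 0)), ((1, 0, 0), (0, 0, -1), (0, -1, 0)),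
   ((-1, 0, 0), (0, 1, 0), (0, 0, 1)), ((1, 0, 0), (0, -1, 0), (0, 0, 1)), ((1, 0, 0), (0, 1, 0), (0, 0, -1))]

/-- transport to a frame -/
def toFr (t : ZMod 3) (w : Op) : Op := cmp (fr (-t)) (cmp w (fr t))

/-- membership in a frame -/
def inFr (t : ZMod 3) (w : Op) : Bool := R0.elem (toFr t w)

/-- a product -/
def prd : List Op → Op
  | [] => idW
  | [p] => p
  | p :: l => cmp p (prd l)

/-- only permutations fix the sum -/
def fixPerm (p : Op) : Bool := !decide (app p vZ = vZ) || isPerm p

/-- the single words -/
def oneWords (r : Op) : List (List Op) :=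
  [[r, cW, r, cW, cW, r], [r, cW, cW, r, cW, r], [r, sW, r], [r, cW, sW, r], [r, sW, cW, r]]

/-- the double words -/
def twoWords (u x : Op) : List (List Op) :=
  [[x, u, x], [x, cW, u, cW, cW, x], [u, cW, x, cW, cW, u], [u, x, u], [x, u, x, u, x], [u, x, u, x, u]]

/-- one reflection lies in a frame -/
def oneOk (f p : V) : Bool :=
  !decide (dot f p = 1) || !(oneWords (refl f p)).all (fun l => fixPerm (prd l)) ||
    inFr 0 (refl f p) || inFr 1 (refl f p) || inFr 2 (refl f p)

theorem one_ok : ∀ f p : V, oneOk f p = true := by decide +kernel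

/-- two reflections lie in one frame -/
def twoOk (i j : ZMod 3) : Bool :=
  R0.all fun u => R0.all fun x =>
    inFr j (toFr (-i) u) || inFr i (toFr (-j) x) ||
      !(twoWords (toFr (-i) u) (toFr (-j) x)).all (fun l => fixPerm (prd l))

theorem two_01 : twoOk 0 1 = true := by decide +kernel
theorem two_02 : twoOk 0 2 = true := by decide +kernel
theorem two_12 : twoOk 1 2 = true := by decide +kernel
theorem two_10 : twoOk 1 0 = true := by decide +kernel
theorem two_20 : twoOk 2 0 = true := by decide +kernel
theorem two_21 : twoOk 2 1 = true := by decide +kernel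

/-- frames meet in permutations -/
def meetOk (i j : ZMod 3) : Bool :=
  R0.all fun u => !inFr j (toFr (-i) u) || isPerm (toFr (-i) u)

theorem meet_all : ∀ i j : ZMod 3, (i == j || meetOk i j) = true := by decide +kernel

theorem perm_frames : ∀ t : ZMod 3, inFr t sW = true ∧ inFr t zW = true := by decide +kernel

theorem perm_fixed : ∀ t : ZMod 3, perms.all (fun p => toFr t p == p) = true := by decide +kernel

/-- monomial maps -/
def M48 : List Op := WL ++ WL.map fun w => (-w.1, -w.2.1, -w.2.2)

/-- the determinant -/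
def detW (w : Op) : ZMod 3 :=
  w.1.1 * (w.2.1.2.1 * w.2.2.2.2 - w.2.2.2.1 * w.2.1.2.2) -
    w.2.1.1 * (w.1.2.1 * w.2.2.2.2 - w.2.2.2.1 * w.1.2.2) +
      w.2.2.1 * (w.1.2.1 * w.2.1.2.2 - w.2.1.2.1 * w.1.2.2)

/-- a map normalising three reflections, one of them not a permutation, is monomial -/
def monoOk (v : V) : Bool :=
  R0.all fun q => R0.all fun r =>
    let u := cmp q r
    let w : Op := (v, app u v, app u (app u v))
    !decide (cmp w zW = cmp q w) || !decide (cmp w sW = cmp r w) || decide (detW w = 0) || M48.elem w ||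
      R0.all fun x => isPerm x || R0.all fun s => !decide (cmp w x = cmp s w)

theorem mono_all : ∀ v : V, monoOk v = true := by decide +kernel

/-- a map normalising the permutations is monomial or has a bad product -/
def permOk (v : V) : Bool :=
  R0.all fun q => R0.all fun r =>
    let u := cmp q r
    let w : Op := (v, app u v, app u (app u v))
    !isPerm q || !isPerm r || !decide (cmp w zW = cmp q w) || !decide (cmp w sW = cmp r w) ||
      decide (detW w = 0) || M48.elem w ||
      perms.any fun p => !fixPerm (cmp p w) || !fixPerm (cmp (cmp p w) (cmp p w))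

theorem perm_all : ∀ v : V, permOk v = true := by decide +kernel

end Cfsg.Lib.SpCentre
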