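import Cfsg.Agent.LocalThree.SpCentre.Model
import Cfsg.Agent.LocalThree.SpCentre.Words

/-!
Central automorphisms of the model which change the frame, and finite facts about monomial maps.
-/

set_option autoImplicit false
set_option maxRecDepth 8000
set_option synthInstance.maxSize 2000

namespace Cfsg.Lib.SpCentre

open Cfsg.Lib.HeisSL Cfsg.Lib.AmalgamSpFour
open scoped MatrixGroups

/-- the homomorphism onto the field of three elements -/
def chiA (A : SL(2, ZMod 3)) : ZMod 3 :=
  if (A * A) * (A * A) = 1 then 0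
  else if (A * uni 2 * (A * uni 2)) * (A * uni 2 * (A * uni 2)) = 1 then 1 else 2

theorem chiA_mul : ∀ A B : SL(2, ZMod 3), chiA (A * B) = chiA A + chiA B := by decide +kernel

theorem chiA_uni : ∀ k : ZMod 3, chiA (uni k) = k := by decide +kernel

/-- the change of frame -/
def twist (t : ZMod 3) (m : Mdl) : Mdl := ⟨m.i, m.j, m.z + t * chiA m.A, m.A⟩

theorem twist_mul (t : ZMod 3) (m n : Mdl) : twist t (m * n) = twist t m * twist t n := by
  apply Mdl.ext <;> simp [twist, chiA_mul]
  ring

theorem twist_twist (t : ZMod 3) (m : Mdl) : twist t (twist (-t) m) = m := by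
  apply Mdl.ext <;> simp [twist]

theorem twist_mv : ∀ (t : ZMod 3) (v : V), twist t (mv v) = mv (app (fr t) v) := by decide +kernel

theorem fr_app : ∀ (t : ZMod 3) (v : V), app (fr t) (app (fr (-t)) v) = v ∧ app (fr t) vZ = vZ := by decide +kernel

theorem vec_split' : ∀ v : V, v = sm v.1 (1, 0, 0) + sm v.2.1 (0, 1, 0) + sm v.2.2 (0, 0, 1) := by decide +kernel

theorem sm_cases' : ∀ (k : ZMod 3) (v : V),
    (k = 0 ∧ sm k v = 0) ∨ (k = 1 ∧ sm k v = v) ∨ (k = 2 ∧ sm k v = v + v) := by decide +kernel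

theorem mono_thin_b : (M48.all fun x => !decide (cmp x (cmp x x) = idW) || decide (x = idW) ||
    decide (∀ u : V, app x u = u → u ≠ 0 → ∀ v : V, app x v = v → (v = 0 ∨ v = u ∨ v = -u))) = true := by
  decide +kernel

theorem mono_thin {x : Op} (hx : x ∈ M48) (h3 : cmp x (cmp x x) = idW) (h1 : x ≠ idW) {u v : V}
    (hu : app x u = u) (hv : app x v = v) (hu0 : u ≠ 0) : v = 0 ∨ v = u ∨ v = -u := by
  have h := List.all_eq_true.1 mono_thin_b x hx
  simp only [h3, h1, decide_true, Bool.not_true, decide_false, Bool.false_or, decide_eq_true_eq] at h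
  exact h u hu hu0 v hv

theorem mono_three_b : (M48.all fun x => !decide (cmp x (cmp x x) = idW) || decide (x = idW) ||
    M48.all fun y => !decide (cmp y (cmp y y) = idW) ||
      !decide (cmp (cmp x y) (cmp (cmp x y) (cmp x y)) = idW) ||
      !decide (cmp (cmp x (cmp y y)) (cmp (cmp x (cmp y y)) (cmp x (cmp y y))) = idW) ||
      decide (y = idW) || decide (y = x) || decide (y = cmp x x)) = true := by decide +kernel

theorem mono_three {x y : Op} (hx : x ∈ M48) (hy : y ∈ M48) (hx3 : cmp x (cmp x x) = idW)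
    (hy3 : cmp y (cmp y y) = idW) (h1 : x ≠ idW)
    (h : cmp (cmp x y) (cmp (cmp x y) (cmp x y)) = idW)
    (h' : cmp (cmp x (cmp y y)) (cmp (cmp x (cmp y y)) (cmp x (cmp y y))) = idW) :
    y = idW ∨ y = x ∨ y = cmp x x := by
  have e := List.all_eq_true.1 mono_three_b x hx
  simp only [hx3, h1, decide_true, Bool.not_true, decide_false, Bool.false_or] at e
  have e' := List.all_eq_true.1 e y hy
  simpa only [hy3, h, h', decide_true, Bool.not_true, Bool.false_or, Bool.or_eq_true, decide_eq_true_eq,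
    or_assoc] using e'

/-- the twelfth power -/
def p12 (x : Op) : Op :=
  let x4 := cmp (cmp x x) (cmp x x)
  cmp x4 (cmp x4 x4)

theorem mono_twelve_b : (M48.all fun x => decide (p12 x = idW)) = true := by decide +kernel

theorem mono_twelve {x : Op} (hx : x ∈ M48) :
    cmp (cmp (cmp x x) (cmp x x)) (cmp (cmp (cmp x x) (cmp x x)) (cmp (cmp x x) (cmp x x))) = idW := by
  have h := List.all_eq_true.1 mono_twelve_b x hx
  rw [decide_eq_true_eq] at h
  exact h

theorem upper_nine_b : ∀ i j z k : ZMod 3,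
    let m : Mdl := ⟨i, j, z, uni k⟩
    m * (m * m) * (m * (m * m) * (m * (m * m))) = e0 := by decide +kernel

theorem upper_nine (m : Mdl) (h : m.A = uni (chiA m.A)) :
    m * (m * m) * (m * (m * m) * (m * (m * m))) = e0 := by
  obtain ⟨i, j, z, A⟩ := m
  simp only at h
  rw [h]
  exact upper_nine_b i j z _

theorem upper_closed : ∀ A B : SL(2, ZMod 3), A = uni (chiA A) → B = uni (chiA B) → A * B = uni (chiA (A * B)) := by
  decide +kernel

theorem upper_extra : (⟨0, 1, 0, 1⟩ : Mdl).A = uni (chiA (⟨0, 1, 0, 1⟩ : Mdl).A) ∧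
    (∀ v : V, mv v ≠ (⟨0, 1, 0, 1⟩ : Mdl)) ∧ ∀ v : V, (mv v).A = uni (chiA (mv v).A) := by decide +kernel

end Cfsg.Lib.SpCentre
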