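import Cfsg.Agent.LocalThree.SpCentre.Setup
import Cfsg.Agent.LocalThree.SpCentre.Twist
import Cfsg.Agent.LocalThree.SpCentre.Frame
import Cfsg.Agent.LocalThree.RankThree.Point

/-!
The normaliser of the abelian subgroup acts by monomial maps; Sylow subgroups and fusion.
-/

set_option autoImplicit false
set_option linter.unusedSectionVars false
set_option maxRecDepth 8000

namespace Cfsg.Lib.SpCentre

open Subgroup Cfsg.Lib.HeisSL Cfsg.Lib.AmalgamSpFour

universe u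

variable {G : Type u} [Group G] [Finite G]

theorem r_inv_fact : (⟨0, 2, 0, 1⟩ : Mdl) * ⟨0, 1, 0, 1⟩ = e0 := by decide +kernel

namespace Data

variable (D : Data G)

/-- coordinates of the abelian subgroup -/
def ι (v : V) : G := D.Ψ (mv v)

theorem Ψ_one : D.Ψ e0 = 1 := mul_eq_left.1 (by rw [← D.hmul, mul_one'.1])

theorem ι_zero : D.ι 0 = 1 := by rw [ι, mul_one'.2.2, D.Ψ_one]

theorem ι_add (v w : V) : D.ι (v + w) = D.ι v * D.ι w := by rw [ι, mv_add, D.hmul]; rfl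

theorem ι_inj {v w : V} (h : D.ι v = D.ι w) : v = w := mv_inj v w (D.inj h)

theorem ι_neg (v : V) : D.ι (-v) = (D.ι v)⁻¹ := by
  refine eq_inv_of_mul_eq_one_left ?_
  rw [← D.ι_add, neg_add_cancel, D.ι_zero]

theorem ι_comm (v w : V) : D.ι v * D.ι w = D.ι w * D.ι v := by rw [← D.ι_add, ← D.ι_add, add_comm]

theorem ι_conj (v w : V) : D.ι v * D.ι w * (D.ι v)⁻¹ = D.ι w := by rw [D.ι_comm, mul_inv_cancel_right]

theorem ι_cube (v : V) : D.ι v * (D.ι v * D.ι v) = 1 := by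
  rw [← D.ι_add, ← D.ι_add, ← D.ι_zero]
  congr 1
  revert v; decide +kernel

theorem ι_ne_one {v : V} (h : v ≠ 0) : D.ι v ≠ 1 := fun e => h (D.ι_inj (e.trans D.ι_zero.symm))

theorem ι_order {v : V} (h : v ≠ 0) : orderOf (D.ι v) = 3 := by
  haveI : Fact (Nat.Prime 3) := ⟨Nat.prime_three⟩
  exact orderOf_eq_prime (by rw [pow_succ', pow_succ', pow_one, D.ι_cube]) (D.ι_ne_one h)

/-- the abelian subgroup -/
def J : Subgroup G where
  carrier := Set.range D.ι
  one_mem' := ⟨0, D.ι_zero⟩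
  mul_mem' := by rintro _ _ ⟨a, rfl⟩ ⟨b, rfl⟩; exact ⟨a + b, D.ι_add a b⟩
  inv_mem' := by rintro _ ⟨a, rfl⟩; exact ⟨-a, D.ι_neg a⟩

theorem mem_J (v : V) : D.ι v ∈ D.J := ⟨v, rfl⟩

theorem card_J : Nat.card D.J = 27 := by
  have e : Nat.card (Set.range D.ι) = 27 := by
    rw [Nat.card_congr (Equiv.ofInjective D.ι fun _ _ h => D.ι_inj h).symm, Nat.card_eq_fintype_card]
    rfl
  exact e

theorem J_isPGroup : IsPGroup 3 D.J := IsPGroup.of_card (n := 3) (by rw [D.card_J]; norm_num)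

theorem self {g : G} (hg : ∀ v, g * D.ι v = D.ι v * g) : g ∈ D.J := by
  obtain ⟨m, rfl⟩ := D.cent g (hg vZ)
  have h : ∀ v, m * mv v = mv v * m := fun v => D.inj (by rw [D.hmul, D.hmul]; exact hg v)
  obtain ⟨v, rfl⟩ := self_cent m (h _) (h _) (h _)
  exact D.mem_J v

/-- conjugation by `g` has matrix `w` -/
def Acts (g : G) (w : Op) : Prop := ∀ v, g * D.ι v * g⁻¹ = D.ι (app w v)

variable {D}

theorem Acts.mul {a b : G} {w w' : Op} (ha : D.Acts a w) (hb : D.Acts b w') : D.Acts (a * b) (cmp w w') := by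
  intro v
  rw [app_cmp, ← ha, ← hb]; group

theorem Acts.unique {a : G} {w w' : Op} (ha : D.Acts a w) (hb : D.Acts a w') : w = w' :=
  op_ext fun v => D.ι_inj ((ha v).symm.trans (hb v))

theorem acts_one : D.Acts 1 idW := fun v => by rw [app_id]; group

theorem acts_ι (v : V) : D.Acts (D.ι v) idW := fun w => by rw [app_id, D.ι_conj]

theorem Acts.conj_comm {a : G} {w : Op} (ha : D.Acts a w) (v : V) : a * D.ι v = D.ι (app w v) * a := by
  rw [← ha, inv_mul_cancel_right]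

theorem Acts.fix_iff {a : G} {w : Op} (ha : D.Acts a w) (v : V) : a * D.ι v = D.ι v * a ↔ app w v = v := by
  rw [ha.conj_comm]
  exact ⟨fun h => D.ι_inj (mul_right_cancel h), fun h => by rw [h]⟩

theorem Acts.mem_J {a : G} (ha : D.Acts a idW) : a ∈ D.J :=
  D.self fun v => by rw [ha.conj_comm, app_id]

theorem Acts.mem_N {a : G} {w : Op} (ha : D.Acts a w) : a ∈ normalizer (D.J : Set G) := by
  refine mem_normalizer_iff_map_conj_eq.2 (Subgroup.eq_of_le_of_card_ge ?_ ?_)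
  · rintro _ ⟨_, ⟨v, rfl⟩, rfl⟩
    exact ⟨app w v, (ha v).symm⟩
  · rw [card_map_of_injective (MulAut.conj a).injective]

variable (D)

theorem exists_op {g : G} (hg : ∀ v, g * D.ι v * g⁻¹ ∈ Set.range D.ι) : ∃ w, D.Acts g w := by
  choose f hf using hg
  have hadd : ∀ v v', f (v + v') = f v + f v' := fun v v' => D.ι_inj (by
    rw [hf, D.ι_add, D.ι_add, hf, hf]; group)
  have hzero : f 0 = 0 := D.ι_inj (by rw [hf, D.ι_zero, mul_one, mul_inv_cancel])
  have hsm : ∀ k v, f (sm k v) = sm k (f v) := by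
    intro k v
    rcases sm_cases' k v with ⟨rfl, e⟩ | ⟨rfl, e⟩ | ⟨rfl, e⟩ <;> rw [e]
    · rw [hzero]; simp [sm]; rfl
    · simp [sm]
    · rw [hadd]
      rcases sm_cases' 2 (f v) with ⟨h, -⟩ | ⟨h, -⟩ | ⟨-, e'⟩
      · exact absurd h (by decide)
      · exact absurd h (by decide)
      · exact e'.symm
  refine ⟨(f (1, 0, 0), f (0, 1, 0), f (0, 0, 1)), fun v => ?_⟩
  rw [← hf]
  congr 1
  conv_lhs => rw [vec_split' v]
  rw [hadd, hadd, hsm, hsm, hsm]
  rfl

theorem exists_op_of_mem {g : G} (hg : g ∈ normalizer (D.J : Set G)) : ∃ w, D.Acts g w :=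
  D.exists_op fun v => (mem_normalizer_iff.1 hg _).1 (D.mem_J v)

theorem exists_perm {p : Op} (hp : p ∈ perms) : ∃ g, D.Acts g p := by
  obtain ⟨m, hm⟩ := perm_real p hp
  exact ⟨D.Ψ m, fun v => mul_inv_eq_iff_eq_mul.2 (by rw [ι, ι, ← D.hmul, ← D.hmul, hm])⟩

theorem fix_perm {g : G} {w : Op} (hg : D.Acts g w) (hw : app w vZ = vZ) : w ∈ perms := by
  obtain ⟨m, rfl⟩ := D.cent g ((hg.fix_iff vZ).2 hw)
  have h : ∀ v, m * mv v = mv (app w v) * m := fun v => D.inj (by rw [D.hmul, D.hmul]; exact hg.conj_comm v)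
  obtain ⟨p, hp, hmp⟩ := stab_perm m ⟨_, h _⟩ ⟨_, h _⟩
  have hgp : D.Acts (D.Ψ m) p := fun v => mul_inv_eq_iff_eq_mul.2 (by rw [ι, ι, ← D.hmul, ← D.hmul, hmp])
  rw [hg.unique hgp]
  exact hp

/-- the same data in another frame -/
def rebase (t : ZMod 3) : Data G where
  Ψ := fun m => D.Ψ (twist t m)
  inj := fun m n h => by
    have := congrArg (twist (-t)) (D.inj h)
    have key : ∀ x, twist (-t) (twist t x) = x := fun x => by
      have := twist_twist (-t) x; rwa [neg_neg] at this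
    rwa [key, key] at this
  hmul := fun m n => by rw [twist_mul, D.hmul]
  cent := fun g hg => by
    rw [twist_mv, (fr_app t vZ).2] at hg
    obtain ⟨m, rfl⟩ := D.cent g hg
    exact ⟨twist (-t) m, by rw [twist_twist]⟩
  sig := fun K hK hn => D.sig K hK fun v k hk => by
    have := hn (app (fr (-t)) v) k hk
    rwa [twist_mv, (fr_app t v).1] at this

theorem rebase_ι (t : ZMod 3) (v : V) : (D.rebase t).ι v = D.ι (app (fr t) v) := by
  show D.Ψ (twist t (mv v)) = _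
  rw [twist_mv]; rfl

end Data

/-- The data with monomial action. -/
structure Loc (G : Type u) [Group G] extends Data G where
  mono : ∀ g w, toData.Acts g w → w ∈ M48

theorem exists_loc (D : Data G) : ∃ L : Loc G, L.ι vZ = D.ι vZ ∧ L.J = D.J := by
  let mem : Op → Prop := fun w => ∃ g, D.Acts g w
  obtain ⟨t, ht⟩ := frame_exists mem (fun p hp => D.exists_perm hp)
    (fun a b ⟨g, hg⟩ ⟨g', hg'⟩ => ⟨g * g', hg.mul hg'⟩)
    (fun a ⟨g, hg⟩ => by
      obtain ⟨b, hb⟩ := D.exists_op (g := g⁻¹) fun v =>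
        ((mem_normalizer_iff.1 (inv_mem hg.mem_N)) _).1 (D.mem_J v)
      refine ⟨b, ⟨_, hb⟩, Data.Acts.unique (a := g * g⁻¹) (hg.mul hb) ?_, Data.Acts.unique (a := g⁻¹ * g) (hb.mul hg) ?_⟩
      · rw [mul_inv_cancel]; exact Data.acts_one
      · rw [inv_mul_cancel]; exact Data.acts_one)
    (fun p ⟨g, hg⟩ hp => D.fix_perm hg hp)
  refine ⟨⟨D.rebase t, fun g w hg => ?_⟩, ?_, ?_⟩
  · have key : D.Acts g (cmp (fr t) (cmp w (fr (-t)))) := fun v => by
      have h := hg (app (fr (-t)) v)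
      rw [D.rebase_ι, D.rebase_ι, (fr_app t v).1] at h
      rw [h, app_cmp, app_cmp]
    have := ht _ ⟨g, key⟩
    simp only [toFr, cmp_assoc] at this
    rwa [(fr_inv t).1, (cmp_id w).1, ← cmp_assoc, (fr_inv t).1, (cmp_id w).2] at this
  · show (D.rebase t).ι vZ = _
    rw [D.rebase_ι, (fr_app t vZ).2]
  · refine Subgroup.ext fun x => ⟨?_, ?_⟩
    · rintro ⟨v, rfl⟩
      exact ⟨app (fr t) v, (D.rebase_ι t v).symm⟩
    · rintro ⟨v, rfl⟩
      refine ⟨app (fr (-t)) v, ?_⟩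
      show (D.rebase t).ι _ = _
      rw [D.rebase_ι, (fr_app t v).1]

namespace Loc

variable (L : Loc G)

theorem exists_acts {g : G} (hg : g ∈ normalizer (L.J : Set G)) : ∃ w ∈ M48, L.Acts g w := by
  obtain ⟨w, hw⟩ := L.exists_op_of_mem hg
  exact ⟨w, L.mono g w hw, hw⟩

theorem cube_mem {g : G} {w : Op} (hg : L.Acts g w) (h : g ^ 3 ∈ L.J) : cmp w (cmp w w) = idW := by
  obtain ⟨v, hv⟩ := h
  refine Data.Acts.unique (hg.mul (hg.mul hg)) ?_
  rw [← pow_three, ← hv]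
  exact Data.acts_ι v

theorem thin : ∀ g ∈ normalizer (L.J : Set G), g ^ 3 ∈ L.J → g ∉ L.J → ∀ a ∈ L.J, ∀ b ∈ L.J,
    g * a = a * g → g * b = b * g → a ≠ 1 → b ∈ zpowers a := by
  intro g hg h3 hgJ _ ha _ hb hca hcb ha1
  obtain ⟨u, rfl⟩ := ha
  obtain ⟨v, rfl⟩ := hb
  obtain ⟨w, hw, haw⟩ := L.exists_acts hg
  have hne : w ≠ idW := fun e => hgJ (e ▸ haw).mem_J
  have hu : u ≠ 0 := fun e => ha1 (by rw [e]; exact L.ι_zero)
  rcases mono_thin hw (L.cube_mem haw h3) hne (u := u) (v := v) ((haw.fix_iff u).1 hca) ((haw.fix_iff v).1 hcb) hu with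
    rfl | rfl | rfl
  · rw [show L.ι 0 = 1 from L.ι_zero]; exact one_mem _
  · exact mem_zpowers _
  · rw [show L.ι (-u) = (L.ι u)⁻¹ from L.ι_neg u]; exact inv_mem (mem_zpowers _)

theorem J_comm : ∀ a ∈ L.J, ∀ b ∈ L.J, a * b = b * a := by
  rintro _ ⟨u, rfl⟩ _ ⟨v, rfl⟩; exact L.ι_comm u v

/-- The hypotheses of the rank three lemmas. -/
def ctx : RankThree.Ctx G where
  J := L.J
  comm := L.J_comm
  cube := by rintro _ ⟨u, rfl⟩; exact L.ι_cube u
  card := L.card_J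
  self := fun g hg => L.self fun v => hg _ (L.mem_J v)
  thin := L.thin
  sig := fun K hK hn => L.sig K hK fun v k hk => hn _ (L.mem_J v) k hk

theorem cube_of_three {g : G} (hg : g ∈ normalizer (L.J : Set G)) {k : ℕ} (h : g ^ 3 ^ k = 1) : g ^ 3 ∈ L.J := by
  obtain ⟨w, hw, haw⟩ := L.exists_acts hg
  have h12 : g ^ 12 ∈ L.J := by
    have e : L.Acts (g * g * (g * g) * (g * g * (g * g) * (g * g * (g * g)))) idW := by
      have a4 := (haw.mul haw).mul (haw.mul haw)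
      have := a4.mul (a4.mul a4)
      rwa [mono_twelve hw] at this
    have e2 := e.mem_J
    have : g * g * (g * g) * (g * g * (g * g) * (g * g * (g * g))) = g ^ 12 := by simp only [pow_succ, pow_zero, one_mul, mul_assoc]
    rwa [this] at e2
  have hd : orderOf g ∣ 9 := by
    obtain ⟨i, -, hi⟩ := (Nat.dvd_prime_pow Nat.prime_three).1 (orderOf_dvd_of_pow_eq_one h)
    obtain ⟨v, hv⟩ := h12
    have h36 : g ^ 36 = 1 := by
      rw [show 36 = 12 * 3 from rfl, pow_mul, ← hv, pow_three]; exact L.ι_cube v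
    have h36' := orderOf_dvd_of_pow_eq_one h36
    rw [hi] at h36' ⊢
    have : i ≤ 2 := by
      by_contra hc
      exact absurd ((pow_dvd_pow 3 (show 3 ≤ i by omega)).trans h36') (by norm_num)
    exact (pow_dvd_pow 3 this).trans (by norm_num)
  have h9 : g ^ 9 = 1 := orderOf_dvd_iff_pow_eq_one.1 hd
  rwa [show g ^ 12 = g ^ 9 * g ^ 3 from by rw [← pow_add], h9, one_mul] at h12

/-- A three-subgroup of the normaliser has at most three cosets of `J`. -/
theorem three_coset {Q : Subgroup G} (hQ : IsPGroup 3 Q) (hQN : Q ≤ normalizer (L.J : Set G))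
    {a b : G} (ha : a ∈ Q) (hb : b ∈ Q) (haJ : a ∉ L.J) :
    b ∈ L.J ∨ a⁻¹ * b ∈ L.J ∨ a * b ∈ L.J := by
  have hp : ∀ x ∈ Q, x ^ 3 ∈ L.J := fun x hx => by
    obtain ⟨k, hk⟩ := hQ ⟨x, hx⟩
    exact L.cube_of_three (hQN hx) (congrArg Subtype.val hk)
  obtain ⟨x, hx, hax⟩ := L.exists_acts (hQN ha)
  obtain ⟨y, hy, hby⟩ := L.exists_acts (hQN hb)
  rcases mono_three hx hy (L.cube_mem hax (hp _ ha)) (L.cube_mem hby (hp _ hb))
      (fun e => haJ (e ▸ hax).mem_J) (L.cube_mem (hax.mul hby) (hp _ (mul_mem ha hb)))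
      (L.cube_mem (hax.mul (hby.mul hby)) (hp _ (mul_mem ha (mul_mem hb hb)))) with rfl | rfl | e
  · exact Or.inl hby.mem_J
  · refine Or.inr (Or.inl (L.self fun v => ?_))
    have h := (hby v).trans (hax v).symm
    calc a⁻¹ * b * L.ι v = a⁻¹ * (b * L.ι v * b⁻¹) * b := by group
      _ = a⁻¹ * (a * L.ι v * a⁻¹) * b := by rw [h]
      _ = L.ι v * (a⁻¹ * b) := by group
  · subst e
    refine Or.inr (Or.inr (Data.Acts.mem_J ?_))
    have := hax.mul hby
    rwa [L.cube_mem hax (hp _ ha)] at this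

theorem abel_unique {Q A : Subgroup G} (hQ : IsPGroup 3 Q) (hQN : Q ≤ normalizer (L.J : Set G)) (hA : A ≤ Q)
    (h27 : 27 ≤ Nat.card A) (hc : ∀ a ∈ A, ∀ b ∈ A, a * b = b * a) : A = L.J := by
  classical
  have hAJ : A ≤ L.J := by
    intro a ha
    by_contra haJ
    have h3 : a ^ 3 ∈ L.J := by
      obtain ⟨k, hk⟩ := hQ ⟨a, hA ha⟩
      exact L.cube_of_three (hQN (hA ha)) (congrArg Subtype.val hk)
    have hline : ∀ x ∈ A ⊓ L.J, ∀ y ∈ A ⊓ L.J, x ≠ 1 → y ∈ zpowers x := fun x hx y hy hx1 =>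
      L.thin a (hQN (hA ha)) h3 haJ x hx.2 y hy.2 (hc a ha x hx.1) (hc a ha y hy.1) hx1
    have hI : Nat.card (A ⊓ L.J : Subgroup G) ≤ 3 := by
      rcases (A ⊓ L.J).bot_or_exists_ne_one with e | ⟨x, hx, hx1⟩
      · rw [e, card_bot]; norm_num
      · have hle : A ⊓ L.J ≤ zpowers x := fun y hy => hline x hx y hy hx1
        refine (Nat.le_of_dvd Nat.card_pos (card_dvd_of_le hle)).trans ?_
        obtain ⟨v, rfl⟩ := hx.2
        rw [Nat.card_zpowers]
        rw [L.ι_order (fun e => hx1 (by rw [e]; exact L.ι_zero))]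
    let f : A → Fin 3 × (A ⊓ L.J : Subgroup G) := fun b =>
      if h0 : (b : G) ∈ L.J then (0, ⟨b, b.2, h0⟩)
      else if h1 : a⁻¹ * (b : G) ∈ L.J then (1, ⟨a⁻¹ * (b : G), A.mul_mem (A.inv_mem ha) b.2, h1⟩)
      else (2, ⟨a * b, mul_mem ha b.2, ((L.three_coset hQ hQN (hA ha) (hA b.2) haJ).resolve_left h0).resolve_left h1⟩)
    have hf : Function.Injective f := by
      intro b b' e
      simp only [f] at e
      split_ifs at e <;> simp only [Prod.mk.injEq, Subtype.mk.injEq] at e <;>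
        first
          | exact absurd e.1 (by decide)
          | exact Subtype.ext (congrArg Subtype.val e.2)
          | exact Subtype.ext (by simpa using congrArg Subtype.val e.2)
    have := Nat.card_le_card_of_injective f hf
    rw [Nat.card_prod, Nat.card_fin] at this
    omega
  exact Subgroup.eq_of_le_of_card_ge hAJ (by rw [L.card_J]; exact h27)

/-- The Sylow subgroups containing `J` normalise it. -/
theorem sylow_le (P : Sylow 3 G) (hP : L.J ≤ (P : Subgroup G)) : (P : Subgroup G) ≤ normalizer (L.J : Set G) := by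
  classical
  have : Fact (Nat.Prime 3) := ⟨Nat.prime_three⟩
  set Q : Subgroup G := (P : Subgroup G) ⊓ normalizer (L.J : Set G) with hQ
  have hQp : IsPGroup 3 Q := P.2.to_le inf_le_left
  have hJQ : L.J ≤ Q := le_inf hP Subgroup.le_normalizer
  haveI : Group.IsNilpotent (P : Subgroup G) := P.2.isNilpotent
  have htop : Q.subgroupOf (P : Subgroup G) = ⊤ := by
    refine normalizerCondition_iff_only_full_group_self_normalizing.1 Group.normalizerCondition_of_isNilpotent _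
      (le_antisymm (fun (g : (P : Subgroup G)) hg => mem_subgroupOf.2 (mem_inf.2 ⟨g.2, ?_⟩)) Subgroup.le_normalizer)
    have hA : L.J.map (MulAut.conj (g : G)).toMonoidHom = L.J := by
      refine L.abel_unique hQp inf_le_right ?_ ?_ ?_
      · rintro _ ⟨j, hj, rfl⟩
        exact mem_subgroupOf.1 ((mem_normalizer_iff.1 hg ⟨j, hP hj⟩).1 (mem_subgroupOf.2 (hJQ hj)))
      · rw [card_map_of_injective (MulAut.conj (g : G)).injective, L.card_J]
      · rintro _ ⟨x, hx, rfl⟩ _ ⟨y, hy, rfl⟩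
        rw [← map_mul, ← map_mul, L.J_comm x hx y hy]
    exact mem_normalizer_iff_map_conj_eq.2 hA
  intro x hx
  exact (mem_inf.1 (mem_subgroupOf.1 (htop ▸ mem_top (⟨x, hx⟩ : (P : Subgroup G))))).2

/-- Fusion in `J` is controlled by its normaliser. -/
theorem fusion {g : G} {u w : V} (h : g * L.ι u * g⁻¹ = L.ι w) : ∃ n, ∃ x ∈ M48, L.Acts n x ∧ app x u = w := by
  classical
  have : Fact (Nat.Prime 3) := ⟨Nat.prime_three⟩
  obtain ⟨C, hC⟩ : ∃ C : Subgroup G, C = centralizer ({L.ι w} : Set G) := ⟨_, rfl⟩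
  have hJC : L.J ≤ C := hC ▸ by
    rintro _ ⟨v, rfl⟩; exact mem_centralizer_singleton_iff.2 (L.ι_comm v w)
  have hJC' : L.J.map (MulAut.conj g).toMonoidHom ≤ C := hC ▸ by
    rintro _ ⟨_, ⟨v, rfl⟩, rfl⟩
    refine mem_centralizer_singleton_iff.2 ?_
    rw [← h]
    show g * L.ι v * g⁻¹ * (g * L.ι u * g⁻¹) = g * L.ι u * g⁻¹ * (g * L.ι v * g⁻¹)
    calc _ = g * (L.ι v * L.ι u) * g⁻¹ := by group
      _ = g * (L.ι u * L.ι v) * g⁻¹ := by rw [L.ι_comm]
      _ = _ := by group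
  obtain ⟨P₁, hP₁⟩ := (L.J_isPGroup.comap_of_injective C.subtype C.subtype_injective).exists_le_sylow
  obtain ⟨P₂, hP₂⟩ := ((L.J_isPGroup.map (MulAut.conj g).toMonoidHom).comap_of_injective C.subtype
    C.subtype_injective).exists_le_sylow
  obtain ⟨c, hc⟩ := MulAction.exists_smul_eq C P₂ P₁
  obtain ⟨P, hP⟩ := (P₁.2.map C.subtype).exists_le_sylow
  have hJP : L.J ≤ (P : Subgroup G) := fun j hj => hP ⟨⟨j, hJC hj⟩, hP₁ hj, rfl⟩
  have hA : L.J.map (MulAut.conj ((c : G) * g)).toMonoidHom = L.J := by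
    refine L.abel_unique P.2 (L.sylow_le P hJP) ?_ ?_ ?_
    · rintro _ ⟨j, hj, rfl⟩
      have hgj : g * j * g⁻¹ ∈ C := hJC' ⟨j, hj, rfl⟩
      have h1 : MulAut.conj c ⟨g * j * g⁻¹, hgj⟩ ∈ (P₁ : Subgroup C) := by
        rw [← hc]
        exact Subgroup.smul_mem_pointwise_smul _ (MulAut.conj c) _ (hP₂ ⟨j, hj, rfl⟩)
      refine hP ⟨_, h1, ?_⟩
      show (c : G) * (g * j * g⁻¹) * (c : G)⁻¹ = (c : G) * g * j * ((c : G) * g)⁻¹
      group
    · rw [card_map_of_injective (MulAut.conj _).injective, L.card_J]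
    · rintro _ ⟨x, hx, rfl⟩ _ ⟨y, hy, rfl⟩
      rw [← map_mul, ← map_mul, L.J_comm x hx y hy]
  obtain ⟨x, hx, hxa⟩ := L.exists_acts (mem_normalizer_iff_map_conj_eq.2 hA)
  refine ⟨_, x, hx, hxa, L.ι_inj ?_⟩
  rw [← hxa u]
  have hcw : (c : G) * L.ι w = L.ι w * c := by
    exact mem_centralizer_singleton_iff.1 ((le_of_eq hC) c.2)
  calc (c : G) * g * L.ι u * ((c : G) * g)⁻¹ = c * (g * L.ι u * g⁻¹) * (c : G)⁻¹ := by group
    _ = L.ι w := by rw [h, hcw, mul_inv_cancel_right]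

/-- Elements of order three are conjugate into `J`. -/
theorem cube_conj {x : G} (hx : x * (x * x) = 1) : ∃ g v, g * x * g⁻¹ = L.ι v := by
  classical
  have : Fact (Nat.Prime 3) := ⟨Nat.prime_three⟩
  let T : Subgroup G :=
    { carrier := {g | ∃ m : Mdl, m.A = uni (chiA m.A) ∧ L.Ψ m = g}
      one_mem' := ⟨e0, by decide +kernel, L.Ψ_one⟩
      mul_mem' := by
        rintro _ _ ⟨m, hm, rfl⟩ ⟨n, hn, rfl⟩
        exact ⟨m * n, upper_closed _ _ hm hn, L.hmul m n⟩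
      inv_mem' := by
        rintro _ ⟨m, hm, rfl⟩
        set b := m * (m * m) with hb
        refine ⟨m * m * (b * b), upper_closed _ _ (upper_closed _ _ hm hm) ?_, ?_⟩
        · have h := upper_closed _ _ hm (upper_closed _ _ hm hm)
          exact upper_closed _ _ h h
        · refine eq_inv_of_mul_eq_one_right ?_
          have e := (upper_nine m hm)
          rw [← L.Ψ_one, ← e]
          simp only [hb, L.hmul]
          group }
  have hTp : IsPGroup 3 T := fun g => by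
    obtain ⟨m, hm, he⟩ := g.2
    refine ⟨2, Subtype.ext ?_⟩
    rw [SubgroupClass.coe_pow, ← he, OneMemClass.coe_one, ← L.Ψ_one, ← (upper_nine m hm)]
    simp only [L.hmul, show (3 : ℕ) ^ 2 = 9 from rfl, pow_succ, pow_zero, one_mul, mul_assoc]
  obtain ⟨P, hP⟩ := hTp.exists_le_sylow
  have hJP : L.J ≤ (P : Subgroup G) := by
    rintro _ ⟨v, rfl⟩; exact hP ⟨_, upper_extra.2.2 v, rfl⟩
  have hN := L.sylow_le P hJP
  set r := L.Ψ ⟨0, 1, 0, 1⟩ with hr
  have hrP : r ∈ (P : Subgroup G) := hP ⟨_, upper_extra.1, rfl⟩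
  have hrJ : r ∉ L.J := by
    rintro ⟨v, hv⟩; exact upper_extra.2.1 v (L.inj hv)
  have hPC : ∀ y ∈ (P : Subgroup G), ∃ m, L.Ψ m = y := by
    intro y hy
    rcases L.three_coset P.2 hN hrP hy hrJ with ⟨v, hv⟩ | ⟨v, hv⟩ | ⟨v, hv⟩
    · exact ⟨_, hv⟩
    · exact ⟨⟨0, 1, 0, 1⟩ * mv v, by rw [L.hmul, ← hr]; show r * L.ι v = y; rw [hv, mul_inv_cancel_left]⟩
    · exact ⟨⟨0, 2, 0, 1⟩ * mv v, by
        have e : L.Ψ ⟨0, 2, 0, 1⟩ = r⁻¹ := eq_inv_of_mul_eq_one_left (by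
          rw [hr, ← L.hmul, ← L.Ψ_one]; exact congrArg L.Ψ r_inv_fact)
        rw [L.hmul, e]; show r⁻¹ * L.ι v = y; rw [hv, inv_mul_cancel_left]⟩
  rcases eq_or_ne x 1 with rfl | h1
  · exact ⟨1, 0, by rw [show L.ι 0 = 1 from L.ι_zero]; group⟩
  obtain ⟨Px, hPx⟩ := (show IsPGroup 3 (zpowers x) from IsPGroup.of_card (n := 1) (by
    rw [Nat.card_zpowers, pow_one]
    exact orderOf_eq_prime (by rw [pow_succ', pow_two, hx]) h1)).exists_le_sylow
  obtain ⟨g, hg⟩ := MulAction.exists_smul_eq G Px P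
  have hgx : g * x * g⁻¹ ∈ (P : Subgroup G) := by
    rw [← hg]
    exact Subgroup.smul_mem_pointwise_smul x (MulAut.conj g) _ (hPx (mem_zpowers x))
  obtain ⟨m, hm⟩ := hPC _ hgx
  have hm3 : m * (m * m) = e0 := L.inj (by
    rw [L.hmul, L.hmul, hm, L.Ψ_one]
    calc g * x * g⁻¹ * (g * x * g⁻¹ * (g * x * g⁻¹)) = g * (x * (x * x)) * g⁻¹ := by group
      _ = 1 := by rw [hx]; group)
  obtain ⟨h, -, v, hv⟩ := cube_cover m hm3
  refine ⟨(L.Ψ h)⁻¹ * g, v, ?_⟩
  have := congrArg L.Ψ hv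
  rw [L.hmul, L.hmul, hm] at this
  calc (L.Ψ h)⁻¹ * g * x * ((L.Ψ h)⁻¹ * g)⁻¹ = (L.Ψ h)⁻¹ * (g * x * g⁻¹ * L.Ψ h) := by group
    _ = L.ι v := by rw [this, inv_mul_cancel_left]; rfl

end Loc

end Cfsg.Lib.SpCentre
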