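import Cfsg.Agent.LocalThree.SpCentre.Cases
import Cfsg.Agent.AmalgamSpFour.Recognise

/-!
The case of the even monomial group: `PSp₄(3)`.
-/

set_option autoImplicit false
set_option maxRecDepth 8000
set_option linter.unusedSectionVars false
set_option synthInstance.maxSize 2000

namespace Cfsg.Lib.SpCentre

open Subgroup Cfsg.Lib.HeisSL Cfsg.Lib.AmalgamSpFour
open scoped MatrixGroups

universe u

theorem card_model : Fintype.card Mdl = 648 ∧ Fintype.card {m : Mdl // m.A = 1} = 27 ∧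
    Fintype.card {w : Op // w ∈ WL} = 24 := by decide +kernel

theorem vZ_ne : vZ ≠ 0 := by decide +kernel

theorem r_mdl : (⟨0, 1, 0, 1⟩ : Mdl) * (⟨0, 1, 0, 1⟩ * ⟨0, 1, 0, 1⟩) = e0 ∧
    (∀ v : V, (⟨0, 1, 0, 1⟩ : Mdl) * mv v = mv v * ⟨0, 1, 0, 1⟩ → v = 0 ∨ v = vZ ∨ v = -vZ) ∧
    (∀ m : Mdl, m.A = 1 → ∀ v : V, ∃ w : V, m * mv v = mv w * m) := by decide +kernel

namespace Loc

variable {G : Type u} [Group G] [Finite G] (L : Loc G)

theorem mdl_core_mem {m : Mdl} (hm : m.A = 1) : L.Ψ m ∈ normalizer (L.J : Set G) := by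
  have h := r_mdl.2.2 m hm
  choose f hf using h
  obtain ⟨w, hw⟩ := L.exists_op (g := L.Ψ m) fun v => ⟨f v, by
    refine (mul_inv_eq_iff_eq_mul.2 ?_).symm
    show L.Ψ m * L.Ψ (mv v) = L.Ψ (mv (f v)) * L.Ψ m
    rw [← L.hmul, ← L.hmul, hf]⟩
  exact hw.mem_N

theorem exists_sylow : ∃ P : Sylow 3 G, L.J ≤ (P : Subgroup G) ∧ L.Ψ ⟨0, 1, 0, 1⟩ ∈ (P : Subgroup G) ∧
    ∀ y ∈ (P : Subgroup G), y * L.ι vZ = L.ι vZ * y := by
  classical
  have : Fact (Nat.Prime 3) := ⟨Nat.prime_three⟩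
  set r := L.Ψ ⟨0, 1, 0, 1⟩ with hr
  have hr3 : r ^ 3 = 1 := by
    rw [pow_three, hr, ← L.hmul, ← L.hmul, r_mdl.1, L.Ψ_one]
  have hrp : IsPGroup 3 (zpowers r) := fun y => by
    refine ⟨1, Subtype.ext ?_⟩
    obtain ⟨k, hk⟩ := mem_zpowers_iff.1 y.2
    rw [Subgroup.coe_pow, ← hk, pow_one, ← zpow_natCast, ← zpow_mul, mul_comm, zpow_mul, zpow_natCast, hr3, one_zpow]
    rfl
  obtain ⟨P, hP⟩ := (hrp.to_sup_of_normal_right' L.J_isPGroup
    (zpowers_le.2 (L.mdl_core_mem rfl))).exists_le_sylow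
  have hJP : L.J ≤ (P : Subgroup G) := le_sup_right.trans hP
  have hrP : r ∈ (P : Subgroup G) := hP (mem_sup_left (mem_zpowers r))
  have hrJ : r ∉ L.J := by
    rintro ⟨v, hv⟩; exact upper_extra.2.1 v (L.inj hv)
  have hN := L.sylow_le P hJP
  have hjc : ∀ j ∈ L.J, j * L.ι vZ = L.ι vZ * j := fun j hj => L.J_comm j hj _ (L.mem_J vZ)
  have hrc : r * L.ι vZ = L.ι vZ * r := by
    show L.Ψ _ * L.Ψ (mv vZ) = L.Ψ (mv vZ) * L.Ψ _
    rw [← L.hmul, ← L.hmul, centre_central]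
  have hmul : ∀ x y : G, x * L.ι vZ = L.ι vZ * x → y * L.ι vZ = L.ι vZ * y → x * y * L.ι vZ = L.ι vZ * (x * y) :=
    fun x y hx hy => by rw [mul_assoc, hy, ← mul_assoc, hx, mul_assoc]
  refine ⟨P, hJP, hrP, fun y hy => ?_⟩
  rcases L.three_coset P.2 hN hrP hy hrJ with h | h | h
  · exact hjc y h
  · have := hmul _ _ hrc (hjc _ h)
    rwa [mul_inv_cancel_left] at this
  · have hri : r⁻¹ * L.ι vZ = L.ι vZ * r⁻¹ := by
      rw [inv_mul_eq_iff_eq_mul, ← mul_assoc, hrc, mul_inv_cancel_right]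
    have := hmul _ _ hri (hjc _ h)
    rwa [inv_mul_cancel_left] at this

theorem gen_four (hreal : ∀ g : G, g * L.ι vZ * g⁻¹ ≠ (L.ι vZ)⁻¹) (H : Subgroup G) (hH : H.Normal)
    (h1 : normalizer (L.J : Set G) ≤ H) (h2 : centralizer ({L.ι vZ} : Set G) ≤ H) : H = ⊤ := by
  have : Fact (Nat.Prime 3) := ⟨Nat.prime_three⟩
  obtain ⟨P, hJP, hrP, hPc⟩ := L.exists_sylow
  have hPH : (P : Subgroup G) ≤ H := (L.sylow_le P hJP).trans h1
  rw [← P.normalizer_sup_eq_top' hPH, eq_comm, sup_eq_right]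
  intro g hg
  have hmem : ∀ x ∈ (P : Subgroup G), g * x * g⁻¹ ∈ (P : Subgroup G) ∧ g⁻¹ * x * g ∈ (P : Subgroup G) := fun x hx =>
    ⟨(mem_normalizer_iff.1 hg x).1 hx, (mem_normalizer_iff'.1 hg (g⁻¹ * x)).2 (by rw [mul_inv_cancel_left]; exact hx)⟩
  have hcen : ∀ x ∈ (P : Subgroup G), g * L.ι vZ * g⁻¹ * x = x * (g * L.ι vZ * g⁻¹) := fun x hx => by
    have h := hPc _ (hmem x hx).2
    calc g * L.ι vZ * g⁻¹ * x = g * (L.ι vZ * (g⁻¹ * x * g)) * g⁻¹ := by group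
      _ = g * (g⁻¹ * x * g * L.ι vZ) * g⁻¹ := by rw [h]
      _ = _ := by group
  obtain ⟨v, hv⟩ := L.self fun v => hcen _ (hJP (L.mem_J v))
  have hr : (⟨0, 1, 0, 1⟩ : Mdl) * mv v = mv v * ⟨0, 1, 0, 1⟩ := L.inj (by
    rw [L.hmul, L.hmul]
    show L.Ψ ⟨0, 1, 0, 1⟩ * L.ι v = L.ι v * L.Ψ ⟨0, 1, 0, 1⟩
    rw [hv]; exact (hcen _ hrP).symm)
  rcases r_mdl.2.1 v hr with rfl | rfl | rfl
  · exfalso
    refine L.ι_ne_one vZ_ne ?_
    calc L.ι vZ = g⁻¹ * (g * L.ι vZ * g⁻¹) * g := by group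
      _ = 1 := by rw [← hv, L.ι_zero, mul_one, inv_mul_cancel]
  · exact h2 (mem_centralizer_singleton_iff.2 (mul_inv_eq_iff_eq_mul.1 hv.symm))
  · exact absurd (hv.symm.trans (L.ι_neg vZ)) (hreal g)

/-- The amalgam. -/
theorem four_data (h : ∀ w, L.Ind w ↔ w ∈ WL) : Nonempty (AmalgamSpFour.Data G) := by
  classical
  obtain ⟨A2, hA2⟩ : ∃ A : Subgroup G, A = centralizer ({L.ι vZ} : Set G) := ⟨_, rfl⟩
  have hmem : ∀ g : A2, ∃ m : Mdl, L.Ψ m = (g : G) := fun g => by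
    have hg : (g : G) ∈ centralizer ({L.ι vZ} : Set G) := hA2.le g.2
    exact L.cent _ (mem_centralizer_singleton_iff.1 hg)
  choose f hf using hmem
  have hfm : ∀ g g' : A2, f (g * g') = f g * f g' := fun g g' => L.inj (by rw [hf, L.hmul, hf, hf]; rfl)
  have hΨA : ∀ m, L.Ψ m ∈ A2 := fun m => hA2 ▸ mem_centralizer_singleton_iff.2 (by
    show L.Ψ m * L.Ψ (mv vZ) = L.Ψ (mv vZ) * L.Ψ m
    rw [← L.hmul, ← L.hmul, centre_central])
  have hfΨ : ∀ m, f ⟨_, hΨA m⟩ = m := fun m => L.inj (hf ⟨_, hΨA m⟩)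
  let π : A2 →* SL(2, ZMod 3) :=
    { toFun := fun g => (f g).A
      map_one' := by
        have : f 1 = e0 := L.inj (by rw [hf, L.Ψ_one]; rfl)
        rw [this]; rfl
      map_mul' := fun g g' => by rw [hfm, mul_A] }
  let N := normalizer (L.J : Set G)
  have hex : ∀ w : {w : Op // w ∈ WL}, ∃ n, L.Acts n w.1 := fun w => (h w.1).2 w.2
  choose n hn using hex
  have hcardN : Nat.card N = 648 := by
    have hb : Function.Bijective fun p : L.J × {w : Op // w ∈ WL} => (⟨(p.1 : G) * n p.2,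
        mul_mem (Subgroup.le_normalizer p.1.2) (hn p.2).mem_N⟩ : N) := by
      constructor
      · rintro ⟨⟨_, v, rfl⟩, w⟩ ⟨⟨_, v', rfl⟩, w'⟩ e
        have e' : L.ι v * n w = L.ι v' * n w' := congrArg Subtype.val e
        have a1 := (Data.acts_ι (D := L.toData) v).mul (hn w)
        have a2 := (Data.acts_ι (D := L.toData) v').mul (hn w')
        rw [e'] at a1
        have hw : w = w' := Subtype.ext (by simpa [cmp_id] using Data.Acts.unique a1 a2)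
        subst hw
        exact Prod.ext (Subtype.ext (mul_right_cancel e')) rfl
      · rintro ⟨g, hg⟩
        obtain ⟨w, -, hgw⟩ := L.exists_acts hg
        have hw := (h w).1 ⟨g, hgw⟩
        refine ⟨(⟨g * (n ⟨w, hw⟩)⁻¹, ?_⟩, ⟨w, hw⟩), Subtype.ext (inv_mul_cancel_right _ _)⟩
        refine L.self fun v => ?_
        calc g * (n ⟨w, hw⟩)⁻¹ * L.ι v = g * ((n ⟨w, hw⟩)⁻¹ * L.ι v * n ⟨w, hw⟩) * g⁻¹ * (g * (n ⟨w, hw⟩)⁻¹) := by group
          _ = L.ι v * (g * (n ⟨w, hw⟩)⁻¹) := by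
            obtain ⟨u, hu⟩ : ∃ u, (n ⟨w, hw⟩)⁻¹ * L.ι v * n ⟨w, hw⟩ = L.ι u := by
              obtain ⟨u, hu⟩ := (mem_normalizer_iff'.1 (hn ⟨w, hw⟩).mem_N ((n ⟨w, hw⟩)⁻¹ * L.ι v)).2
                (by rw [mul_inv_cancel_left]; exact L.mem_J v)
              exact ⟨u, hu.symm⟩
            have hv : L.ι v = L.ι (app w u) := by rw [← hn ⟨w, hw⟩ u, ← hu]; group
            rw [hu, hgw u, ← hv]
    rw [← Nat.card_eq_of_bijective _ hb, Nat.card_prod, L.card_J, Nat.card_eq_fintype_card, card_model.2.2]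
  have hcardA : Nat.card A2 = 648 := by
    rw [← Nat.card_eq_of_bijective (fun m => (⟨_, hΨA m⟩ : A2))
      ⟨fun m m' e => L.inj (congrArg Subtype.val e), fun g => ⟨f g, Subtype.ext (hf g)⟩⟩,
      Nat.card_eq_fintype_card, card_model.1]
  refine ⟨{
    A1 := N
    A2 := A2
    ι := L.ι
    ι_add := L.ι_add
    inj := fun _ _ e => L.ι_inj e
    normQ := fun g hg => (L.exists_op hg).choose_spec.mem_N
    centQ := fun g hg => L.self hg
    act := fun g hg => by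
      obtain ⟨w, -, hw⟩ := L.exists_acts hg
      exact ⟨w, (h w).1 ⟨g, hw⟩, hw⟩
    ex := fun w hw => ⟨n ⟨w, hw⟩, (hn ⟨w, hw⟩).mem_N, hn ⟨w, hw⟩⟩
    centZ := hA2.symm
    cardA1 := hcardN
    cardA2 := hcardA
    π := π
    π_surj := fun A => ⟨⟨_, hΨA ⟨0, 0, 0, A⟩⟩, by show (f _).A = A; rw [hfΨ]⟩
    ker_le := fun g hg => by rw [← hf g]; exact L.mdl_core_mem hg
    ker_card := ?_
    ker_sum := fun v hv e => by
      have : f ⟨L.ι v, hv⟩ = mv v := L.inj (hf ⟨_, hv⟩)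
      have e' : (f ⟨L.ι v, hv⟩).A = 1 := e
      rw [this] at e'
      exact (mv_csum v).1 e'
    gen := fun H hH h1 h2 => L.gen_four (L.real_not_WL h) H hH h1 (hA2 ▸ h2)
    hsig := L.sig }⟩
  rw [← Nat.card_eq_of_bijective (fun m : {m : Mdl // m.A = 1} =>
      (⟨⟨_, hΨA m.1⟩, by show (f _).A = 1; rw [hfΨ]; exact m.2⟩ : π.ker)) ⟨fun m m' e => Subtype.ext (L.inj
        (congrArg (fun x : π.ker => ((x : A2) : G)) e)), fun g => ⟨⟨f g.1, g.2⟩, Subtype.ext (Subtype.ext (hf g.1))⟩⟩,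
    Nat.card_eq_fintype_card, card_model.2.1]

theorem four_image (h : ∀ w, L.Ind w ↔ w ∈ WL) {F : Type*} [Field F] [Fintype F] (hF : Fintype.card F = 3) :
    Nonempty (G ≃* Cfsg.PSp 2 F) := by
  obtain ⟨S⟩ := L.four_data h
  exact S.recognise hF

end Loc

end Cfsg.Lib.SpCentre
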