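import Cfsg.Agent.LocalThree.SpCentre.CentT
import Cfsg.Agent.LocalThree.SpCentre.KFour
import Cfsg.Agent.S0814

/-!
The case where the centraliser of the first basis vector normalises the abelian subgroup:
the automorphism group of `PSp₄(3)`.
-/

set_option autoImplicit false
set_option maxRecDepth 8000
set_option linter.unusedSectionVars false
set_option synthInstance.maxSize 2000

namespace Cfsg.Lib.SpCentre

open Subgroup Cfsg.Lib.HeisSL Cfsg.Lib.AmalgamSpFour
open scoped MatrixGroups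

universe u

theorem coset_WL_b : (M48.all fun w => WL.elem w || WL.elem (cmp e1W w)) = true := by decide +kernel

theorem perm_vZ : ∀ p ∈ perms, app p vZ = vZ := by decide +kernel

theorem perm_mem : (∀ p ∈ perms, p ∈ M48) ∧ (∀ s ∈ twoMinus, dg s ∈ M48) ∧ (∀ w ∈ WL, w ∈ M48) := by decide +kernel

theorem two_split : ∀ s ∈ twoMinus, ∃ a ∈ eps, ∃ b ∈ eps, cmp a b = dg s := by decide +kernel

theorem eps_moves : ∀ a ∈ eps, ∃ p ∈ perms, ∃ p' ∈ perms, cmp p p' = idW ∧ cmp p (cmp e1W p') = a := by decide +kernel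

theorem WL_no_fix : ∀ v : V, app (dg (1, -1, -1)) v = v → app (dg (-1, 1, -1)) v = v → v = 0 := by decide +kernel

theorem mdl_split : ∀ i j z : ZMod 3, ∀ A : SL(2, ZMod 3),
    (⟨i, j, z, A⟩ : Mdl) = ⟨i, j, z, 1⟩ * ⟨0, 0, 0, A⟩ := by decide +kernel

theorem sl_hom : ∀ A B : SL(2, ZMod 3), (⟨0, 0, 0, A⟩ : Mdl) * ⟨0, 0, 0, B⟩ = ⟨0, 0, 0, A * B⟩ := by decide +kernel

namespace Full

variable {G : Type u} [Group G] [Finite G] (E : Full G)
  {N : Subgroup G} (hidx : N.index = 2) (htN : E.t ∉ N)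

include hidx

theorem cube_mem_sub {x : G} (hx : x * (x * x) = 1) : x ∈ N := by
  by_contra h
  exact h ((mul_mem_iff_of_index_two (hidx)).1 (by rw [hx]; exact one_mem _) |>.2
    (mul_self_mem_of_index_two hidx x))

theorem ι_sub (v : V) : E.ι v ∈ N := cube_mem_sub hidx (E.ι_cube v)

theorem Ψ_sub (m : Mdl) : E.Ψ m ∈ N := by
  have key : ∀ {n : Mdl}, n * (n * n) = e0 → E.Ψ n ∈ N := fun {n} h =>
    cube_mem_sub hidx (by rw [← E.hmul, ← E.hmul, h]; exact E.toData.Ψ_one)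
  obtain ⟨i, j, z, A⟩ := m
  obtain ⟨x, hx, y, hy, w, hw, e⟩ := sl_three_gen A
  have hs : ∀ {B : SL(2, ZMod 3)}, B * (B * B) = 1 → (⟨0, 0, 0, B⟩ : Mdl) * (⟨0, 0, 0, B⟩ * ⟨0, 0, 0, B⟩) = e0 :=
    fun {B} hB => by rw [sl_hom, sl_hom, hB]; rfl
  rw [mdl_split, E.hmul, e, ← sl_hom, E.hmul, ← sl_hom, E.hmul]
  exact mul_mem (key (core_cube.1 i j z)) (mul_mem (key (hs hx)) (mul_mem (key (hs hy)) (key (hs hw))))

theorem fix_sub {g : G} {w : Op} (hg : E.Acts g w) (hw : app w vZ = vZ) : g ∈ N := by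
  obtain ⟨m, rfl⟩ := E.cent g ((hg.fix_iff vZ).2 hw)
  exact E.Ψ_sub hidx m

include htN

theorem σ_WL {w : Op} (hw : w ∈ WL) : E.σ w ∈ N := by
  have hp : ∀ p ∈ perms, E.σ p ∈ N := fun p hp => E.fix_sub hidx (E.σ_acts (perm_mem.1 p hp)) (perm_vZ p hp)
  have hone : ∀ a ∈ eps, E.σ a ∉ N := by
    intro a ha h
    obtain ⟨p, hp1, p', hp2, e1, e2⟩ := eps_moves a ha
    rw [← e2, ← E.σ_mul (perm_mem.1 p hp1) (E.cmp_mem e1W_mem.1 (perm_mem.1 p' hp2)),
      ← E.σ_mul e1W_mem.1 (perm_mem.1 p' hp2)] at h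
    have h' := mul_mem (mul_mem (inv_mem (hp p hp1)) h) (inv_mem (hp p' hp2))
    rw [inv_mul_cancel_left, mul_inv_cancel_right] at h'
    exact htN h'
  obtain ⟨a, ha, h⟩ := List.any_eq_true.1 (List.all_eq_true.1 WL_gen_b w hw)
  obtain ⟨p, hpp, h⟩ := List.any_eq_true.1 h
  obtain rfl := of_decide_eq_true h
  have key : ∀ s ∈ twoMinus, E.σ (dg s) ∈ N := by
    intro s hs
    obtain ⟨b, hb, c, hc, e⟩ := two_split s hs
    rw [← e, ← E.σ_mul (eps_facts.1 b hb).1 (eps_facts.1 c hc).1, mul_mem_iff_of_index_two hidx]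
    exact ⟨fun h => absurd h (hone b hb), fun h => absurd h (hone c hc)⟩
  simp only [List.mem_cons, List.not_mem_nil, or_false] at ha
  rcases ha with rfl | rfl | rfl | rfl
  · rw [(cmp_id p).2]; exact hp p hpp
  all_goals
    rw [← E.σ_mul (perm_mem.2.1 _ (by decide)) (perm_mem.1 p hpp)]
    exact mul_mem (key _ (by decide)) (hp p hpp)

theorem acts_WL {g : G} (hgN : g ∈ N) {w : Op} (hg : E.Acts g w) : w ∈ WL := by
  have hw := E.mono g w hg
  have h := List.all_eq_true.1 coset_WL_b w hw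
  simp only [Bool.or_eq_true, List.elem_eq_mem, decide_eq_true_eq] at h
  refine h.resolve_right fun h' => htN ?_
  obtain ⟨v, hv⟩ := E.toLoc.same_acts (E.σ_acts hw) hg
  have h1 : E.σ w ∈ N := by
    have e : E.σ w = g * (E.ι v)⁻¹ := by
      rw [show E.toData.ι v = (E.σ w)⁻¹ * g from hv]; group
    rw [e]; exact mul_mem hgN (inv_mem (E.ι_sub hidx v))
  have h2 := E.σ_WL hidx htN h'
  rw [← E.σ_mul e1W_mem.1 hw, mul_mem_iff_of_index_two hidx] at h2
  exact h2.2 h1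

/-- The data on the subgroup. -/
def subData : Data N where
  Ψ := fun m => ⟨E.Ψ m, E.Ψ_sub hidx m⟩
  inj := fun m n h => E.inj (congrArg Subtype.val h)
  hmul := fun m n => Subtype.ext (E.hmul m n)
  cent := fun g hg => by
    obtain ⟨m, hm⟩ := E.cent g (congrArg Subtype.val hg)
    exact ⟨m, Subtype.ext hm⟩
  sig := fun K hK hn => by
    refine (map_eq_bot_iff_of_injective K N.subtype_injective).1 (E.sig _ ?_ ?_)
    · rwa [card_map_of_injective N.subtype_injective]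
    · rintro v _ ⟨k, hk, rfl⟩
      exact ⟨_, hn v k hk, rfl⟩

omit htN in
theorem sub_acts {g : N} {w : Op} : (E.subData hidx).Acts g w ↔ E.Acts (g : G) w :=
  ⟨fun h v => congrArg Subtype.val (h v), fun h v => Subtype.ext (h v)⟩

/-- The local data on the subgroup. -/
def subLoc : Loc N where
  toData := E.subData hidx
  mono := fun g w h => E.mono g w ((E.sub_acts hidx).1 h)

theorem sub_ind (w : Op) : (E.subLoc hidx).Ind w ↔ w ∈ WL :=
  ⟨fun ⟨g, hg⟩ => E.acts_WL hidx htN g.2 ((E.sub_acts hidx).1 hg),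
    fun hw => ⟨⟨E.σ w, E.σ_WL hidx htN hw⟩, (E.sub_acts hidx).2 (E.σ_acts (perm_mem.2.2 w hw))⟩⟩

theorem cent_sub {c : G} (hc : ∀ n ∈ N, n * c = c * n) : c = 1 := by
  obtain ⟨v, rfl⟩ := E.self fun v => (hc _ (E.ι_sub hidx v)).symm
  have hfix : ∀ w ∈ WL, app w v = v := fun w hw =>
    ((E.σ_acts (perm_mem.2.2 w hw)).fix_iff v).1 (hc _ (E.σ_WL hidx htN hw))
  rw [WL_no_fix v (hfix _ (by decide +kernel)) (hfix _ (by decide +kernel)), E.ι_zero]

end Full

namespace Full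

variable {G : Type u} [Group G] [Finite G] (E : Full G)

/-- The automorphism group of `PSp₄(3)`. -/
theorem case_N (hN : ∀ g : G, g * E.ι (1, 0, 0) = E.ι (1, 0, 0) * g → g ∈ normalizer (E.J : Set G))
    {F : Type*} [Field F] [Fintype F] (hF : Fintype.card F = 3) : Nonempty (G ≃* MulAut (Cfsg.PSp 2 F)) := by
  classical
  obtain ⟨N, hn, hidx, htN⟩ := E.exists_index_two hN
  obtain ⟨e⟩ := (E.subLoc hidx).four_image (E.sub_ind hidx htN) hF
  let φ : G →* MulAut (Cfsg.PSp 2 F) := (MulAut.congr e).toMonoidHom.comp MulAut.conjNormal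
  have hinj : Function.Injective φ := by
    refine ((MulAut.congr e).injective).comp ((injective_iff_map_eq_one _).2 fun c hc => E.cent_sub hidx htN fun n hn' => ?_)
    have h : c * n * c⁻¹ = n := congrArg (fun f : MulAut N => ((f ⟨n, hn'⟩ : N) : G)) hc
    exact ((mul_inv_eq_iff_eq_mul.1 h)).symm
  have hcard : Nat.card G = Nat.card (MulAut (Cfsg.PSp 2 F)) := by
    haveI : Fact (Nat.Prime 3) := ⟨Nat.prime_three⟩
    rw [← N.index_mul_card, hidx, Nat.card_congr e.toEquiv,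
      Cfsg.Agent.S0814.result 3 1 le_rfl (by rw [hF, pow_one]) 2 le_rfl (fun _ => le_rfl)]
    norm_num
  haveI : Finite (Cfsg.PSp 2 F) := Finite.of_equiv N e.toEquiv
  exact ⟨MulEquiv.ofBijective φ ((Nat.bijective_iff_injective_and_card φ).2 ⟨hinj, hcard⟩)⟩

end Full

end Cfsg.Lib.SpCentre
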