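import Mathlib

/-!
The transfer to a cyclic group of order three at an element of the centraliser of a weakly closed
element of order three.
-/

set_option autoImplicit false
set_option maxRecDepth 8000

namespace Cfsg.Lib.SpCentre

open Subgroup

universe u

theorem three_cube : ∀ m : Multiplicative (ZMod 3), m * (m * m) = 1 := by decide

theorem three_cases : ∀ m : Multiplicative (ZMod 3), m ≠ 1 → ∀ k : Multiplicative (ZMod 3),
    k = 1 ∨ k = m ∨ k = m * m := by decide

/-- A product over a set on which a map of order three has no fixed point. -/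
theorem prod_three {α M : Type*} [DecidableEq α] [CommMonoid M] (σ : α → α) (h3 : ∀ x, σ (σ (σ x)) = x)
    (f : α → M) (S : Finset α) (hS : ∀ x ∈ S, σ x ∈ S) (hne : ∀ x ∈ S, σ x ≠ x)
    (hf : ∀ x ∈ S, f x * (f (σ x) * f (σ (σ x))) = 1) : ∏ x ∈ S, f x = 1 := by
  induction S using Finset.strongInduction with
  | H S ih =>
    rcases S.eq_empty_or_nonempty with rfl | ⟨x, hx⟩
    · exact Finset.prod_empty
    have h1 := hne x hx
    have h2 : σ (σ x) ≠ x := fun e => h1 (by
      have := congrArg σ e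
      rwa [h3, eq_comm] at this)
    have h12 : σ (σ x) ≠ σ x := hne _ (hS x hx)
    set T : Finset α := {x, σ x, σ (σ x)} with hT
    have hTS : T ⊆ S := by
      intro y hy
      simp only [hT, Finset.mem_insert, Finset.mem_singleton] at hy
      rcases hy with rfl | rfl | rfl
      exacts [hx, hS _ hx, hS _ (hS _ hx)]
    have hTc : ∀ y, σ y ∈ T → y ∈ T := by
      intro y hy
      simp only [hT, Finset.mem_insert, Finset.mem_singleton] at hy ⊢
      rcases hy with e | e | e
      · exact Or.inr (Or.inr (by rw [← h3 y, e]))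
      · exact Or.inl (by rw [← h3 y, e, h3])
      · exact Or.inr (Or.inl (by rw [← h3 y, e, h3]))
    rw [← Finset.prod_sdiff hTS, ih (S \ T) ?_ ?_ ?_ ?_, one_mul]
    · rw [hT, Finset.prod_insert (by simp [h1.symm, h2.symm]), Finset.prod_insert (by simp [h12.symm]),
        Finset.prod_singleton]
      exact hf x hx
    · exact Finset.sdiff_ssubset hTS ⟨x, by simp [hT]⟩
    · intro y hy
      rw [Finset.mem_sdiff] at hy ⊢
      exact ⟨hS y hy.1, fun e => hy.2 (hTc y e)⟩
    · exact fun y hy => hne y (Finset.mem_sdiff.1 hy).1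
    · exact fun y hy => hf y (Finset.mem_sdiff.1 hy).1

variable {G : Type u} [Group G] [Finite G]

/-- A normal subgroup of index three. -/
theorem index_three {a x : G} (ha : a * (a * a) = 1) (hx : x * (x * x) = 1) (hxa : x * a = a * x)
    {C : Subgroup G} (hC : C = centralizer ({a} : Set G)) (hxC : x ∈ C) (χ : ↥C →* Multiplicative (ZMod 3))
    (hχ : χ ⟨x, hxC⟩ ≠ 1) (hweak : ∀ g : G, g⁻¹ * a * g ∈ C → g⁻¹ * a * g = a) :
    ∃ N : Subgroup G, N.Normal ∧ N.index = 3 := by
  classical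
  let := Fintype.ofFinite (G ⧸ C)
  let T : C.LeftTransversal :=
    ⟨Set.range (fun q : G ⧸ C => q.out), Subgroup.isComplement_range_left fun q => q.out_eq'⟩
  have hT : ∀ q : G ⧸ C, ((T.2.leftQuotientEquiv q : (T : Set G)) : G) = q.out := fun q =>
    IsComplement.leftQuotientEquiv_apply (f := fun q : G ⧸ C => q.out) (fun q => q.out_eq') q
  have hmem : ∀ q : G ⧸ C, q.out⁻¹ * (x * (x⁻¹ • q).out) ∈ C := fun q => by
    rw [← QuotientGroup.eq, QuotientGroup.out_eq', ← smul_eq_mul, ← MulAction.Quotient.smul_coe,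
      QuotientGroup.out_eq', smul_smul, mul_inv_cancel, one_smul]
  let f : G ⧸ C → Multiplicative (ZMod 3) := fun q => χ ⟨_, hmem q⟩
  have htr : MonoidHom.transfer χ x = ∏ q : G ⧸ C, f q := by
    rw [MonoidHom.transfer_def χ T x]
    simp only [Subgroup.leftTransversals.diff]
    refine Finset.prod_congr (Finset.ext fun q => by simp) fun q _ => congrArg χ (Subtype.ext ?_)
    show ((T.2.leftQuotientEquiv q : (T : Set G)) : G)⁻¹ * ((x • T).2.leftQuotientEquiv q : G) =
      q.out⁻¹ * (x * (x⁻¹ • q).out)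
    rw [hT, Subgroup.smul_apply_eq_smul_apply_inv_smul, hT, smul_eq_mul]
  have hxinv : x⁻¹ * (x⁻¹ * x⁻¹) = 1 := by rw [← mul_inv_rev, ← mul_inv_rev, mul_assoc, hx, inv_one]
  set σ : G ⧸ C → G ⧸ C := fun q => x⁻¹ • q with hσ
  -- the value at a fixed coset
  have hval : ∀ (q : G ⧸ C) (y : G), (y : G ⧸ C) = q → x⁻¹ • q = q →
      ∃ h : y⁻¹ * x * y ∈ C, f q = χ ⟨_, h⟩ := by
    intro q y hy hfq
    have hu : q.out⁻¹ * y ∈ C := by rw [← QuotientGroup.eq, QuotientGroup.out_eq', hy]
    have hm : q.out⁻¹ * (x * q.out) ∈ C := by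
      have := hmem q
      rwa [hfq] at this
    have e : y⁻¹ * x * y = ((⟨_, hu⟩ : C) : G)⁻¹ * (q.out⁻¹ * (x * q.out)) * (⟨_, hu⟩ : C) := by
      show _ = (q.out⁻¹ * y)⁻¹ * _ * (q.out⁻¹ * y)
      group
    refine ⟨e ▸ mul_mem (mul_mem (inv_mem hu) hm) hu, ?_⟩
    have e2 : f q = χ ⟨_, hm⟩ := congrArg χ (Subtype.ext (by
      show q.out⁻¹ * (x * (x⁻¹ • q).out) = _
      rw [hfq]))
    rw [e2, show (⟨y⁻¹ * x * y, e ▸ mul_mem (mul_mem (inv_mem hu) hm) hu⟩ : ↥C) = (⟨_, hu⟩ : C)⁻¹ * ⟨_, hm⟩ * ⟨_, hu⟩ from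
      Subtype.ext e, map_mul, map_mul, map_inv, mul_comm (χ (⟨_, hu⟩ : C))⁻¹, inv_mul_cancel_right]
  set S := Finset.univ.filter fun q : G ⧸ C => σ q = q with hS
  have hout : ∏ q ∈ Finset.univ.filter (fun q : G ⧸ C => ¬ σ q = q), f q = 1 := by
    refine prod_three σ (fun q => by simp only [hσ, smul_smul, hxinv, one_smul]) f _ (fun q hq => ?_)
      (fun q hq => (Finset.mem_filter.1 hq).2) (fun q _ => ?_)
    · refine Finset.mem_filter.2 ⟨Finset.mem_univ _, fun e => (Finset.mem_filter.1 hq).2 ?_⟩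
      exact MulAction.injective x⁻¹ e
    · show χ _ * (χ _ * χ _) = 1
      rw [← map_mul, ← map_mul, ← map_one χ]
      refine congrArg χ (Subtype.ext ?_)
      show q.out⁻¹ * (x * (x⁻¹ • q).out) * ((x⁻¹ • q).out⁻¹ * (x * (x⁻¹ • x⁻¹ • q).out) *
        ((x⁻¹ • x⁻¹ • q).out⁻¹ * (x * (x⁻¹ • x⁻¹ • x⁻¹ • q).out))) = 1
      rw [show x⁻¹ • x⁻¹ • x⁻¹ • q = q by rw [smul_smul, smul_smul, mul_assoc, hxinv, one_smul]]
      have h : x * x * x = 1 := by rw [mul_assoc, hx]
      calc _ = q.out⁻¹ * (x * x * x) * q.out := by group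
        _ = 1 := by rw [h, mul_one, inv_mul_cancel]
  have hxa' : x⁻¹ * a = a * x⁻¹ := by
    rw [inv_mul_eq_iff_eq_mul, ← mul_assoc, hxa, mul_inv_cancel_right]
  -- the fixed cosets other than the base one are permuted in threes
  set q₀ : G ⧸ C := ((1 : G) : G ⧸ C) with hq₀
  have hq₀S : q₀ ∈ S := Finset.mem_filter.2 ⟨Finset.mem_univ _, by
    show x⁻¹ • q₀ = q₀
    rw [hq₀, MulAction.Quotient.smul_coe, smul_eq_mul, mul_one, QuotientGroup.eq, inv_inv, mul_one]
    exact hxC⟩
  have haq₀ : a • q₀ = q₀ := by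
    rw [hq₀, MulAction.Quotient.smul_coe, smul_eq_mul, mul_one, QuotientGroup.eq, mul_one]
    exact inv_mem (hC ▸ mem_centralizer_singleton_iff.2 rfl)
  have hfix : ∀ q : G ⧸ C, a • q = q → q = q₀ := by
    intro q hq
    induction q using QuotientGroup.induction_on with
    | H g =>
      rw [MulAction.Quotient.smul_coe, smul_eq_mul, QuotientGroup.eq] at hq
      have h : g⁻¹ * a * g ∈ C := by
        have := inv_mem hq
        rwa [mul_inv_rev, inv_inv, ← mul_assoc] at this
      rw [hq₀, QuotientGroup.eq, mul_one]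
      refine inv_mem (hC ▸ mem_centralizer_singleton_iff.2 ?_)
      calc g * a = g * (g⁻¹ * a * g) := by rw [hweak g h]
        _ = a * g := by group
  have hfixed : ∏ q ∈ S.erase q₀, f q = 1 := by
    refine prod_three (fun q => a • q) (fun q => by simp only [smul_smul, ha, one_smul]) f _
      (fun q hq => ?_) (fun q hq e => (Finset.mem_erase.1 hq).1 (hfix q e)) (fun q hq => ?_)
    · obtain ⟨hne, hq⟩ := Finset.mem_erase.1 hq
      refine Finset.mem_erase.2 ⟨fun e => hne ?_, Finset.mem_filter.2 ⟨Finset.mem_univ _, ?_⟩⟩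
      · exact MulAction.injective a (e.trans haq₀.symm)
      · show x⁻¹ • a • q = a • q
        rw [smul_smul, hxa', ← smul_smul]; exact congrArg (a • ·) (Finset.mem_filter.1 hq).2
    · have hqS : x⁻¹ • q = q := (Finset.mem_filter.1 (Finset.mem_erase.1 hq).2).2
      have hsame : ∀ p : G ⧸ C, x⁻¹ • p = p → f (a • p) = f p := by
        intro p hp
        induction p using QuotientGroup.induction_on with
        | H g =>
          obtain ⟨h1, e1⟩ := hval _ g rfl hp
          obtain ⟨h2, e2⟩ := hval (a • (g : G ⧸ C)) (a * g) rfl (by rw [smul_smul, hxa', ← smul_smul, hp])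
          rw [e1, e2]
          refine congrArg χ (Subtype.ext ?_)
          show (a * g)⁻¹ * x * (a * g) = g⁻¹ * x * g
          calc (a * g)⁻¹ * x * (a * g) = g⁻¹ * (a⁻¹ * (x * a)) * g := by group
            _ = _ := by rw [hxa, inv_mul_cancel_left]
      have h1 := hsame q hqS
      have h2 := hsame (a • q) (by rw [smul_smul, hxa', ← smul_smul, hqS])
      show f q * (f (a • q) * f (a • a • q)) = 1
      rw [h2, h1, three_cube]
  have hV : MonoidHom.transfer χ x ≠ 1 := by
    rw [htr, ← Finset.prod_filter_mul_prod_filter_not Finset.univ (fun q : G ⧸ C => σ q = q) f, hout, mul_one,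
      ← hS, ← Finset.mul_prod_erase S f hq₀S, hfixed, mul_one]
    obtain ⟨h, e⟩ := hval q₀ 1 rfl (Finset.mem_filter.1 hq₀S).2
    rw [e]
    intro e'
    refine hχ (Eq.trans (congrArg χ (Subtype.ext ?_)) e')
    show x = 1⁻¹ * x * 1
    group
  refine ⟨(MonoidHom.transfer χ).ker, inferInstance, ?_⟩
  rw [index_ker, MonoidHom.range_eq_top_of_surjective, card_top, Nat.card_eq_fintype_card]
  · rfl
  intro k
  rcases three_cases _ hV k with rfl | rfl | rfl
  · exact ⟨1, map_one _⟩
  · exact ⟨x, rfl⟩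
  · exact ⟨x * x, map_mul _ _ _⟩

end Cfsg.Lib.SpCentre
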