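import Cfsg.Agent.LocalThree.SpCentre.Action
import Cfsg.Agent.LocalThree.SpCentre.KOne

/-!
The four possible groups of monomial maps, and the case where the central vector has no other image.
-/

set_option autoImplicit false
set_option maxRecDepth 8000
set_option linter.unusedSectionVars false
set_option synthInstance.maxSize 2000

namespace Cfsg.Lib.SpCentre

open Subgroup Cfsg.Lib.HeisSL Cfsg.Lib.AmalgamSpFour

universe u

/-- the diagonal map -/
def dg (s : V) : Op := ((s.1, 0, 0), (0, s.2.1, 0), (0, 0, s.2.2))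

/-- sign vectors with one minus -/
def oneMinus : List V := [(-1, 1, 1), (1, -1, 1), (1, 1, -1)]

/-- sign vectors with two minus -/
def twoMinus : List V := [(1, -1, -1), (-1, 1, -1), (-1, -1, 1)]

theorem dg_part_b : (M48.all fun w => perms.any fun p => decide (cmp w p = dg (app w vZ))) = true := by
  decide +kernel

theorem dg_part {w : Op} (hw : w ∈ M48) : ∃ p ∈ perms, cmp w p = dg (app w vZ) := by
  obtain ⟨p, hp, h⟩ := List.any_eq_true.1 (List.all_eq_true.1 dg_part_b w hw)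
  exact ⟨p, hp, of_decide_eq_true h⟩

theorem dg_moves : (∀ s ∈ oneMinus, ∀ s' ∈ oneMinus, ∃ p ∈ perms, ∃ p' ∈ perms, cmp p (cmp (dg s) p') = dg s') ∧
    (∀ s ∈ twoMinus, ∀ s' ∈ twoMinus, ∃ p ∈ perms, ∃ p' ∈ perms, cmp p (cmp (dg s) p') = dg s') ∧
    ∀ s ∈ twoMinus, cmp (dg (-vZ)) (dg s) = dg (-s) ∧ -s ∈ oneMinus := by decide +kernel

theorem M48_gen_b : (M48.all fun w => [idW, dg (-1, 1, 1)].any fun a => [idW, dg (1, -1, 1)].any fun b =>
    [idW, dg (1, 1, -1)].any fun c => perms.any fun p => decide (cmp a (cmp b (cmp c p)) = w)) = true := by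
  decide +kernel

theorem WL_gen_b : (WL.all fun w => [idW, dg (1, -1, -1), dg (-1, 1, -1), dg (-1, -1, 1)].any fun a =>
    perms.any fun p => decide (cmp a p = w)) = true := by decide +kernel

theorem split_b : (M48.all fun w => WL.elem w || oneMinus.elem (app w vZ) || decide (app w vZ = -vZ)) = true := by
  decide +kernel

theorem image_b : (M48.all fun w => decide (app w vZ = vZ) || decide (app w vZ = -vZ) ||
    oneMinus.elem (app w vZ) || twoMinus.elem (app w vZ)) = true := by decide +kernel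

theorem WL_fix_b : (WL.all fun w => !decide (app w vZ = -vZ)) = true := by decide +kernel

theorem chiA_e1 : chiA (mv (1, 0, 0)).A = 1 ∧ chiA (e0 : Mdl).A = 0 := by decide +kernel

namespace Loc

variable {G : Type u} [Group G] [Finite G] (L : Loc G)

/-- the group of maps induced -/
def Ind (w : Op) : Prop := ∃ g, L.Acts g w

theorem ind_mul {a b : Op} : L.Ind a → L.Ind b → L.Ind (cmp a b) := fun ⟨g, hg⟩ ⟨g', hg'⟩ => ⟨g * g', hg.mul hg'⟩

theorem ind_perm {p : Op} (hp : p ∈ perms) : L.Ind p := L.exists_perm hp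

theorem ind_id : L.Ind idW := ⟨1, Data.acts_one⟩

theorem ind_mem {w : Op} : L.Ind w → w ∈ M48 := fun ⟨g, hg⟩ => L.mono g w hg

theorem ind_dg {w : Op} (h : L.Ind w) : L.Ind (dg (app w vZ)) := by
  obtain ⟨p, hp, e⟩ := dg_part (L.ind_mem h)
  exact e ▸ L.ind_mul h (L.ind_perm hp)

theorem ind_full {w₀ : Op} (h₀ : L.Ind w₀) (hs : app w₀ vZ ∈ oneMinus) {w : Op} (hw : w ∈ M48) : L.Ind w := by
  have hone : ∀ s ∈ oneMinus, L.Ind (dg s) := by
    intro s h
    obtain ⟨p, hp, p', hp', e⟩ := dg_moves.1 _ hs s h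
    exact e ▸ L.ind_mul (L.ind_perm hp) (L.ind_mul (L.ind_dg h₀) (L.ind_perm hp'))
  obtain ⟨a, ha, h⟩ := List.any_eq_true.1 (List.all_eq_true.1 M48_gen_b w hw)
  obtain ⟨b, hb, h⟩ := List.any_eq_true.1 h
  obtain ⟨c, hc, h⟩ := List.any_eq_true.1 h
  obtain ⟨p, hp, h⟩ := List.any_eq_true.1 h
  simp only [List.mem_cons, List.not_mem_nil, or_false] at ha hb hc
  have key : ∀ {x s}, x = idW ∨ x = dg s → s ∈ oneMinus → L.Ind x := by
    rintro x s (rfl | rfl) hs
    exacts [L.ind_id, hone s hs]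
  exact of_decide_eq_true h ▸ L.ind_mul (key ha (by decide)) (L.ind_mul (key hb (by decide))
    (L.ind_mul (key hc (by decide)) (L.ind_perm hp)))

theorem ind_WL {w₀ : Op} (h₀ : L.Ind w₀) (hs : app w₀ vZ ∈ twoMinus) {w : Op} (hw : w ∈ WL) : L.Ind w := by
  have hone : ∀ s ∈ twoMinus, L.Ind (dg s) := by
    intro s h
    obtain ⟨p, hp, p', hp', e⟩ := dg_moves.2.1 _ hs s h
    exact e ▸ L.ind_mul (L.ind_perm hp) (L.ind_mul (L.ind_dg h₀) (L.ind_perm hp'))
  obtain ⟨a, ha, h⟩ := List.any_eq_true.1 (List.all_eq_true.1 WL_gen_b w hw)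
  obtain ⟨p, hp, h⟩ := List.any_eq_true.1 h
  simp only [List.mem_cons, List.not_mem_nil, or_false] at ha
  refine of_decide_eq_true h ▸ L.ind_mul ?_ (L.ind_perm hp)
  rcases ha with rfl | rfl | rfl | rfl
  exacts [L.ind_id, hone _ (by decide), hone _ (by decide), hone _ (by decide)]

/-- The four cases. -/
theorem cases :
    (∀ w, L.Ind w → app w vZ = vZ) ∨
    ((∀ w, L.Ind w → app w vZ = vZ ∨ app w vZ = -vZ) ∧ ∃ w, L.Ind w ∧ app w vZ = -vZ) ∨
    (∀ w, L.Ind w ↔ w ∈ WL) ∨ (∀ w, L.Ind w ↔ w ∈ M48) := by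
  classical
  by_cases h1 : ∃ w, L.Ind w ∧ app w vZ ∈ oneMinus
  · obtain ⟨w₀, h₀, hs⟩ := h1
    exact Or.inr (Or.inr (Or.inr fun w => ⟨L.ind_mem, L.ind_full h₀ hs⟩))
  push Not at h1
  by_cases h2 : ∃ w, L.Ind w ∧ app w vZ ∈ twoMinus
  · obtain ⟨w₀, h₀, hs⟩ := h2
    refine Or.inr (Or.inr (Or.inl fun w => ⟨fun hw => ?_, L.ind_WL h₀ hs⟩))
    have h := List.all_eq_true.1 split_b w (L.ind_mem hw)
    simp only [Bool.or_eq_true, List.elem_eq_mem, decide_eq_true_eq, or_assoc] at h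
    rcases h with h | h | h
    · exact h
    · exact absurd h (h1 w hw)
    · exfalso
      have hd : L.Ind (dg (-vZ)) := by rw [← h]; exact L.ind_dg hw
      obtain ⟨e, hm⟩ := dg_moves.2.2 _ hs
      have hn : L.Ind (dg (-app w₀ vZ)) := e ▸ L.ind_mul hd (L.ind_dg h₀)
      refine h1 _ hn ?_
      have hv : ∀ s : V, app (dg s) vZ = s := by decide +kernel
      rw [hv]; exact hm
  push Not at h2
  have hpm : ∀ w, L.Ind w → app w vZ = vZ ∨ app w vZ = -vZ := fun w hw => by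
    have h := List.all_eq_true.1 image_b w (L.ind_mem hw)
    simp only [Bool.or_eq_true, List.elem_eq_mem, decide_eq_true_eq, or_assoc] at h
    rcases h with h | h | h | h
    exacts [Or.inl h, Or.inr h, absurd h (h1 w hw), absurd h (h2 w hw)]
  by_cases h3 : ∃ w, L.Ind w ∧ app w vZ = -vZ
  · exact Or.inr (Or.inl ⟨hpm, h3⟩)
  · push Not at h3
    exact Or.inl fun w hw => (hpm w hw).resolve_right (h3 w hw)

theorem real_iff : (∃ g : G, g * L.ι vZ * g⁻¹ = (L.ι vZ)⁻¹) ↔ ∃ w, L.Ind w ∧ app w vZ = -vZ := by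
  constructor
  · rintro ⟨g, hg⟩
    rw [← L.ι_neg] at hg
    obtain ⟨n, x, -, hn, hx⟩ := L.fusion hg
    exact ⟨x, ⟨n, hn⟩, hx⟩
  · rintro ⟨w, ⟨g, hg⟩, hw⟩
    exact ⟨g, by rw [hg, hw, L.ι_neg]⟩

theorem real_not_WL (h : ∀ w, L.Ind w ↔ w ∈ WL) : ∀ g : G, g * L.ι vZ * g⁻¹ ≠ (L.ι vZ)⁻¹ := by
  intro g hg
  obtain ⟨w, hw, he⟩ := L.real_iff.1 ⟨g, hg⟩
  have := List.all_eq_true.1 WL_fix_b w ((h w).1 hw)
  simp [he] at this

theorem one_image (h : ∀ w, L.Ind w → app w vZ = vZ) : ∃ N : Subgroup G, N.Normal ∧ N.index = 3 := by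
  classical
  obtain ⟨C, hC⟩ : ∃ C : Subgroup G, C = centralizer ({L.ι vZ} : Set G) := ⟨_, rfl⟩
  have hmem : ∀ g : C, ∃ m : Mdl, L.Ψ m = (g : G) := fun g => by
    have hg : (g : G) ∈ centralizer ({L.ι vZ} : Set G) := hC.le g.2
    exact L.cent _ (mem_centralizer_singleton_iff.1 hg)
  choose f hf using hmem
  have hfm : ∀ g g' : C, f (g * g') = f g * f g' := fun g g' => L.inj (by rw [hf, L.hmul, hf, hf]; rfl)
  let χ : C →* Multiplicative (ZMod 3) :=
    { toFun := fun g => Multiplicative.ofAdd (chiA (f g).A)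
      map_one' := by
        have : f 1 = e0 := L.inj (by rw [hf, L.Ψ_one]; rfl)
        rw [this, chiA_e1.2]; rfl
      map_mul' := fun g g' => by rw [hfm, mul_A, chiA_mul]; rfl }
  have hxC : L.ι (1, 0, 0) ∈ C := hC ▸ mem_centralizer_singleton_iff.2 (L.ι_comm _ _)
  refine index_three (L.ι_cube vZ) (L.ι_cube (1, 0, 0)) (L.ι_comm _ _) hC hxC χ ?_ ?_
  · have : f ⟨_, hxC⟩ = mv (1, 0, 0) := L.inj (hf ⟨_, hxC⟩)
    show Multiplicative.ofAdd (chiA (f ⟨_, hxC⟩).A) ≠ 1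
    rw [this, chiA_e1.1]
    decide
  · intro g hg
    obtain ⟨m, hm⟩ := L.cent _ (mem_centralizer_singleton_iff.1 (hC.le hg))
    have hm3 : m * (m * m) = e0 := L.inj (by
      rw [L.hmul, L.hmul, hm, L.Ψ_one]
      calc _ = g⁻¹ * (L.ι vZ * (L.ι vZ * L.ι vZ)) * g := by group
        _ = 1 := by rw [L.ι_cube, mul_one, inv_mul_cancel])
    obtain ⟨k, -, v, hv⟩ := cube_cover m hm3
    have e := congrArg L.Ψ hv
    rw [L.hmul, L.hmul, hm] at e
    have hconj : g * L.Ψ k * L.ι v * (g * L.Ψ k)⁻¹ = L.ι vZ := by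
      calc _ = g * (L.Ψ k * L.ι v) * (L.Ψ k)⁻¹ * g⁻¹ := by group
        _ = _ := by rw [show L.Ψ k * L.ι v = g⁻¹ * L.ι vZ * g * L.Ψ k from e.symm]; group
    obtain ⟨n, x, -, hn, hx⟩ := L.fusion hconj
    have hvz : v = vZ := L.ι_inj (mul_left_cancel (mul_right_cancel (((hn v).trans (by rw [hx])).trans
      ((hn vZ).trans (by rw [h x ⟨n, hn⟩])).symm)))
    have e2 : L.Ψ k * L.ι vZ = L.ι vZ * L.Ψ k := by
      show L.Ψ k * L.Ψ (mv vZ) = L.Ψ (mv vZ) * L.Ψ k
      rw [← L.hmul, ← L.hmul, centre_central]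
    refine mul_right_cancel (b := L.Ψ k) (e.trans ?_)
    show L.Ψ k * L.ι v = _
    rw [hvz, e2]

end Loc

end Cfsg.Lib.SpCentre
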