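import Cfsg.Agent.LocalThree.SpCentre.SixChain
import Cfsg.Agent.S2530

/-!
A central extension of the symmetric group of degree six by a group of order two splits when one class of
involutions lifts without fusion to the twisted lift and a commuting pair and a pair with product of order
three lift correctly.
-/

set_option autoImplicit false
set_option maxRecDepth 8000
set_option linter.unusedSectionVars false

namespace Cfsg.Lib.SpCentre

open Equiv

universe u

variable {C : Type u} [Group C] [Finite C]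

/-- The hypotheses of the splitting. -/
structure Lift2 (C : Type u) [Group C] where
  π : C →* S6
  surj : Function.Surjective π
  t : C
  t_ne : t ≠ 1
  t_sq : t * t = 1
  t_central : ∀ g : C, g * t = t * g
  ker : ∀ x : C, π x = 1 → x = 1 ∨ x = t
  ker_t : π t = 1
  a : C
  a_sq : a * a = 1
  no_twist : ∀ g : C, g * a * g⁻¹ ≠ t * a
  q : C
  q_cube : q * (q * q) = 1
  q_ne : π q ≠ 1
  q_comm : q * a = a * q
  pa : π a ≠ 1
  b : C
  b_conj : ∃ g : C, g * a * g⁻¹ = b
  b_comm : a * b = b * a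
  b_ne : π b ≠ π a
  b' : C
  b'_conj : ∃ g : C, g * a * g⁻¹ = b'
  b'_three : a * b' * (a * b' * (a * b')) = 1
  b'_ne : π b' ≠ π a

namespace Lift2

variable (S : Lift2 C)

theorem exists_class : ∃ (B : Bool) (g : S6), g * S.π S.a = chain B 0 * g := by
  obtain ⟨i, g, hg⟩ := inv_class (S.π S.a) (by rw [← map_mul, S.a_sq, map_one]) S.pa
  have key : i = 0 ∨ i = 1 ∨ i = 2 := by omega
  rcases key with rfl | rfl | rfl
  · exact ⟨false, g, by rw [hg, rep_chain.1]; rfl⟩
  · exact ⟨true, g, by rw [hg, rep_chain.2]; rfl⟩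
  · exfalso
    refine S.q_ne ?_
    have h := double_cent (g * S.π S.q * g⁻¹) (by
      calc _ = g * S.π (S.q * (S.q * S.q)) * g⁻¹ := by rw [map_mul, map_mul]; group
        _ = 1 := by rw [S.q_cube, map_one]; group) (by
      have e : invRep 2 = g * S.π S.a * g⁻¹ := eq_mul_inv_of_mul_eq hg.symm
      rw [e]
      calc g * S.π S.q * g⁻¹ * (g * S.π S.a * g⁻¹) = g * S.π (S.q * S.a) * g⁻¹ := by rw [map_mul]; group
        _ = _ := by rw [S.q_comm, map_mul]; group)
    exact conj_eq_one_iff.1 h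

/-- The lift is unique within the class. -/
theorem lift_unique (g g' : C) (h : S.π (g * S.a * g⁻¹) = S.π (g' * S.a * g'⁻¹)) :
    g * S.a * g⁻¹ = g' * S.a * g'⁻¹ := by
  rcases S.ker ((g' * S.a * g'⁻¹)⁻¹ * (g * S.a * g⁻¹)) (by rw [map_mul, map_inv, h, inv_mul_cancel]) with e | e
  · exact (inv_mul_eq_one.1 e).symm
  · exfalso
    refine S.no_twist (g'⁻¹ * g) ?_
    have e2 := inv_mul_eq_iff_eq_mul.1 e
    calc g'⁻¹ * g * S.a * (g'⁻¹ * g)⁻¹ = g'⁻¹ * (g * S.a * g⁻¹) * g' := by group
      _ = S.a * (g'⁻¹ * (S.t * g')) := by rw [e2]; group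
      _ = S.t * S.a := by rw [← S.t_central g', inv_mul_cancel_left, S.t_central]

/-- The character of order two with value one at the class. -/
theorem exists_char : ∃ χ : C →* Multiplicative (ZMod 2), χ S.t = Multiplicative.ofAdd 1 ∧ χ S.a = 1 := by
  classical
  obtain ⟨B, g, hg⟩ := S.exists_class
  obtain ⟨cs, hcs⟩ := Cfsg.Agent.S2530.result 5
  obtain ⟨hsq, h3, h2, hh, hwords⟩ := chain_facts
  let π' : C →* S6 := (MulAut.conj g).toMonoidHom.comp S.π
  have hsurj : Function.Surjective π' := (MulAut.conj g).surjective.comp S.surj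
  have hπa : π' S.a = chain B 0 := by
    show g * S.π S.a * g⁻¹ = _
    rw [hg, mul_inv_cancel_right]
  have hker : ∀ x, π' x = 1 → x = 1 ∨ x = S.t := fun x hx => S.ker x (by
    have h : g * S.π x * g⁻¹ = 1 := hx
    exact conj_eq_one_iff.1 h)
  have huni : ∀ u v : C, π' (u * S.a * u⁻¹) = π' (v * S.a * v⁻¹) → u * S.a * u⁻¹ = v * S.a * v⁻¹ :=
    fun u v h => S.lift_unique u v ((MulAut.conj g).injective h)
  -- the lifts of the chain
  have hex : ∀ i : Fin 5, ∃ u : C, π' (u * S.a * u⁻¹) = chain B i := fun i => by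
    obtain ⟨h, hh'⟩ := hh B i
    obtain ⟨u, hu⟩ := hsurj h
    exact ⟨u, by rw [map_mul, map_mul, map_inv, hu, hπa, hh', mul_inv_cancel_right]⟩
  choose u hu using hex
  let x : Fin 5 → C := fun i => u i * S.a * (u i)⁻¹
  have hx : ∀ i, π' (x i) = chain B i := hu
  have hx0 : x 0 = S.a := by
    have := huni (u 0) 1 (by rw [hu 0, one_mul, inv_one, mul_one, hπa])
    rwa [one_mul, inv_one, mul_one] at this
  have hcls : ∀ v : C, π' (v * S.a * v⁻¹) ∈ cls B := fun v => by
    rw [map_mul, map_mul, map_inv, hπa]; exact cls_closed B _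
  have hxsq : ∀ i, x i * x i = 1 := fun i => by
    calc x i * x i = u i * (S.a * S.a) * (u i)⁻¹ := by simp only [x]; group
      _ = 1 := by rw [S.a_sq, mul_one, mul_inv_cancel]
  have htrans : ∀ (w : C) (z : C) (i j : Fin 5), (∃ v, v * S.a * v⁻¹ = z) →
      (∃ h : S6, h * chain B 0 = chain B i * h ∧ h * π' z = chain B j * h) →
      ∃ v : C, x i = v * S.a * v⁻¹ ∧ x j = v * z * v⁻¹ := by
    rintro - z i j ⟨y, rfl⟩ ⟨h, h1, h2⟩
    obtain ⟨v, rfl⟩ := hsurj h
    refine ⟨v, huni _ _ ?_, ?_⟩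
    · rw [hu i, map_mul, map_mul, map_inv, hπa, h1, mul_inv_cancel_right]
    · have e := huni (u j) (v * y) (by
        rw [hu j, show v * y * S.a * (v * y)⁻¹ = v * (y * S.a * y⁻¹) * v⁻¹ by group, map_mul, map_mul π' v, map_inv, h2,
          mul_inv_cancel_right])
      show u j * S.a * (u j)⁻¹ = _
      rw [e]; group
  have hlift : (CoxeterMatrix.A 5).IsLiftable x := by
    intro i j
    have hval : CoxeterMatrix.A 5 i j = if i = j then 1 else if (j : ℕ) + 1 = i ∨ (i : ℕ) + 1 = j then 3 else 2 := rfl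
    rw [hval]
    split_ifs with hij hadj
    · subst hij; rw [pow_one, hxsq]
    · obtain ⟨y, hy⟩ := S.b'_conj
      obtain ⟨v, e1, e2⟩ := htrans 1 S.b' i j ⟨y, hy⟩ (pair_three B (π' S.b') (hy ▸ hcls y)
        (fun e => S.b'_ne ((MulAut.conj g).injective (e.trans hπa.symm))) (by
          rw [← hπa, ← map_mul, ← map_mul, ← map_mul, S.b'_three, map_one]) i j hadj)
      rw [e1, e2, pow_three]
      calc v * S.a * v⁻¹ * (v * S.b' * v⁻¹) * (v * S.a * v⁻¹ * (v * S.b' * v⁻¹) * (v * S.a * v⁻¹ * (v * S.b' * v⁻¹)))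
          = v * (S.a * S.b' * (S.a * S.b' * (S.a * S.b'))) * v⁻¹ := by group
        _ = 1 := by rw [S.b'_three]; group
    · obtain ⟨y, hy⟩ := S.b_conj
      have hfar : (i : ℕ) + 1 < j ∨ (j : ℕ) + 1 < i := by
        have : (i : ℕ) ≠ j := fun e => hij (Fin.ext e)
        omega
      obtain ⟨v, e1, e2⟩ := htrans 1 S.b i j ⟨y, hy⟩ (pair_comm B (π' S.b) (hy ▸ hcls y)
        (fun e => S.b_ne ((MulAut.conj g).injective (e.trans hπa.symm))) (by
          rw [← hπa, ← map_mul, ← map_mul, S.b_comm]) i j hfar)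
      have hbb : S.b * S.b = 1 := by
        rw [← hy]
        calc y * S.a * y⁻¹ * (y * S.a * y⁻¹) = y * (S.a * S.a) * y⁻¹ := by group
          _ = 1 := by rw [S.a_sq]; group
      rw [e1, e2, pow_two]
      calc v * S.a * v⁻¹ * (v * S.b * v⁻¹) * (v * S.a * v⁻¹ * (v * S.b * v⁻¹))
          = v * (S.a * (S.b * S.a) * S.b) * v⁻¹ := by group
        _ = v * (S.a * S.a * (S.b * S.b)) * v⁻¹ := by rw [← S.b_comm]; group
        _ = 1 := by rw [S.a_sq, hbb]; group
  have hlc : (CoxeterMatrix.A 5).IsLiftable (chain B) := fun i j => by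
    have h := congrArg π' (hlift i j)
    rwa [map_pow, map_mul, hx, hx, map_one] at h
  let ψ : S6 →* C := cs.lift ⟨x, hlift⟩
  let τ : S6 →* S6 := cs.lift ⟨chain B, hlc⟩
  have hψ : ∀ i, ψ (cs.simple i) = x i := cs.lift_apply_simple hlift
  have hτ : ∀ i, τ (cs.simple i) = chain B i := cs.lift_apply_simple hlc
  have hπψ : π'.comp ψ = τ := cs.ext_simple fun i => by rw [MonoidHom.comp_apply, hψ, hx, hτ]
  have hτs : Function.Surjective τ := by
    rw [← MonoidHom.range_eq_top, eq_top_iff, ← cs.subgroup_closure_range_simple, Subgroup.closure_le]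
    rintro _ ⟨i, rfl⟩
    rw [hcs]
    cases B with
    | false => exact ⟨cs.simple i, hτ i⟩
    | true =>
      refine ⟨((wordsT i).map cs.simple).prod, ?_⟩
      rw [map_list_prod, List.map_map, show ⇑τ ∘ cs.simple = chainT from funext hτ]
      exact hwords i
  let e : S6 ≃* S6 := MulEquiv.ofBijective τ ⟨Finite.injective_iff_surjective.2 hτs, hτs⟩
  let f : C → C := fun y => y * (ψ (e.symm (π' y)))⁻¹
  have hf : ∀ y, f y = 1 ∨ f y = S.t := fun y => hker _ (by
    show π' (y * (ψ (e.symm (π' y)))⁻¹) = 1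
    have : π' (ψ (e.symm (π' y))) = π' y :=
      (DFunLike.congr_fun hπψ _).trans (e.apply_symm_apply _)
    rw [map_mul, map_inv, this, mul_inv_cancel])
  have hfc : ∀ y z, z * f y = f y * z := fun y z => by
    rcases hf y with e' | e' <;> rw [e']
    · rw [one_mul, mul_one]
    · exact S.t_central z
  have hfm : ∀ y z, f (y * z) = f y * f z := fun y z => by
    calc f (y * z) = y * f z * (ψ (e.symm (π' y)))⁻¹ := by
          simp only [f, map_mul, mul_inv_rev]; group
      _ = f z * (y * (ψ (e.symm (π' y)))⁻¹) := by rw [hfc z y]; group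
      _ = f y * f z := hfc y (f z)
  have hf1 : f S.t = S.t := by
    show S.t * (ψ (e.symm (π' S.t)))⁻¹ = S.t
    rw [show π' S.t = 1 from by show g * S.π S.t * g⁻¹ = 1; rw [S.ker_t]; group, map_one, map_one, inv_one, mul_one]
  have hfa : f S.a = 1 := by
    show S.a * (ψ (e.symm (π' S.a)))⁻¹ = 1
    rw [hπa, show chain B 0 = e (cs.simple 0) from (hτ 0).symm, e.symm_apply_apply, hψ, hx0, mul_inv_cancel]
  let v : C → Multiplicative (ZMod 2) := fun y => if f y = 1 then 1 else Multiplicative.ofAdd 1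
  refine ⟨MonoidHom.mk' v fun y z => ?_, ?_, ?_⟩
  · have h11 : Multiplicative.ofAdd (1 : ZMod 2) * Multiplicative.ofAdd (1 : ZMod 2) = 1 := by decide
    show v (y * z) = v y * v z
    simp only [v, hfm]
    rcases hf y with e1 | e1 <;> rcases hf z with e2 | e2 <;>
      simp [e1, e2, S.t_ne, S.t_sq, h11]
  · show v S.t = _
    simp only [v, hf1, if_neg S.t_ne]
  · show v S.a = _
    simp only [v, hfa, if_pos]

end Lift2

end Cfsg.Lib.SpCentre
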