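import Mathlib

/-!
The transfer to a group of order two at an involution whose other conjugates in the subgroup lie in the kernel.
-/

set_option autoImplicit false
set_option linter.unusedSectionVars false

namespace Cfsg.Lib.SpCentre

open Subgroup

universe u

variable {G : Type u} [Group G] [Finite G]

/-- A normal subgroup of index two avoiding the involution. -/
theorem index_two {t : G} (ht : t * t = 1) {H : Subgroup G} (htH : t ∈ H) (χ : ↥H →* Multiplicative (ZMod 2))
    (hχ : χ ⟨t, htH⟩ = Multiplicative.ofAdd 1)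
    (hother : ∀ (y : G) (h : y⁻¹ * t * y ∈ H), χ ⟨_, h⟩ = 1 ∨ y ∈ H) :
    ∃ N : Subgroup G, N.Normal ∧ N.index = 2 ∧ t ∉ N := by
  classical
  let := Fintype.ofFinite (G ⧸ H)
  have htinv : t⁻¹ = t := inv_eq_of_mul_eq_one_right ht
  let T : H.LeftTransversal :=
    ⟨Set.range (fun x : G ⧸ H => x.out), Subgroup.isComplement_range_left fun x => x.out_eq'⟩
  have hT : ∀ x : G ⧸ H, ((T.2.leftQuotientEquiv x : (T : Set G)) : G) = x.out := fun x =>
    IsComplement.leftQuotientEquiv_apply (f := fun x : G ⧸ H => x.out) (fun x => x.out_eq') x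
  have hmem : ∀ x : G ⧸ H, x.out⁻¹ * (t * (t • x).out) ∈ H := fun x => by
    rw [← QuotientGroup.eq]
    rw [QuotientGroup.out_eq', ← smul_eq_mul, ← MulAction.Quotient.smul_coe, QuotientGroup.out_eq', smul_smul, ht,
      one_smul]
  let f : G ⧸ H → Multiplicative (ZMod 2) := fun x => χ ⟨_, hmem x⟩
  have htr : MonoidHom.transfer χ t = ∏ x : G ⧸ H, f x := by
    rw [MonoidHom.transfer_def χ T t]
    simp only [Subgroup.leftTransversals.diff]
    refine Finset.prod_congr (Finset.ext fun x => by simp) fun x _ => congrArg χ (Subtype.ext ?_)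
    show ((T.2.leftQuotientEquiv x : (T : Set G)) : G)⁻¹ * ((t • T).2.leftQuotientEquiv x : G) =
      x.out⁻¹ * (t * (t • x).out)
    rw [hT, Subgroup.smul_apply_eq_smul_apply_inv_smul, hT, htinv, smul_eq_mul]
  set S := Finset.univ.filter fun x : G ⧸ H => t • x = x with hS
  have hmoved : ∏ x ∈ Finset.univ.filter (fun x : G ⧸ H => ¬ t • x = x), f x = 1 := by
    refine Finset.prod_involution (fun x _ => t • x) (fun x hx => ?_) (fun x hx _ => (Finset.mem_filter.1 hx).2)
      (fun x hx => ?_) (fun x _ => by rw [smul_smul, ht, one_smul])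
    · show χ _ * χ _ = 1
      rw [← map_mul, ← map_one χ]
      refine congrArg χ (Subtype.ext ?_)
      show x.out⁻¹ * (t * (t • x).out) * ((t • x).out⁻¹ * (t * (t • t • x).out)) = 1
      rw [smul_smul, ht, one_smul]
      calc x.out⁻¹ * (t * (t • x).out) * ((t • x).out⁻¹ * (t * x.out)) = x.out⁻¹ * (t * t) * x.out := by group
        _ = 1 := by rw [ht, mul_one, inv_mul_cancel]
    · refine Finset.mem_filter.2 ⟨Finset.mem_univ _, fun h => (Finset.mem_filter.1 hx).2 ?_⟩
      rwa [smul_smul, ht, one_smul, eq_comm] at h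
  set q₀ : G ⧸ H := ((1 : G) : G ⧸ H) with hq₀
  have hq₀S : q₀ ∈ S := Finset.mem_filter.2 ⟨Finset.mem_univ _, by
    rw [hq₀, MulAction.Quotient.smul_coe, QuotientGroup.eq, smul_eq_mul, mul_one, mul_one]; exact inv_mem htH⟩
  -- the value at a fixed coset
  have hval : ∀ x : G ⧸ H, t • x = x → ∃ h : x.out⁻¹ * t * x.out ∈ H, f x = χ ⟨_, h⟩ := by
    intro x hx
    have e : x.out⁻¹ * (t * (t • x).out) = x.out⁻¹ * t * x.out := by rw [hx, mul_assoc]
    exact ⟨e ▸ hmem x, congrArg χ (Subtype.ext e)⟩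
  have hrest : ∏ x ∈ S.erase q₀, f x = 1 := by
    refine Finset.prod_eq_one fun x hx => ?_
    obtain ⟨hne, hxS⟩ := Finset.mem_erase.1 hx
    obtain ⟨h, e⟩ := hval x (Finset.mem_filter.1 hxS).2
    rcases hother _ h with e' | e'
    · rw [e, e']
    · refine absurd ?_ hne
      rw [← x.out_eq', hq₀, QuotientGroup.eq, mul_one]
      exact inv_mem e'
  have hV : MonoidHom.transfer χ t = Multiplicative.ofAdd 1 := by
    rw [htr, ← Finset.prod_filter_mul_prod_filter_not Finset.univ (fun x : G ⧸ H => t • x = x) f, hmoved, mul_one,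
      ← hS, ← Finset.mul_prod_erase S f hq₀S, hrest, mul_one]
    obtain ⟨h, e⟩ := hval q₀ (Finset.mem_filter.1 hq₀S).2
    rw [e]
    have hout : q₀.out ∈ H := by
      have h := q₀.out_eq'
      rw [hq₀, QuotientGroup.eq, mul_one] at h
      exact inv_mem_iff.1 h
    have e2 : (⟨_, h⟩ : H) = (⟨_, hout⟩ : H)⁻¹ * ⟨t, htH⟩ * ⟨_, hout⟩ := Subtype.ext rfl
    rw [e2, map_mul, map_mul, map_inv, mul_comm (χ ⟨_, hout⟩)⁻¹, inv_mul_cancel_right, hχ]
  refine ⟨(MonoidHom.transfer χ).ker, inferInstance, ?_, fun h => ?_⟩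
  · rw [index_ker, MonoidHom.range_eq_top_of_surjective, card_top, Nat.card_eq_fintype_card]
    · rfl
    intro k
    rcases (show ∀ a : Multiplicative (ZMod 2), a = 1 ∨ a = Multiplicative.ofAdd 1 by decide) k with rfl | rfl
    · exact ⟨1, map_one _⟩
    · exact ⟨t, hV⟩
  · rw [MonoidHom.mem_ker, hV] at h
    exact absurd h (by decide)

end Cfsg.Lib.SpCentre
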