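import Cfsg.Agent.LocalThree.SpCentre.Reflections
import Cfsg.Agent.LocalThree.SpCentre.SixSplit
import Cfsg.Agent.LocalThree.SpCentre.TransferTwo
import Cfsg.Agent.S3333

/-!
The centraliser of the first sign change when the centraliser of the first basis vector normalises `J`:
a character separating the sign change from its other conjugates.
-/

set_option autoImplicit false
set_option maxRecDepth 8000
set_option linter.unusedSectionVars false
set_option synthInstance.maxSize 2000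

namespace Cfsg.Lib.SpCentre

open Subgroup Cfsg.Lib.HeisSL Cfsg.Lib.AmalgamSpFour
open scoped MatrixGroups

universe u

/-- the quarter turn of the plane -/
def rotW : Op := ((1, 0, 0), (0, 0, 1), (0, -1, 0))

/-- the dihedral group of the plane -/
def opD : DihedralGroup 4 → Op
  | .r i => if i = 0 then idW else if i = 1 then rotW else if i = 2 then cmp rotW rotW else cmp rotW (cmp rotW rotW)
  | .sr i => cmp (dg (1, -1, 1))
      (if i = 0 then idW else if i = 1 then rotW else if i = 2 then cmp rotW rotW else cmp rotW (cmp rotW rotW))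

theorem opD_facts : (∀ q, opD q ∈ M48 ∧ cmp (opD q) e1W = cmp e1W (opD q)) ∧
    (∀ p q, opD (p * q) = cmp (opD p) (opD q)) ∧ (∀ q, opD q = idW → q = 1) ∧ (∀ q, opD q ≠ e1W) := by decide +kernel

theorem opD_all_b : (M48.all fun x => !decide (cmp x e1W = cmp e1W x) ||
    ([.r 0, .r 1, .r 2, .r 3, .sr 0, .sr 1, .sr 2, .sr 3] : List (DihedralGroup 4)).any
      fun q => decide (x = opD q) || decide (x = cmp e1W (opD q))) = true := by decide +kernel

theorem opD_all {x : Op} (hx : x ∈ M48) (h : cmp x e1W = cmp e1W x) : ∃ q, x = opD q ∨ x = cmp e1W (opD q) := by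
  have hb := List.all_eq_true.1 opD_all_b x hx
  simp only [h, decide_true, Bool.not_true, Bool.false_or, List.any_eq_true, Bool.or_eq_true, decide_eq_true_eq] at hb
  obtain ⟨q, -, hq⟩ := hb
  exact ⟨q, hq⟩

theorem plane_op_b : (M48.all fun x => !decide (cmp x e1W = cmp e1W x) ||
    ((decide (app x (1, 0, 0) = (1, 0, 0)) || decide (app x (1, 0, 0) = -(1, 0, 0))) &&
      allV.all fun v => !decide (v.1 = 0) || decide ((app x v).1 = 0))) = true := by decide +kernel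

theorem sign_ops : dg (1, -1, 1) ∈ M48 ∧ dg (1, 1, -1) ∈ M48 ∧ sW ∈ M48 ∧ zW ∈ M48 ∧
    cmp (dg (1, -1, 1)) e1W = cmp e1W (dg (1, -1, 1)) ∧ cmp (dg (1, 1, -1)) e1W = cmp e1W (dg (1, 1, -1)) ∧
    cmp sW e1W = cmp e1W sW ∧ cmp sW (cmp (dg (1, -1, 1)) sW) = dg (1, 1, -1) ∧ cmp sW sW = idW ∧
    cmp (dg (1, -1, 1)) (dg (1, -1, 1)) = idW ∧ cmp (dg (1, -1, 1)) (dg (1, 1, -1)) = cmp (dg (1, 1, -1)) (dg (1, -1, 1)) ∧
    cmp zW zW = idW ∧ cmp zW (cmp e1W zW) = dg (1, -1, 1) ∧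
    cmp (dg (1, -1, 1)) (dg (1, 1, -1)) ∈ M48 ∧ cmp e1W (dg (1, -1, 1)) ∈ M48 ∧
    cmp (cmp e1W (dg (1, -1, 1))) (cmp e1W (dg (1, -1, 1))) = idW ∧ ¬ cmp e1W (dg (1, -1, 1)) ∈ eps ∧
    cmp (dg (1, -1, 1)) (dg (1, 1, -1)) ≠ idW ∧ cmp (dg (1, -1, 1)) (dg (1, 1, -1)) ≠ e1W ∧
    dg (1, -1, 1) ≠ idW ∧ dg (1, -1, 1) ≠ e1W ∧ e1W ≠ idW := by decide +kernel

theorem vec_facts : app (dg (1, -1, 1)) (0, 0, 1) = (0, 0, 1) ∧ app (dg (1, -1, 1)) (0, 2, 0) = (0, 1, 0) ∧
    app (dg (1, -1, 1)) (1, 0, 0) = (1, 0, 0) ∧ app e1W (1, 0, 0) = -(1, 0, 0) ∧ ((1, 0, 0) : V) ≠ 0 ∧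
    (∀ v : V, v ≠ 0 → v.1 = 0 → wt v = 1 ∨ wt v = 2) ∧
    ((0, 1, 0) : V) + (0, 1, 0) = (0, 2, 0) ∧ ((0, 1, 0) : V) ≠ 0 ∧ ((0, 0, 1) : V) ≠ 0 ∧ -((1, 0, 0) : V) ≠ (1, 0, 0) := by
  decide +kernel

theorem six_types : ∀ i : Fin 3, i = 2 ∨ ∃ q : S6, q * (q * q) = 1 ∧ q ≠ 1 ∧ q * invRep i = invRep i * q := by
  decide +kernel

theorem six_sign (B : Bool) (z : S6) (hz : z ∈ cls B) (hne : z ≠ chain B 0) (hc : z * chain B 0 = chain B 0 * z) :
    ∃ g : S6, g * (chain B 0 * z) = invRep 2 * g := by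
  have key : ∀ B : Bool, ∀ z ∈ cls B, z ≠ chain B 0 → z * chain B 0 = chain B 0 * z →
      (chain B 0 * z) * (chain B 0 * z) = 1 ∧ chain B 0 * z ≠ 1 ∧
        Equiv.Perm.sign (chain B 0 * z) = 1 := by decide +kernel
  obtain ⟨h1, h2, h3⟩ := key B z hz hne hc
  obtain ⟨i, g, hg⟩ := inv_class _ h1 h2
  have hs : ∀ i : Fin 3, Equiv.Perm.sign (invRep i) = 1 → i = 2 := by decide +kernel
  refine ⟨g, (hs i ?_) ▸ hg⟩
  have h := congrArg Equiv.Perm.sign hg
  rw [map_mul, map_mul Equiv.Perm.sign (invRep i), h3, mul_one] at h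
  exact (mul_eq_right.1 h.symm)

theorem fix_y : ∀ x ∈ [idW, e1W, sW, cmp e1W sW], app x (0, 1, 0) = (0, 1, 0) → x = idW ∨ x = e1W := by
  decide +kernel

namespace Full

variable {G : Type u} [Group G] [Finite G] (E : Full G)

theorem σ_commute {x y : Op} (hx : x ∈ M48) (hy : y ∈ M48) (h : cmp x y = cmp y x) :
    E.σ x * E.σ y = E.σ y * E.σ x := by rw [E.σ_mul hx hy, E.σ_mul hy hx, h]

theorem σ_mem_Ct {x : Op} (hx : x ∈ M48) (h : cmp x e1W = cmp e1W x) : E.σ x ∈ E.Ct :=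
  E.mem_Ct.2 (E.σ_commute hx e1W_mem.1 h)

theorem t_ne : E.t ≠ 1 := fun e => sign_ops.2.2.2.2.2.2.2.2.2.2.2.2.2.2.2.2.2.2.2.2.2
  (E.σ_inj e1W_mem.1 negW_facts.2.1 (e.trans E.σ_id.symm))

theorem comm_op {g : G} {x : Op} (hx : E.Acts g x) (hg : g * E.t = E.t * g) : cmp x e1W = cmp e1W x :=
  Data.Acts.unique (hx.mul (E.σ_acts e1W_mem.1)) (by
    show E.Acts (g * E.t) _
    rw [hg]; exact (E.σ_acts e1W_mem.1).mul hx)

theorem sm_zero (v : V) : sm 0 v = 0 := by simp [sm]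

/-- the plane times the involution -/
noncomputable def planeT : Subgroup G where
  carrier := {x | ∃ v : V, v.1 = 0 ∧ (x = E.ι v ∨ x = E.t * E.ι v)}
  one_mem' := ⟨0, rfl, Or.inl E.ι_zero.symm⟩
  mul_mem' := by
    rintro x y ⟨v, hv, hx⟩ ⟨w, hw, hy⟩
    refine ⟨v + w, by simp [hv, hw], ?_⟩
    have hc := (E.t_fix v).2 hv
    rcases hx with rfl | rfl <;> rcases hy with rfl | rfl
    · exact Or.inl (E.ι_add v w).symm
    · exact Or.inr (by rw [← mul_assoc, hc, mul_assoc, E.ι_add])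
    · exact Or.inr (by rw [mul_assoc, E.ι_add])
    · refine Or.inl ?_
      calc E.t * E.ι v * (E.t * E.ι w) = E.t * (E.ι v * E.t) * E.ι w := by group
        _ = E.t * E.t * (E.ι v * E.ι w) := by rw [hc]; group
        _ = _ := by rw [E.t_sq, one_mul, E.ι_add]
  inv_mem' := by
    rintro x ⟨v, hv, hx⟩
    refine ⟨-v, by simp [hv], ?_⟩
    have ht : E.t⁻¹ = E.t := inv_eq_of_mul_eq_one_right E.t_sq
    rcases hx with rfl | rfl
    · exact Or.inl (E.ι_neg v).symm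
    · exact Or.inr (by rw [mul_inv_rev, ht, ← E.ι_neg, (E.t_fix (-v)).2 (by simp [hv])])

theorem planeT_ι {v : V} (hv : v.1 = 0) : E.ι v ∈ E.planeT := ⟨v, hv, Or.inl rfl⟩

theorem planeT_t : E.t ∈ E.planeT := ⟨0, rfl, Or.inr (by rw [E.ι_zero, mul_one])⟩

theorem zt_cases {z : G} (hz : z ∈ zpowers E.t) : z = 1 ∨ z = E.t := by
  obtain ⟨k, rfl⟩ := mem_zpowers_iff.1 hz
  rcases Int.even_or_odd k with ⟨m, rfl⟩ | ⟨m, rfl⟩
  · left; rw [← two_mul, zpow_mul, zpow_two, E.t_sq, one_zpow]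
  · right; rw [zpow_add, zpow_mul, zpow_two, E.t_sq, one_zpow, one_mul, zpow_one]

theorem overT : Cfsg.Lib.SymNineLocal.Over E.Ct (zpowers E.t) E.planeT where
  le_C := by
    rintro x ⟨v, hv, rfl | rfl⟩
    · exact E.plane_mem hv
    · exact mul_mem (E.mem_Ct.2 rfl) (E.plane_mem hv)
  Z_le := zpowers_le.2 E.planeT_t
  central := fun z hz g hg => by
    rcases E.zt_cases hz with rfl | rfl
    · rw [one_mul, mul_one]
    · exact (E.mem_Ct.1 hg).symm
  comm := by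
    have key : ∀ v w : V, v.1 = 0 → w.1 = 0 → Commute (E.ι v) (E.t * E.ι w) := fun v w hv _ =>
      (show Commute (E.ι v) E.t from (E.t_fix v).2 hv).mul_right (E.ι_comm v w)
    rintro x ⟨v, hv, rfl | rfl⟩ y ⟨w, hw, rfl | rfl⟩
    · exact E.ι_comm v w
    · exact (key v w hv hw).eq
    · exact (key w v hw hv).eq.symm
    · exact ((Commute.refl E.t).mul_left (show Commute (E.ι v) E.t from (E.t_fix v).2 hv)).mul_right
        ((show Commute (E.ι w) E.t from (E.t_fix w).2 hw).symm.mul_left (E.ι_comm v w)) |>.eq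

theorem card_planeT : Nat.card E.planeT = 18 := by
  classical
  rw [← Nat.card_eq_of_bijective (fun p : Bool × {v : V // v.1 = 0} =>
      (⟨if p.1 then E.t * E.ι p.2.1 else E.ι p.2.1, p.2.1, p.2.2, by rcases p.1 <;> simp⟩ : E.planeT)) ⟨?_, ?_⟩,
    Nat.card_prod, Nat.card_eq_fintype_card, Nat.card_eq_fintype_card, Fintype.card_bool, e1W_mem.2.2.2.2]
  · rintro ⟨b, ⟨v, hv⟩⟩ ⟨b', ⟨w, hw⟩⟩ e
    have e' : (if b then E.t * E.ι v else E.ι v) = if b' then E.t * E.ι w else E.ι w := congrArg Subtype.val e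
    have hsep : ∀ v w : V, E.t * E.ι v ≠ E.ι w := fun v w h => by
      have h' : E.t = E.ι (w + -v) := by rw [E.ι_add, E.ι_neg, ← h, mul_inv_cancel_right]
      exact sign_ops.2.2.2.2.2.2.2.2.2.2.2.2.2.2.2.2.2.2.2.2.2
        (Data.Acts.unique (E.σ_acts e1W_mem.1) (by show E.Acts E.t _; rw [h']; exact Data.acts_ι _))
    cases b <;> cases b' <;> simp only [if_true, if_false, Bool.false_eq_true] at e'
    · obtain rfl := E.ι_inj e'; rfl
    · exact absurd e'.symm (hsep _ _)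
    · exact absurd e' (hsep _ _)
    · obtain rfl := E.ι_inj (mul_left_cancel e'); rfl
  · rintro ⟨x, v, hv, rfl | rfl⟩
    · exact ⟨(false, ⟨v, hv⟩), rfl⟩
    · exact ⟨(true, ⟨v, hv⟩), rfl⟩

variable (hN : ∀ g : G, g * E.ι (1, 0, 0) = E.ι (1, 0, 0) * g → g ∈ normalizer (E.J : Set G))

include hN

theorem cent_plane {v : V} (hv : v.1 = 0) (hv0 : v ≠ 0) {g : G} (hg : g * E.ι v = E.ι v * g) :
    g ∈ normalizer (E.J : Set G) := by
  rcases vec_facts.2.2.2.2.2.1 v hv0 hv with h | h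
  · have key : ∀ v : V, wt v = 1 → ∃ y ∈ perms, app y v = (1, 0, 0) ∨ app y v = -(1, 0, 0) := by decide +kernel
    obtain ⟨y, hy, he⟩ := key v h
    obtain ⟨n, hn⟩ := E.exists_perm hy
    have h1 : n * g * n⁻¹ * E.ι (app y v) = E.ι (app y v) * (n * g * n⁻¹) := by
      rw [← hn v]
      calc n * g * n⁻¹ * (n * E.ι v * n⁻¹) = n * (g * E.ι v) * n⁻¹ := by group
        _ = _ := by rw [hg]; group
    have h2 : n * g * n⁻¹ ∈ normalizer (E.J : Set G) := by
      refine hN _ ?_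
      rcases he with e | e <;> rw [e] at h1
      · exact h1
      · rw [E.ι_neg] at h1
        exact (Commute.inv_right_iff.1 (show Commute _ (E.ι (1, 0, 0))⁻¹ from h1)).eq
    have := mul_mem (mul_mem (inv_mem hn.mem_N) h2) hn.mem_N
    simpa [mul_assoc] using this
  · exact E.cent_two h hg

theorem norm_planeT {g : G} (hg : g ∈ normalizer (E.J : Set G)) (hgt : g * E.t = E.t * g) :
    g ∈ normalizer (E.planeT : Set G) := by
  obtain ⟨x, hx, hgx⟩ := E.toLoc.exists_acts hg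
  have hb := List.all_eq_true.1 plane_op_b x hx
  simp only [E.comm_op hgx hgt, decide_true, Bool.not_true, Bool.false_or, Bool.and_eq_true, List.all_eq_true] at hb
  refine mem_normalizer_iff_map_conj_eq.2 (Subgroup.eq_of_le_of_card_ge ?_
    (le_of_eq (card_map_of_injective (MulAut.conj g).injective).symm))
  rintro _ ⟨y, ⟨v, hv, hy⟩, rfl⟩
  have hv' : (app x v).1 = 0 := by
    have := hb.2 v (allV_mem v)
    simpa [hv] using this
  refine ⟨app x v, hv', ?_⟩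
  rcases hy with rfl | rfl
  · exact Or.inl (hgx v)
  · refine Or.inr ?_
    show g * (E.t * E.ι v) * g⁻¹ = _
    rw [← hgx v, ← mul_assoc g, hgt]; group

omit hN in
theorem cube_plane {y : G} (hy : y ∈ E.planeT) (h3 : y * (y * y) = 1) : ∃ v : V, v.1 = 0 ∧ E.ι v = y := by
  obtain ⟨v, hv, rfl | rfl⟩ := hy
  · exact ⟨v, hv, rfl⟩
  · exfalso
    refine E.t_ne ?_
    have hc : Commute E.t (E.ι v) := ((E.t_fix v).2 hv).symm
    rw [← pow_three, hc.mul_pow, pow_three, pow_three, E.ι_cube, mul_one, E.t_sq, mul_one] at h3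
    exact h3

omit hN in
theorem comm_of_comm {g y : G} (hg : g ∈ E.Ct) (hy : y ∈ E.planeT) (hz : g * y * g⁻¹ * y⁻¹ ∈ zpowers E.t) :
    ∃ v : V, v.1 = 0 ∧ (y = E.ι v ∨ y = E.t * E.ι v) ∧ g * E.ι v = E.ι v * g := by
  obtain ⟨v, hv, hy⟩ := hy
  refine ⟨v, hv, hy, ?_⟩
  have ht : g * E.t * g⁻¹ = E.t := mul_inv_eq_iff_eq_mul.2 (E.mem_Ct.1 hg)
  have hz' : g * E.ι v * g⁻¹ * (E.ι v)⁻¹ ∈ zpowers E.t := by
    rcases hy with rfl | rfl
    · exact hz
    · have e : g * (E.t * E.ι v) * g⁻¹ * (E.t * E.ι v)⁻¹ = E.t * (g * E.ι v * g⁻¹ * (E.ι v)⁻¹) * E.t⁻¹ := by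
        calc g * (E.t * E.ι v) * g⁻¹ * (E.t * E.ι v)⁻¹ = g * E.t * g⁻¹ * (g * E.ι v * g⁻¹ * (E.ι v)⁻¹) * E.t⁻¹ := by group
          _ = _ := by rw [ht]
      rw [e] at hz
      have := mul_mem (mul_mem (inv_mem (mem_zpowers E.t)) hz) (mem_zpowers E.t)
      simpa [mul_assoc] using this
  rcases E.zt_cases hz' with e | e
  · exact mul_inv_eq_iff_eq_mul.1 (mul_inv_eq_one.1 e)
  · exfalso
    refine E.t_ne ?_
    have hc : Commute E.t (E.ι v) := ((E.t_fix v).2 hv).symm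
    have h3 : (E.t * E.ι v) * ((E.t * E.ι v) * (E.t * E.ι v)) = 1 := by
      rw [← mul_inv_eq_iff_eq_mul.1 e]
      calc g * E.ι v * g⁻¹ * (g * E.ι v * g⁻¹ * (g * E.ι v * g⁻¹)) = g * (E.ι v * (E.ι v * E.ι v)) * g⁻¹ := by group
        _ = 1 := by rw [E.ι_cube, mul_one, mul_inv_cancel]
    rw [← pow_three, hc.mul_pow, pow_three, pow_three, E.ι_cube, mul_one, E.t_sq, mul_one] at h3
    exact h3

theorem exists_quot [((zpowers E.t).subgroupOf E.Ct).Normal] :
    (∀ g, g * E.t = E.t * g → g ∈ normalizer (E.J : Set G)) ∨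
      Nonempty (E.Ct ⧸ (zpowers E.t).subgroupOf E.Ct ≃* S6) := by
  classical
  have : Fact (Nat.Prime 3) := ⟨Nat.prime_three⟩
  have hnJ : ∀ g ∈ E.Ct, g ∈ normalizer (E.planeT : Set G) → g ∈ normalizer (E.J : Set G) := by
    intro g hg hgn
    refine E.plane_norm (g := ⟨g, hg⟩) (mem_normalizer_iff_map_conj_eq.2 (Subgroup.eq_of_le_of_card_ge ?_
      (le_of_eq (card_map_of_injective (MulAut.conj (⟨g, hg⟩ : E.Ct)).injective).symm)))
    rintro _ ⟨y, ⟨v, hv, hy⟩, rfl⟩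
    obtain ⟨w, hw, hwe⟩ := E.cube_plane ((mem_normalizer_iff.1 hgn _).1 (E.planeT_ι hv)) (by
      calc _ = g * (E.ι v * (E.ι v * E.ι v)) * g⁻¹ := by group
        _ = 1 := by rw [E.ι_cube, mul_one, mul_inv_cancel])
    exact ⟨w, hw, by rw [hwe, hy]; rfl⟩
  obtain ⟨N, hNP⟩ := Cfsg.Lib.SymNineLocal.exists_nine E.overT
    (by rw [E.card_planeT, Nat.card_zpowers, orderOf_eq_prime (p := 2) (by rw [pow_two, E.t_sq]) E.t_ne])
    (fun y hy => by
      obtain ⟨v, hv, rfl | rfl⟩ := hy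
      · rw [E.ι_cube]; exact one_mem _
      · have hc : Commute E.t (E.ι v) := ((E.t_fix v).2 hv).symm
        rw [← pow_three, hc.mul_pow, pow_three (E.ι v), E.ι_cube, mul_one]
        exact pow_mem (mem_zpowers _) _)
    (fun g hg hgn n hn => by
      have hgN := hnJ g hg hgn
      have hpow : (g ^ 2) ^ 3 ^ n = 1 := by
        rw [← pow_mul, mul_comm, pow_mul]
        rcases E.zt_cases hn with e | e <;> rw [e]
        · rw [one_pow]
        · rw [pow_two, E.t_sq]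
      have hg2 : g ^ 2 * E.t = E.t * g ^ 2 := ((show Commute g E.t from E.mem_Ct.1 hg).pow_left 2).eq
      obtain ⟨w, hw, hwe⟩ := E.t_inv_three (g := g ^ 2) (pow_mem hgN 2) hg2 hpow
      obtain ⟨m, hm⟩ : ∃ m, 3 ^ n = 2 * m + 1 := (Odd.pow (by decide) : Odd (3 ^ n))
      have e1 : g = (g ^ 2) ^ (m + 1) * (g ^ 3 ^ n)⁻¹ := by
        rw [← pow_mul, hm, show 2 * (m + 1) = 1 + (2 * m + 1) by ring, pow_add, mul_inv_cancel_right, pow_one]
      rw [e1]
      refine mul_mem (pow_mem (show g ^ 2 ∈ E.planeT from ⟨w, hw, Or.inl hwe.symm⟩) _) (inv_mem ?_)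
      exact zpowers_le.2 E.planeT_t hn)
    (fun g hg h => by
      obtain ⟨v, hv, hve, hgv⟩ := E.comm_of_comm hg (E.planeT_ι (v := (0, 1, 1)) rfl) (h _ (E.planeT_ι rfl))
      obtain rfl : v = (0, 1, 1) := by
        rcases hve with e | e
        · exact (E.ι_inj e).symm
        · exfalso
          obtain ⟨u, hu, hue⟩ := E.cube_plane (y := E.t * E.ι v) ⟨v, hv, Or.inr rfl⟩ (by rw [← e]; exact E.ι_cube _)
          refine sign_ops.2.2.2.2.2.2.2.2.2.2.2.2.2.2.2.2.2.2.2.2.2 (Data.Acts.unique (E.σ_acts e1W_mem.1) ?_)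
          show E.Acts E.t _
          rw [show E.t = E.ι (u + -v) by rw [E.ι_add, E.ι_neg, hue, mul_inv_cancel_right]]
          exact Data.acts_ι _
      obtain ⟨x, hx, hgx⟩ := E.toLoc.exists_acts (E.cent_v2 hgv)
      obtain ⟨v', hv', hve', hgv'⟩ := E.comm_of_comm hg (E.planeT_ι (v := (0, 1, 0)) rfl) (h _ (E.planeT_ι rfl))
      obtain rfl : v' = (0, 1, 0) := by
        rcases hve' with e | e
        · exact (E.ι_inj e).symm
        · exfalso
          obtain ⟨u, hu, hue⟩ := E.cube_plane (y := E.t * E.ι v') ⟨v', hv', Or.inr rfl⟩ (by rw [← e]; exact E.ι_cube _)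
          refine sign_ops.2.2.2.2.2.2.2.2.2.2.2.2.2.2.2.2.2.2.2.2.2 (Data.Acts.unique (E.σ_acts e1W_mem.1) ?_)
          show E.Acts E.t _
          rw [show E.t = E.ι (u + -v') by rw [E.ι_add, E.ι_neg, hue, mul_inv_cancel_right]]
          exact Data.acts_ι _
      have hb := List.all_eq_true.1 op36_gen_b x hx
      simp only [(hgx.fix_iff _).1 hgv, decide_true, Bool.not_true, Bool.false_or, Bool.or_eq_true,
        decide_eq_true_eq, or_assoc] at hb
      rcases fix_y x (by simpa [or_assoc] using hb) ((hgx.fix_iff _).1 hgv') with rfl | rfl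
      · obtain ⟨w, hw⟩ := hgx.mem_J
        exact ⟨w, (E.t_fix w).1 (hw ▸ E.mem_Ct.1 hg), Or.inl hw.symm⟩
      · obtain ⟨w, hw⟩ := E.toLoc.same_acts (E.σ_acts e1W_mem.1) hgx
        have hge : g = E.t * E.ι w := by
          rw [show E.toData.ι w = E.t⁻¹ * g from hw, mul_inv_cancel_left]
        exact ⟨w, (E.t_fix w).1 (hw ▸ E.mem_Ct.1 (mul_mem (inv_mem (E.mem_Ct.2 rfl)) hg)), Or.inr hge⟩)
    (fun y hy hyZ g hg hz => by
      obtain ⟨v, hv, hye, hgv⟩ := E.comm_of_comm hg hy hz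
      have hv0 : v ≠ 0 := fun e => hyZ (by
        rcases hye with rfl | rfl <;> rw [e, E.ι_zero]
        · exact one_mem _
        · rw [mul_one]; exact mem_zpowers _)
      exact E.norm_planeT hN (E.cent_plane hN hv hv0 hgv) (E.mem_Ct.1 hg))
  let Q := E.Ct ⧸ (zpowers E.t).subgroupOf E.Ct
  have hmem : ∀ q, E.σ (opD q) ∈ E.Ct := fun q => E.σ_mem_Ct (opD_facts.1 q).1 (opD_facts.1 q).2
  have hPn : ∀ q, ((⟨_, hmem q⟩ : E.Ct) : Q) ∈ normalizer ((N.P : Subgroup Q) : Set Q) := fun q => by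
    rw [hNP, Cfsg.Lib.SymNineLocal.norm_bar E.overT]
    exact E.norm_planeT hN (E.σ_acts (opD_facts.1 q).1).mem_N (E.mem_Ct.1 (hmem q))
  let S : Subgroup Q := (N.P : Subgroup Q)
  let D : DihedralGroup 4 →* normalizer (S : Set Q) ⧸ S.subgroupOf (normalizer (S : Set Q)) :=
    (QuotientGroup.mk' _).comp (MonoidHom.mk' (fun q => (⟨_, hPn q⟩ : normalizer (S : Set Q))) fun p q => Subtype.ext (by
      show ((⟨_, hmem (p * q)⟩ : E.Ct) : Q) = ((⟨_, hmem p⟩ : E.Ct) : Q) * ((⟨_, hmem q⟩ : E.Ct) : Q)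
      rw [← QuotientGroup.mk_mul]
      congr 1
      exact Subtype.ext (by
        show E.σ (opD (p * q)) = E.σ (opD p) * E.σ (opD q)
        rw [opD_facts.2.1, E.σ_mul (opD_facts.1 p).1 (opD_facts.1 q).1])))
  have hD : Function.Bijective D := by
    refine ⟨(injective_iff_map_eq_one D).2 fun q hq => ?_, fun y => ?_⟩
    · have h1 : ((⟨_, hmem q⟩ : E.Ct) : Q) ∈ S := mem_subgroupOf.1 ((QuotientGroup.eq_one_iff _).1 hq)
      rw [show S = _ from hNP, Cfsg.Lib.SymNineLocal.mem_bar E.overT] at h1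
      obtain ⟨w, hw, e | e⟩ := h1 <;> simp only at e
      · exact opD_facts.2.2.1 q (Data.Acts.unique (E.σ_acts (opD_facts.1 q).1) (by rw [e]; exact Data.acts_ι w))
      · refine absurd (Data.Acts.unique (E.σ_acts (opD_facts.1 q).1) ?_) (opD_facts.2.2.2 q)
        rw [e, ← (cmp_id e1W).1]
        exact (E.σ_acts e1W_mem.1).mul (Data.acts_ι w)
    · obtain ⟨⟨g', hg'⟩, rfl⟩ := QuotientGroup.mk_surjective y
      obtain ⟨g, rfl⟩ := QuotientGroup.mk_surjective g'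
      have hgA : (g : G) ∈ normalizer (E.planeT : Set G) := by
        rw [← Cfsg.Lib.SymNineLocal.norm_bar E.overT, ← hNP]; exact hg'
      have hgt := E.mem_Ct.1 g.2
      obtain ⟨x, hx, hgx⟩ := E.toLoc.exists_acts (hnJ g g.2 hgA)
      obtain ⟨q, hq⟩ := opD_all hx (E.comm_op hgx hgt)
      refine ⟨q, QuotientGroup.eq.2 ?_⟩
      rw [mem_subgroupOf]
      show ((⟨_, hmem q⟩ : E.Ct) : Q)⁻¹ * (g : Q) ∈ S
      rw [← QuotientGroup.mk_inv, ← QuotientGroup.mk_mul, show S = _ from hNP, Cfsg.Lib.SymNineLocal.mem_bar E.overT]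
      show (E.σ (opD q))⁻¹ * (g : G) ∈ E.planeT
      rcases hq with rfl | rfl
      · obtain ⟨w, hw⟩ := E.toLoc.same_acts (E.σ_acts hx) hgx
        exact ⟨w, (E.t_fix w).1 (hw ▸ E.mem_Ct.1 (mul_mem (inv_mem (hmem q)) g.2)), Or.inl hw.symm⟩
      · have hm : E.σ (opD q) * E.t = E.σ (cmp e1W (opD q)) := by
          rw [show E.σ (opD q) * E.t = E.t * E.σ (opD q) from E.mem_Ct.1 (hmem q)]
          exact E.σ_mul e1W_mem.1 (opD_facts.1 q).1
        obtain ⟨w, hw⟩ := E.toLoc.same_acts (E.σ_acts hx) hgx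
        have hge : (E.σ (opD q))⁻¹ * (g : G) = E.t * E.ι w := by
          rw [show E.toData.ι w = (E.σ (cmp e1W (opD q)))⁻¹ * (g : G) from hw, ← hm]; group
        exact ⟨w, (E.t_fix w).1 (hw ▸ E.mem_Ct.1 (mul_mem (inv_mem (E.σ_mem_Ct hx (E.comm_op hgx hgt))) g.2)), Or.inr hge⟩
  rcases Cfsg.Agent.S3333.result N.P S rfl N.card9 N.cent (MulEquiv.ofBijective D hD).symm N.hC with h | h
  · refine Or.inl fun g hg => hnJ g (E.mem_Ct.2 hg) ((Cfsg.Lib.SymNineLocal.norm_bar E.overT ⟨g, E.mem_Ct.2 hg⟩).1 ?_)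
    rw [← hNP]
    exact (Subgroup.normalizer_eq_top_iff.2 h).symm ▸ mem_top _
  · exact Or.inr h

omit hN in
theorem a2_conj : IsConj E.t (E.σ (dg (1, -1, 1))) := by
  obtain ⟨-, -, -, h4, -, -, -, -, -, -, -, h12, h13, -⟩ := sign_ops
  refine isConj_iff.2 ⟨E.σ zW, ?_⟩
  rw [E.σ_inv h4 h4 h12, mul_assoc, show E.t * E.σ zW = E.σ (cmp e1W zW) from E.σ_mul e1W_mem.1 h4,
    E.σ_mul h4 (E.cmp_mem e1W_mem.1 h4), h13]

/-- An involution of the centraliser in the normaliser of `J` conjugate to `t`. -/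
theorem invol_norm {j : G} (hjt : j * E.t = E.t * j) (hj : IsConj E.t j) (hjN : j ∈ normalizer (E.J : Set G)) :
    ∃ l, l * E.t = E.t * l ∧ (l * j * l⁻¹ = E.t ∨ l * j * l⁻¹ = E.σ (dg (1, -1, 1))) := by
  have hj2 : j * j = 1 := by
    obtain ⟨c, rfl⟩ := isConj_iff.1 hj
    calc c * E.t * c⁻¹ * (c * E.t * c⁻¹) = c * (E.t * E.t) * c⁻¹ := by group
      _ = 1 := by rw [E.t_sq]; group
  obtain ⟨x, hx, hjx⟩ := E.toLoc.exists_acts hjN
  have hxc := E.comm_op hjx hjt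
  obtain ⟨v₀, hv₀⟩ := E.toLoc.same_acts (E.σ_acts hx) hjx
  have hx2 : cmp x x = idW := Data.Acts.unique (hjx.mul hjx) (by rw [hj2]; exact Data.acts_one)
  have hje : j = E.ι (app x v₀) * E.σ x := by
    rw [← E.σ_conj hx, show E.toData.ι v₀ = (E.σ x)⁻¹ * j from hv₀, mul_inv_cancel_left]
  set v := app x v₀ with hv
  have hvx : v + app x v = 0 := E.ι_inj (by
    rw [E.ι_add, E.ι_zero, ← hjx v]
    calc E.ι v * (j * E.ι v * j⁻¹) = E.ι v * (E.ι v * E.σ x * E.ι v * j⁻¹) := by conv_lhs => enter [2, 1, 1]; rw [hje]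
      _ = E.ι v * (E.ι v * (E.σ x * E.ι v) * j⁻¹) := by group
      _ = E.ι v * (E.ι v * (E.ι (app x v) * E.σ x) * j⁻¹) := by rw [E.σ_conj hx]
      _ = E.ι v * (E.ι v * E.ι (app x v) * E.σ x) * (E.ι v * E.σ x)⁻¹ := by rw [hje]; group
      _ = E.ι (v + (v + app x v) + -v) := by rw [E.ι_add, E.ι_add, E.ι_add, E.ι_neg]; group
      _ = _ := by
        have hxxv : app x (app x v) = v := by rw [← app_cmp, hx2, app_id]
        have h2 : E.ι (v + app x v) * E.ι (v + app x v) = 1 := by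
          rw [← E.ι_add]
          have h : j * j = E.ι (v + app x v) := by
            rw [hje]
            calc E.ι v * E.σ x * (E.ι v * E.σ x) = E.ι v * (E.σ x * E.ι v) * E.σ x := by group
              _ = E.ι v * E.ι (app x v) * (E.σ x * E.σ x) := by rw [E.σ_conj hx]; group
              _ = _ := by rw [E.σ_sq hx hx2, mul_one, E.ι_add]
          rw [hj2] at h
          rw [E.ι_add, ← h, one_mul]
        have h0 : v + app x v = 0 := by
          have h1 : v + app x v + (v + app x v) = 0 := E.ι_inj (by rw [E.ι_add, h2, E.ι_zero])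
          have key : ∀ u : V, u + u = 0 → u = 0 := by decide +kernel
          exact key _ h1
        rw [h0, add_zero, add_neg_cancel, E.ι_zero])
  have hvt : v.1 = 0 := (E.t_fix v).1 (by
    have e : E.ι v = j * (E.σ x)⁻¹ := by rw [hje, mul_inv_cancel_right]
    rw [e]
    exact ((show Commute j E.t from hjt).mul_left (show Commute (E.σ x) E.t from E.mem_Ct.1 (E.σ_mem_Ct hx hxc)).inv_left).eq)
  have hconj : E.ι v * j * (E.ι v)⁻¹ = E.σ x := by
    have h1 : app x v = -v := eq_neg_of_add_eq_zero_right hvx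
    calc E.ι v * j * (E.ι v)⁻¹ = E.ι v * E.ι v * (E.σ x * E.ι (-v)) := by rw [hje, E.ι_neg]; group
      _ = E.ι (v + v + app x (-v)) * E.σ x := by rw [E.σ_conj hx, E.ι_add, E.ι_add]; group
      _ = _ := by
        have key : ∀ u : V, u + u + u = 0 := by decide +kernel
        have e2 : app x (-v) = v := by
          have key2 : ∀ (w : Op) (u : V), app w (-u) = -app w u := fun w u => by
            simp [app, sm, Prod.ext_iff]
            refine ⟨?_, ?_, ?_⟩ <;> ring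
          rw [key2, h1, neg_neg]
        rw [e2, key, E.ι_zero, one_mul]
  have heps := E.lift_class hN hx hx2 (hj.trans (isConj_iff.2 ⟨_, hconj⟩))
  simp only [eps, List.mem_cons, List.not_mem_nil, or_false] at heps
  rcases heps with rfl | rfl | rfl
  · exact ⟨E.ι v, (E.t_fix v).2 hvt, Or.inl hconj⟩
  · exact ⟨E.ι v, (E.t_fix v).2 hvt, Or.inr hconj⟩
  · obtain ⟨h1, h2, h3, -, -, -, h7, h8, h9, -⟩ := sign_ops
    refine ⟨E.σ sW * E.ι v, ?_, Or.inr ?_⟩
    · exact ((show Commute (E.σ sW) E.t from E.mem_Ct.1 (E.σ_mem_Ct h3 h7)).mul_left ((E.t_fix v).2 hvt)).eq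
    · calc E.σ sW * E.ι v * j * (E.σ sW * E.ι v)⁻¹ = E.σ sW * (E.ι v * j * (E.ι v)⁻¹) * (E.σ sW)⁻¹ := by group
        _ = _ := by
          rw [hconj, E.σ_inv h3 h3 h9, mul_assoc, E.σ_mul h2 h3, E.σ_mul h3 (E.cmp_mem h2 h3), ← h8,
            cmp_assoc, cmp_assoc, h9, (cmp_id _).1, ← cmp_assoc, h9, (cmp_id _).2]

/-- The character. -/
theorem exists_chi : ∃ χ : E.Ct →* Multiplicative (ZMod 2), χ ⟨E.t, E.mem_Ct.2 rfl⟩ = Multiplicative.ofAdd 1 ∧
    ∀ j : E.Ct, IsConj E.t (j : G) → χ j = 1 ∨ (j : G) = E.t := by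
  classical
  obtain ⟨h1, h2, h3, h4, h5, h6, h7, h8, h9, h10, h11, h12, h13, h14, h15, h16, h17, h18, h19, h20, h21, h22⟩ := sign_ops
  set a : E.Ct := ⟨E.σ (dg (1, -1, 1)), E.σ_mem_Ct h1 h5⟩ with ha
  -- it is enough to conjugate into the normaliser of `J`
  have finish : ∀ χ : E.Ct →* Multiplicative (ZMod 2), χ a = 1 → ∀ j : E.Ct, IsConj E.t (j : G) →
      (∃ c : E.Ct, ((c * j * c⁻¹ : E.Ct) : G) ∈ normalizer (E.J : Set G)) → χ j = 1 ∨ (j : G) = E.t := by
    intro χ hχ j hj ⟨c, hc⟩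
    obtain ⟨l, hl, hcase⟩ := E.invol_norm hN (j := ((c * j * c⁻¹ : E.Ct) : G)) (E.mem_Ct.1 (c * j * c⁻¹).2)
      (hj.trans (isConj_iff.2 ⟨c, rfl⟩)) hc
    rcases hcase with e | e
    · refine Or.inr ?_
      have hlc : Commute (l * (c : G)) E.t := (show Commute l E.t from hl).mul_left (E.mem_Ct.1 c.2)
      calc (j : G) = (l * c)⁻¹ * (l * (c * j * c⁻¹ : E.Ct) * l⁻¹) * (l * c) := by push_cast; group
        _ = (l * c)⁻¹ * (E.t * (l * c)) := by rw [e, mul_assoc]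
        _ = E.t := by rw [← hlc.eq, inv_mul_cancel_left]
    · refine Or.inl ?_
      have e' : (⟨l, E.mem_Ct.2 hl⟩ * c) * j * (⟨l, E.mem_Ct.2 hl⟩ * c)⁻¹ = a := Subtype.ext (by
        rw [show ((a : E.Ct) : G) = E.σ (dg (1, -1, 1)) from rfl, ← e]; push_cast; group)
      rw [← e', map_mul, map_mul χ _ j, map_inv, mul_comm (χ _) (χ j), mul_inv_cancel_right] at hχ
      exact hχ
  haveI hn : ((zpowers E.t).subgroupOf E.Ct).Normal := E.overT.normalZ
  rcases E.exists_quot hN with hall | ⟨⟨e⟩⟩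
  · have hsign : ∀ g : E.Ct, (g : G) * E.ι (1, 0, 0) * (g : G)⁻¹ = E.ι (1, 0, 0) ∨
        (g : G) * E.ι (1, 0, 0) * (g : G)⁻¹ = (E.ι (1, 0, 0))⁻¹ := by
      intro g
      obtain ⟨x, hx, hgx⟩ := E.toLoc.exists_acts (hall g (E.mem_Ct.1 g.2))
      have hb := List.all_eq_true.1 plane_op_b x hx
      simp only [E.comm_op hgx (E.mem_Ct.1 g.2), decide_true, Bool.not_true, Bool.false_or, Bool.and_eq_true,
        Bool.or_eq_true, decide_eq_true_eq] at hb
      rw [hgx]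
      rcases hb.1 with e | e <;> rw [e]
      exacts [Or.inl rfl, Or.inr (E.ι_neg _)]
    have hne : (E.ι (1, 0, 0))⁻¹ ≠ E.ι (1, 0, 0) := by
      rw [← E.ι_neg]; exact fun h => vec_facts.2.2.2.2.2.2.2.2.2 (E.ι_inj h)
    let v : E.Ct → Multiplicative (ZMod 2) := fun g =>
      if (g : G) * E.ι (1, 0, 0) * (g : G)⁻¹ = E.ι (1, 0, 0) then 1 else Multiplicative.ofAdd 1
    let χ : E.Ct →* Multiplicative (ZMod 2) := MonoidHom.mk' v fun g h => by
      have h11 : Multiplicative.ofAdd (1 : ZMod 2) * Multiplicative.ofAdd (1 : ZMod 2) = 1 := by decide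
      have e0 : ((g * h : E.Ct) : G) * E.ι (1, 0, 0) * ((g * h : E.Ct) : G)⁻¹ =
          (g : G) * ((h : G) * E.ι (1, 0, 0) * (h : G)⁻¹) * (g : G)⁻¹ := by push_cast; group
      have einv : ∀ z : G, z * (E.ι (1, 0, 0))⁻¹ * z⁻¹ = (z * E.ι (1, 0, 0) * z⁻¹)⁻¹ := fun z => by group
      show v (g * h) = v g * v h
      simp only [v, e0]
      rcases hsign h with e1 | e1 <;> rcases hsign g with e2 | e2 <;>
        simp [e1, e2, einv, hne, h11]
    refine ⟨χ, ?_, fun j hj => finish χ ?_ j hj ⟨1, by simpa using hall j (E.mem_Ct.1 j.2)⟩⟩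
    · show v _ = _
      have e : E.t * E.ι (1, 0, 0) * E.t⁻¹ = (E.ι (1, 0, 0))⁻¹ := by
        show E.σ e1W * _ * (E.σ e1W)⁻¹ = _
        rw [E.σ_acts e1W_mem.1, vec_facts.2.2.2.1, E.ι_neg]
      simp only [v, e, if_neg hne]
    · show v a = _
      have e : E.σ (dg (1, -1, 1)) * E.ι (1, 0, 0) * (E.σ (dg (1, -1, 1)))⁻¹ = E.ι (1, 0, 0) := by
        rw [E.σ_acts h1, vec_facts.2.2.1]
      simp only [v, ha, e, if_true]
  · let π : E.Ct →* S6 := e.toMonoidHom.comp (QuotientGroup.mk' _)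
    have hker : ∀ x : E.Ct, π x = 1 ↔ (x : G) ∈ zpowers E.t := fun x => by
      show e _ = 1 ↔ _
      rw [MulEquiv.map_eq_one_iff, QuotientGroup.mk'_apply, QuotientGroup.eq_one_iff, mem_subgroupOf]
    have hcz : ∀ {x : G} (hx : x ∈ E.Ct), π ⟨x, hx⟩ = 1 → x = 1 ∨ x = E.t := fun hx h => E.zt_cases ((hker _).1 h)
    have hops : ∀ {x : Op}, x ∈ M48 → ∀ {g : G}, g = E.σ x → (g = 1 → x = idW) ∧ (g = E.t → x = e1W) := by
      intro x hx g hg
      subst hg
      exact ⟨fun h => E.σ_inj hx negW_facts.2.1 (h.trans E.σ_id.symm), fun h => E.σ_inj hx e1W_mem.1 h⟩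
    have hq : E.ι (0, 0, 1) ∈ E.Ct := E.plane_mem rfl
    have hy : E.ι (0, 1, 0) ∈ E.Ct := E.plane_mem rfl
    have hb : E.σ (dg (1, 1, -1)) ∈ E.Ct := E.σ_mem_Ct h2 h6
    have hs : E.σ sW ∈ E.Ct := E.σ_mem_Ct h3 h7
    have hιZ : ∀ {v : V}, v ≠ 0 → ∀ hv : E.ι v ∈ E.Ct, π ⟨_, hv⟩ ≠ 1 := fun {v} hv0 hv h => by
      rcases hcz hv h with h | h
      · exact E.ι_ne_one hv0 h
      · exact h22 (Data.Acts.unique (E.σ_acts e1W_mem.1) (by show E.Acts E.t _; rw [← h]; exact Data.acts_ι v))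
    set b' : E.Ct := ⟨_, hy⟩ * a * ⟨_, hy⟩⁻¹ with hb'
    have hab' : ((a * b' : E.Ct) : G) = E.ι (0, 1, 0) := by
      rw [hb']; push_cast
      calc E.σ (dg (1, -1, 1)) * (E.ι (0, 1, 0) * E.σ (dg (1, -1, 1)) * (E.ι (0, 1, 0))⁻¹)
          = E.σ (dg (1, -1, 1)) * E.ι (0, 1, 0) * E.σ (dg (1, -1, 1)) * (E.ι (0, 1, 0))⁻¹ := by group
        _ = E.ι (app (dg (1, -1, 1)) (0, 1, 0)) * (E.σ (dg (1, -1, 1)) * E.σ (dg (1, -1, 1))) * (E.ι (0, 1, 0))⁻¹ := by
          rw [E.σ_conj h1]; group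
        _ = E.ι (app (dg (1, -1, 1)) (0, 1, 0) + -(0, 1, 0)) := by rw [E.σ_sq h1 h10, mul_one, E.ι_add, E.ι_neg]
        _ = _ := by congr 1
    let S : Lift2 E.Ct :=
      { π := π
        surj := e.surjective.comp (QuotientGroup.mk'_surjective _)
        t := ⟨E.t, E.mem_Ct.2 rfl⟩
        t_ne := fun h => E.t_ne (congrArg Subtype.val h)
        t_sq := Subtype.ext E.t_sq
        t_central := fun g => Subtype.ext (E.mem_Ct.1 g.2)
        ker := fun x hx => by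
          rcases hcz x.2 hx with h | h
          · exact Or.inl (Subtype.ext h)
          · exact Or.inr (Subtype.ext h)
        ker_t := (hker _).2 (mem_zpowers _)
        a := a
        a_sq := Subtype.ext (E.σ_sq h1 h10)
        no_twist := fun g h => by
          refine h17 (E.lift_class hN h15 h16 (E.a2_conj.trans (isConj_iff.2 ⟨g, ?_⟩)))
          rw [← E.σ_mul e1W_mem.1 h1]
          exact congrArg Subtype.val h
        q := ⟨_, hq⟩
        q_cube := Subtype.ext (E.ι_cube _)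
        q_ne := hιZ vec_facts.2.2.2.2.2.2.2.2.1 hq
        q_comm := Subtype.ext (((E.σ_acts h1).fix_iff _).2 vec_facts.1).symm
        pa := fun h => by
          rcases hcz a.2 h with h | h
          · exact h20 ((hops h1 rfl).1 h)
          · exact h21 ((hops h1 rfl).2 h)
        b := ⟨_, hb⟩
        b_conj := ⟨⟨_, hs⟩, Subtype.ext (by
          show E.σ sW * E.σ (dg (1, -1, 1)) * (E.σ sW)⁻¹ = E.σ (dg (1, 1, -1))
          rw [E.σ_inv h3 h3 h9, mul_assoc, E.σ_mul h1 h3, E.σ_mul h3 (E.cmp_mem h1 h3), h8])⟩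
        b_comm := Subtype.ext (E.σ_commute h1 h2 h11)
        b_ne := fun h => by
          have h' : π (a * ⟨_, hb⟩) = 1 := by
            rw [map_mul, h, ← map_mul, show a * a = 1 from Subtype.ext (E.σ_sq h1 h10), map_one]
          rcases hcz (mul_mem a.2 hb) h' with h' | h'
          · exact h18 ((hops h14 (E.σ_mul h1 h2)).1 h')
          · exact h19 ((hops h14 (E.σ_mul h1 h2)).2 h')
        b' := b'
        b'_conj := ⟨_, rfl⟩
        b'_three := Subtype.ext (by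
          show ((a * b' : E.Ct) : G) * (((a * b' : E.Ct) : G) * ((a * b' : E.Ct) : G)) = 1
          rw [hab']; exact E.ι_cube _)
        b'_ne := fun h => by
          have h' : π (a * b') = 1 := by
            rw [map_mul, h, ← map_mul, show a * a = 1 from Subtype.ext (E.σ_sq h1 h10), map_one]
          exact hιZ vec_facts.2.2.2.2.2.2.2.1 hy (by rwa [show a * b' = ⟨_, hy⟩ from Subtype.ext hab'] at h') }
    obtain ⟨χ, hχt, hχa⟩ := S.exists_char
    refine ⟨χ, hχt, fun j hj => finish χ hχa j hj ?_⟩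
    have hj2 : (j : G) * j = 1 := by
      obtain ⟨c, hc⟩ := isConj_iff.1 hj
      rw [← hc]
      calc c * E.t * c⁻¹ * (c * E.t * c⁻¹) = c * (E.t * E.t) * c⁻¹ := by group
        _ = 1 := by rw [E.t_sq]; group
    by_cases hj1 : π j = 1
    · refine ⟨1, ?_⟩
      rcases hcz j.2 hj1 with h | h <;> simp [h]
      exact (E.σ_acts e1W_mem.1).mem_N
    obtain ⟨i, g, hg⟩ := inv_class (π j) (by rw [← map_mul, show j * j = 1 from Subtype.ext hj2, map_one]) hj1
    rcases six_types i with rfl | ⟨q, hq3, hq1, hqc⟩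
    · obtain ⟨B, g₁, hg₁⟩ := S.exists_class
      replace hg₁ : g₁ * π a = chain B 0 * g₁ := hg₁
      have hz : g₁ * π ⟨_, hb⟩ * g₁⁻¹ ∈ cls B := by
        obtain ⟨c, hc⟩ := S.b_conj
        replace hc : c * a * c⁻¹ = ⟨_, hb⟩ := hc
        rw [← hc, map_mul, map_mul, map_inv, show π a = g₁⁻¹ * (chain B 0 * g₁) by rw [← hg₁, inv_mul_cancel_left]]
        convert cls_closed B (g₁ * π c * g₁⁻¹) using 1
        group
      have hch : chain B 0 = g₁ * π a * g₁⁻¹ := by rw [hg₁, mul_inv_cancel_right]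
      have hcm : π a * π ⟨_, hb⟩ = π ⟨_, hb⟩ * π a := by rw [← map_mul, ← map_mul, S.b_comm]
      obtain ⟨g₂, hg₂⟩ := six_sign B _ hz
        (fun h => S.b_ne (mul_left_cancel (mul_right_cancel (h.trans hch))))
        (by rw [hch]; calc g₁ * π ⟨_, hb⟩ * g₁⁻¹ * (g₁ * π a * g₁⁻¹) = g₁ * (π ⟨_, hb⟩ * π a) * g₁⁻¹ := by group
              _ = _ := by rw [← hcm]; group)
      obtain ⟨c, hc⟩ := S.surj ((g₂ * g₁)⁻¹ * g)
      replace hc : π c = (g₂ * g₁)⁻¹ * g := hc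
      have himg : π (c * j * c⁻¹) = π (a * ⟨_, hb⟩) := by
        rw [map_mul, map_mul π c j, map_inv, hc, map_mul]
        calc (g₂ * g₁)⁻¹ * g * π j * ((g₂ * g₁)⁻¹ * g)⁻¹ = g₁⁻¹ * (g₂⁻¹ * (g * π j) * g⁻¹ * g₂) * g₁ := by group
          _ = g₁⁻¹ * (g₂⁻¹ * (invRep 2 * g₂)) * g₁ := by rw [hg]; group
          _ = g₁⁻¹ * (chain B 0 * (g₁ * π ⟨_, hb⟩ * g₁⁻¹)) * g₁ := by rw [← hg₂, inv_mul_cancel_left]
          _ = _ := by rw [hch]; group
      refine ⟨c, ?_⟩
      have h' : π ((a * ⟨_, hb⟩)⁻¹ * (c * j * c⁻¹)) = 1 := by rw [map_mul, map_inv, himg, inv_mul_cancel]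
      have hz' := hcz ((a * ⟨_, hb⟩)⁻¹ * (c * j * c⁻¹)).2 h'
      have hab : ((a * ⟨_, hb⟩ : E.Ct) : G) ∈ normalizer (E.J : Set G) :=
        mul_mem (E.σ_acts h1).mem_N (E.σ_acts h2).mem_N
      have hzN : (((a * ⟨_, hb⟩)⁻¹ * (c * j * c⁻¹) : E.Ct) : G) ∈ normalizer (E.J : Set G) := by
        rcases hz' with h | h
        · rw [show (((a * ⟨_, hb⟩)⁻¹ * (c * j * c⁻¹) : E.Ct) : G) = 1 from h]; exact one_mem _
        · rw [show (((a * ⟨_, hb⟩)⁻¹ * (c * j * c⁻¹) : E.Ct) : G) = E.t from h]; exact (E.σ_acts e1W_mem.1).mem_N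
      have := mul_mem hab hzN
      rwa [← Subgroup.coe_mul, mul_inv_cancel_left] at this
    · obtain ⟨w, hw⟩ := S.surj (g⁻¹ * q * g)
      replace hw : π w = g⁻¹ * q * g := hw
      -- an element of order three centralising the involution
      have hjq : π (j * w * j⁻¹ * w⁻¹) = 1 := by
        rw [map_mul, map_mul, map_mul, map_inv, map_inv, hw]
        have e : π j = g⁻¹ * invRep i * g := by rw [mul_assoc, ← hg, inv_mul_cancel_left]
        rw [e]
        calc g⁻¹ * invRep i * g * (g⁻¹ * q * g) * (g⁻¹ * invRep i * g)⁻¹ * (g⁻¹ * q * g)⁻¹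
            = g⁻¹ * (invRep i * q * (invRep i)⁻¹ * q⁻¹) * g := by group
          _ = _ := by rw [← hqc]; group
      have hw6 : (w : G) ^ 6 = 1 := by
        have h3' : π (w * (w * w)) = 1 := by
          rw [map_mul, map_mul, hw]
          calc _ = g⁻¹ * (q * (q * q)) * g := by group
            _ = 1 := by rw [hq3]; group
        have e3 : (w : G) ^ 3 = ((w * (w * w) : E.Ct) : G) := by rw [pow_three]; rfl
        rw [show (6 : ℕ) = 3 * 2 from rfl, pow_mul, e3]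
        rcases hcz (w * (w * w)).2 h3' with h | h <;>
          rw [show ((w * (w * w) : E.Ct) : G) = _ from h]
        · rw [one_pow]
        · rw [pow_two, E.t_sq]
      set y : E.Ct := w * w with hy'
      have hy3 : (y : G) * ((y : G) * y) = 1 := by
        rw [hy', Subgroup.coe_mul, ← hw6]; simp only [pow_succ, pow_zero, one_mul, mul_assoc]
      have hyπ : π y ≠ 1 := fun h => by
        rw [hy', map_mul] at h
        have h3' : π w * (π w * π w) = 1 := by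
          rw [hw]
          calc _ = g⁻¹ * (q * (q * q)) * g := by group
            _ = 1 := by rw [hq3]; group
        rw [h, mul_one, hw] at h3'
        refine hq1 ?_
        calc q = g * (g⁻¹ * q * g) * g⁻¹ := by group
          _ = 1 := by rw [h3']; group
      have hjy : (j : G) * y = y * j := by
        rcases hcz (j * w * j⁻¹ * w⁻¹).2 hjq with h | h
        · have hjw : (j : G) * w = w * j := by
            have h' : (j : G) * w * (j : G)⁻¹ * (w : G)⁻¹ = 1 := h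
            exact mul_inv_eq_iff_eq_mul.1 (mul_inv_eq_one.1 h')
          exact ((show Commute (j : G) w from hjw).mul_right (show Commute (j : G) w from hjw)).eq
        · have h' : (j : G) * w * (j : G)⁻¹ * (w : G)⁻¹ = E.t := h
          have e1 : (j : G) * w * (j : G)⁻¹ = E.t * w := by rw [← h']; group
          refine mul_inv_eq_iff_eq_mul.1 ?_
          calc (j : G) * y * (j : G)⁻¹ = (j * w * (j : G)⁻¹) * (j * w * (j : G)⁻¹) := by
                rw [hy']; push_cast; group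
            _ = E.t * (w * E.t) * w := by rw [e1]; group
            _ = E.t * E.t * (w * w) := by rw [E.mem_Ct.1 w.2]; group
            _ = _ := by rw [E.t_sq, one_mul]; rfl
      obtain ⟨l, v, hl, hv, he⟩ := E.plane_conj (E.mem_Ct.1 y.2) hy3
      refine ⟨⟨l, E.mem_Ct.2 hl⟩, E.cent_plane hN hv (fun e => hyπ ?_) ?_⟩
      · rw [e, E.ι_zero, conj_eq_one_iff] at he
        rw [show y = 1 from Subtype.ext he, map_one]
      · rw [← he]
        push_cast
        calc l * (j : G) * l⁻¹ * (l * y * l⁻¹) = l * ((j : G) * y) * l⁻¹ := by group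
          _ = _ := by rw [hjy]; group

/-- A normal subgroup of index two avoiding `t`. -/
theorem exists_index_two : ∃ N : Subgroup G, N.Normal ∧ N.index = 2 ∧ E.t ∉ N := by
  obtain ⟨χ, hχ, hχ'⟩ := E.exists_chi hN
  refine index_two E.t_sq (E.mem_Ct.2 rfl) χ hχ fun y h => ?_
  rcases hχ' ⟨_, h⟩ (isConj_iff.2 ⟨y⁻¹, by group⟩) with e | e
  · exact Or.inl e
  · refine Or.inr (E.mem_Ct.2 ?_)
    calc y * E.t = y * (y⁻¹ * E.t * y) := by rw [show y⁻¹ * E.t * y = E.t from e]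
      _ = E.t * y := by group

end Full

end Cfsg.Lib.SpCentre
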