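import Cfsg.Agent.LocalThree.SpCentre.TwoPoint
import Cfsg.Agent.LocalThree.RankThree.CoreQuot
import Cfsg.Agent.LocalThree.SymNineLocal.Quot
import Cfsg.Agent.LocalThree.SwapCount

/-!
When the central vector has two images, the normaliser of the element is the whole group.
-/

set_option autoImplicit false
set_option maxRecDepth 8000
set_option linter.unusedSectionVars false
set_option synthInstance.maxSize 2000

namespace Cfsg.Lib.SpCentre

open Subgroup Cfsg.Lib.HeisSL Cfsg.Lib.AmalgamSpFour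
open scoped MatrixGroups

universe u

/-- the central involution of the complement -/
def i0 : Mdl := ⟨0, 0, 0, ⟨!![2, 0; 0, 2], by decide +kernel⟩⟩

/-- central points -/
def zc (z : ZMod 3) : Mdl := ⟨0, 0, z, 1⟩

theorem i0_facts : i0 * i0 = e0 ∧ i0 ≠ e0 ∧ (∀ v : V, i0 * mv v = mv (app sW v) * i0) ∧
    Fintype.card {m : Mdl // m * i0 = i0 * m} = 72 ∧
    Fintype.card {v : V // app sW v = v} = 9 ∧ (cmp sW sW = idW) := by decide +kernel

theorem invol_inner : ∀ m : Mdl, m * m = e0 → m ≠ e0 →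
    ∃ a b : ZMod 3, m * ⟨a, b, 0, 1⟩ = ⟨a, b, 0, 1⟩ * i0 := by decide +kernel

theorem three_distinct : (⟨1, 0, 0, 1⟩ : Mdl) * i0 ≠ i0 * ⟨1, 0, 0, 1⟩ ∧
    (⟨2, 0, 0, 1⟩ : Mdl) * i0 ≠ i0 * ⟨2, 0, 0, 1⟩ := by decide +kernel

/-- the quarter turn -/
def turn : SL(2, ZMod 3) := ⟨!![0, 1; 2, 0], by decide +kernel⟩

theorem core_charA : ∀ B : SL(2, ZMod 3), B * (B * B) = 1 →
    B * (uni 1 * B * (uni 1)⁻¹) * ((B * (uni 1 * B * (uni 1)⁻¹)) * (B * (uni 1 * B * (uni 1)⁻¹))) = 1 →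
    B * (turn * B * turn⁻¹) * ((B * (turn * B * turn⁻¹)) * (B * (turn * B * turn⁻¹))) = 1 →
    B = 1 := by decide +kernel

theorem core_char (m : Mdl) (h : m * (m * m) = e0)
    (hA : ∀ A : SL(2, ZMod 3), (m * (⟨0, 0, 0, A⟩ * m * ⟨0, 0, 0, A⁻¹⟩)) *
      ((m * (⟨0, 0, 0, A⟩ * m * ⟨0, 0, 0, A⁻¹⟩)) * (m * (⟨0, 0, 0, A⟩ * m * ⟨0, 0, 0, A⁻¹⟩))) = e0) :
    m.A = 1 := by
  have key : ∀ A : SL(2, ZMod 3), m.A * (A * m.A * A⁻¹) * ((m.A * (A * m.A * A⁻¹)) * (m.A * (A * m.A * A⁻¹))) = 1 := by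
    intro A
    have e := congrArg (fun x : Mdl => x.A) (hA A)
    simp only [mul_A] at e
    exact e
  refine core_charA m.A ?_ ?_ ?_
  · have e := congrArg (fun x : Mdl => x.A) h
    simp only [mul_A] at e
    exact e
  · exact key (uni 1)
  · exact key turn

theorem core_cube : (∀ i j z : ZMod 3, (⟨i, j, z, 1⟩ : Mdl) * (⟨i, j, z, 1⟩ * ⟨i, j, z, 1⟩) = e0) ∧
    (∀ A : SL(2, ZMod 3), (⟨0, 0, 0, A⟩ : Mdl) * ⟨0, 0, 0, A⁻¹⟩ = e0) ∧
    (∀ z : ZMod 3, mv (sm z vZ) = zc z) := by decide +kernel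

theorem fix_point : (∀ r ∈ [(⟨1, 0, 0, 1⟩ : Mdl), ⟨0, 1, 0, 1⟩], ∀ i j k : ZMod 3,
      (∀ z, r * ⟨i, j, k, 1⟩ ≠ zc z) → ∃ z, ⟨i, j, k, 1⟩ * r * zc (-z) = r * ⟨i, j, k, 1⟩ * zc z ∧
        ∀ z', r * ⟨i, j, k, 1⟩ * zc z ≠ zc z') ∧
    (∀ i j k i' j' k' : ZMod 3, (∃ z, (⟨1, 0, 0, 1⟩ : Mdl) * ⟨i, j, k, 1⟩ = zc z) →
      (∃ z, (⟨0, 1, 0, 1⟩ : Mdl) * ⟨i', j', k', 1⟩ = zc z) →
      ∃ z, z ≠ 0 ∧ (⟨1, 0, 0, 1⟩ : Mdl) * ⟨0, 1, 0, 1⟩ * (⟨1, 0, 0, 1⟩ * ⟨1, 0, 0, 1⟩) * (⟨0, 1, 0, 1⟩ * ⟨0, 1, 0, 1⟩) = zc z ∧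
        (⟨i, j, k, 1⟩ : Mdl) * ⟨i', j', k', 1⟩ * (⟨i, j, k, 1⟩ * ⟨i, j, k, 1⟩) * (⟨i', j', k', 1⟩ * ⟨i', j', k', 1⟩) = zc z) := by
  decide +kernel

theorem d_class : (pm12.all fun x => allV.all fun v => !decide (csum v = 0) || decide (v = 0) || decide (v = vZ) ||
    decide (v = -vZ) || !decide (app sW (app x v) = app x v)) = true := by decide +kernel

theorem norm_fix : ∀ m : Mdl, m * i0 = i0 * m →
    (∀ v : V, app sW v = v → ∃ w : V, app sW w = w ∧ m * mv v = mv w * m) →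
    ∃ v : V, app sW v = v ∧ (m = mv v ∨ m = mv v * i0) := by decide +kernel

theorem lines_fix_b : (pm12.all fun w => [((1, 0, 0) : V), (0, 2, 2), (1, 2, 2)].all fun r =>
    !decide (app w r = r) || decide (w = idW) || decide (w = sW)) = true := by decide +kernel

theorem lines_fix : (∀ w ∈ pm12, ∀ r ∈ [((1, 0, 0) : V), (0, 2, 2), (1, 2, 2)], app w r = r → w = idW ∨ w = sW) ∧
    (∀ r ∈ [((1, 0, 0) : V), (0, 2, 2), (1, 2, 2)], app sW r = r ∧ r ≠ 0 ∧ r ≠ vZ ∧ r ≠ -vZ) ∧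
    ((1, 0, 0) : V) + (0, 2, 2) = (1, 2, 2) := by
  refine ⟨fun w hw r hr e => ?_, by decide +kernel, by decide +kernel⟩
  have h := List.all_eq_true.1 (List.all_eq_true.1 lines_fix_b w hw) r hr
  simpa [e] using h

theorem pm12_gen_b : (pm12.all fun w => perms.elem w || perms.any fun p => decide (cmp (dg (-vZ)) p = w)) = true := by
  decide +kernel

theorem pm12_gen : ∀ w ∈ pm12, w ∈ perms ∨ ∃ p ∈ perms, cmp (dg (-vZ)) p = w := by
  intro w hw
  have h := List.all_eq_true.1 pm12_gen_b w hw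
  simpa [List.elem_eq_mem, List.any_eq_true] using h

theorem fix_neg : app sW 0 = 0 ∧ (∀ v : V, app sW (-v) = -app sW v) ∧ (∀ v : V, app sW v = v → app sW (-v) = -v) ∧
    ∀ a b : Fin 3, a ≠ b →
      (![((1, 0, 0) : V), (0, 2, 2), (1, 2, 2)] a ≠ ![((1, 0, 0) : V), (0, 2, 2), (1, 2, 2)] b ∧
        ![((1, 0, 0) : V), (0, 2, 2), (1, 2, 2)] a ≠ -![((1, 0, 0) : V), (0, 2, 2), (1, 2, 2)] b) := by decide +kernel

theorem neg_facts : dg (-vZ) ∈ pm12 ∧ (∀ v : V, app (dg (-vZ)) v = -v) ∧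
    cmp (dg (-vZ)) (cmp sW (dg (-vZ))) = sW ∧ cmp (dg (-vZ)) (dg (-vZ)) = idW ∧
    (∀ w : V, app sW w + w = 0 → app sW (0, w.2.1, 0) - (0, w.2.1, 0) = -w) := by decide +kernel

theorem mdl_fintype_card : Fintype.card Mdl = 648 := by decide +kernel

theorem vZ_nz : vZ ≠ 0 := by decide +kernel

theorem vec_three : ∀ k : ZMod 3, sm k vZ = 0 ∨ sm k vZ = vZ ∨ sm k vZ = -vZ := by decide +kernel

namespace Loc

variable {G : Type u} [Group G] [Finite G] (L : Loc G)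

theorem mem_norm_iff (g : G) : g ∈ normalizer (zpowers (L.ι vZ) : Set G) ↔
    g * L.ι vZ * g⁻¹ = L.ι vZ ∨ g * L.ι vZ * g⁻¹ = (L.ι vZ)⁻¹ := by
  constructor
  · intro hg
    obtain ⟨k, hk⟩ := L.zpow_mem ((mem_normalizer_iff.1 hg _).1 (mem_zpowers (L.ι vZ)))
    rcases vec_three k with e | e | e <;> rw [e] at hk
    · exfalso
      rw [show L.ι 0 = 1 from L.ι_zero, conj_eq_one_iff] at hk
      exact L.ι_ne_one vZ_nz hk
    · exact Or.inl hk
    · exact Or.inr (by rw [hk, L.ι_neg])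
  · intro h
    refine mem_normalizer_iff_map_conj_eq.2 (Subgroup.eq_of_le_of_card_ge ?_
      (le_of_eq (card_map_of_injective (MulAut.conj g).injective).symm))
    rw [MonoidHom.map_zpowers, zpowers_le]
    show g * L.ι vZ * g⁻¹ ∈ _
    rcases h with e | e <;> rw [e]
    exacts [mem_zpowers _, inv_mem (mem_zpowers _)]

theorem Ψ_comm_a (m : Mdl) : L.Ψ m * L.ι vZ = L.ι vZ * L.Ψ m := by
  show L.Ψ m * L.Ψ (mv vZ) = L.Ψ (mv vZ) * L.Ψ m
  rw [← L.hmul, ← L.hmul, centre_central]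

theorem mdl_card : Nat.card (centralizer ({L.ι vZ} : Set G)) = 648 := by
  rw [← Nat.card_eq_of_bijective (fun m : Mdl => (⟨L.Ψ m, mem_centralizer_singleton_iff.2 (L.Ψ_comm_a m)⟩ :
      centralizer ({L.ι vZ} : Set G))) ⟨fun m m' e => L.inj (congrArg Subtype.val e), fun g => ?_⟩,
    Nat.card_eq_fintype_card, mdl_fintype_card]
  obtain ⟨m, hm⟩ := L.cent _ (mem_centralizer_singleton_iff.1 g.2)
  exact ⟨m, Subtype.ext hm⟩

/-- An involution inverting the central element centralises an element of the core outside the centre. -/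
theorem outer_fix {j : G} (hj : j * j = 1) (hja : j * L.ι vZ * j⁻¹ = (L.ι vZ)⁻¹) :
    ∃ g v, g * L.ι vZ = L.ι vZ * g ∧ csum v = 0 ∧ v ≠ 0 ∧ v ≠ vZ ∧ v ≠ -vZ ∧ j * (g * L.ι v * g⁻¹) = g * L.ι v * g⁻¹ * j := by
  classical
  have hjinv : j⁻¹ = j := inv_eq_of_mul_eq_one_right hj
  have hex : ∀ m : Mdl, ∃ m', L.Ψ m' = j * L.Ψ m * j⁻¹ := fun m => by
    refine L.cent _ ?_
    have e : L.Ψ m * (L.ι vZ)⁻¹ = (L.ι vZ)⁻¹ * L.Ψ m := by
      rw [eq_inv_mul_iff_mul_eq, ← mul_assoc, ← L.Ψ_comm_a, mul_inv_cancel_right]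
    show j * L.Ψ m * j⁻¹ * L.ι vZ = L.ι vZ * (j * L.Ψ m * j⁻¹)
    have ha : L.ι vZ = j * (L.ι vZ)⁻¹ * j⁻¹ := by
      calc L.ι vZ = ((L.ι vZ)⁻¹)⁻¹ := (inv_inv _).symm
        _ = (j * L.ι vZ * j⁻¹)⁻¹ := by rw [hja]
        _ = _ := by group
    rw [ha]
    calc j * L.Ψ m * j⁻¹ * (j * (L.ι vZ)⁻¹ * j⁻¹) = j * (L.Ψ m * (L.ι vZ)⁻¹) * j⁻¹ := by group
      _ = j * ((L.ι vZ)⁻¹ * L.Ψ m) * j⁻¹ := by rw [e]
      _ = _ := by group
  choose φ hφ using hex
  have hmul : ∀ m n, φ (m * n) = φ m * φ n := fun m n => L.inj (by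
    rw [hφ, L.hmul, L.hmul, hφ, hφ]; group)
  have hφφ : ∀ m, φ (φ m) = m := fun m => L.inj (by
    rw [hφ, hφ, hjinv]
    calc j * (j * L.Ψ m * j) * j = j * j * L.Ψ m * (j * j) := by group
      _ = _ := by rw [hj, one_mul, mul_one])
  have hφ1 : φ e0 = e0 := L.inj (by rw [hφ, L.Ψ_one, mul_one, mul_inv_cancel])
  have hz : ∀ z : ZMod 3, φ (zc z) = zc (-z) := by
    intro z
    refine L.inj ?_
    rw [hφ, ← core_cube.2.2 z, ← core_cube.2.2 (-z)]
    show j * L.ι (sm z vZ) * j⁻¹ = L.ι (sm (-z) vZ)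
    rw [show sm (-z) vZ = -sm z vZ by simp [sm], L.ι_neg]
    rcases sm_cases' z vZ with ⟨-, e⟩ | ⟨-, e⟩ | ⟨-, e⟩ <;> rw [e]
    · rw [show L.ι 0 = 1 from L.ι_zero, mul_one, mul_inv_cancel, inv_one]
    · exact hja
    · rw [L.ι_add, mul_inv_rev]
      calc j * (L.ι vZ * L.ι vZ) * j⁻¹ = j * L.ι vZ * j⁻¹ * (j * L.ι vZ * j⁻¹) := by group
        _ = _ := by rw [hja]
  have hR : ∀ i k z : ZMod 3, (φ ⟨i, k, z, 1⟩).A = 1 := by
    intro i k z
    have hA : ∀ x : Mdl, x.A = 1 → x * (x * x) = e0 := by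
      rintro ⟨a, b, c, A⟩ rfl
      exact core_cube.1 a b c
    refine core_char _ (by rw [← hmul, ← hmul, hA _ rfl, hφ1]) fun A => ?_
    have hk : φ (φ ⟨0, 0, 0, A⟩) = ⟨0, 0, 0, A⟩ := hφφ _
    have hk' : φ (φ ⟨0, 0, 0, A⁻¹⟩) = ⟨0, 0, 0, A⁻¹⟩ := hφφ _
    rw [← hk, ← hk', ← hmul, ← hmul, ← hmul, ← hmul, ← hmul, hA _ ?_, hφ1]
    have he : (φ ⟨0, 0, 0, A⟩).A * (φ ⟨0, 0, 0, A⁻¹⟩).A = 1 := by
      rw [← mul_A, ← hmul, core_cube.2.1, hφ1]; rfl
    simp only [mul_A, one_mul, mul_one]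
    exact he
  have hcore : ∀ i k z : ZMod 3, ∃ i' k' z', φ ⟨i, k, z, 1⟩ = ⟨i', k', z', 1⟩ := fun i k z =>
    ⟨_, _, _, Mdl.ext rfl rfl rfl (hR i k z)⟩
  obtain ⟨i, k, z, hX⟩ := hcore 1 0 0
  obtain ⟨i', k', z', hY⟩ := hcore 0 1 0
  obtain ⟨r, hr, X, hX', hne⟩ : ∃ r ∈ [(⟨1, 0, 0, 1⟩ : Mdl), ⟨0, 1, 0, 1⟩], ∃ X : ZMod 3 × ZMod 3 × ZMod 3,
      φ r = ⟨X.1, X.2.1, X.2.2, 1⟩ ∧ ∀ w, r * ⟨X.1, X.2.1, X.2.2, 1⟩ ≠ zc w := by
    by_contra hcon
    push Not at hcon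
    obtain ⟨w, hw⟩ := hcon _ List.mem_cons_self (i, k, z) hX
    obtain ⟨w', hw'⟩ := hcon _ (List.mem_cons_of_mem _ List.mem_cons_self) (i', k', z') hY
    obtain ⟨c, hc0, hc, hc'⟩ := fix_point.2 i k z i' k' z' ⟨w, hw⟩ ⟨w', hw'⟩
    have h := congrArg φ hc
    simp only [hmul, hX, hY, hz] at h
    rw [hc'] at h
    have hzz : ∀ c : ZMod 3, zc c = zc (-c) → c = 0 := by decide +kernel
    exact hc0 (hzz c h)
  obtain ⟨w, hw, hnc⟩ := fix_point.1 _ hr X.1 X.2.1 X.2.2 hne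
  set m := r * ⟨X.1, X.2.1, X.2.2, 1⟩ * zc w with hm
  have hrA : r.A = 1 := by
    simp only [List.mem_cons, List.not_mem_nil, or_false] at hr
    rcases hr with rfl | rfl <;> rfl
  have hfix : φ m = m := by rw [hm, hmul, hmul, hX', ← hX', hφφ, hX', hz, hw]
  have hmA : m.A = 1 := by rw [hm, mul_A, mul_A, hrA, one_mul]; simp [zc]
  have hm3 : m * (m * m) = e0 := by
    have : m = ⟨m.i, m.j, m.z, 1⟩ := Mdl.ext rfl rfl rfl hmA
    rw [this]; exact core_cube.1 _ _ _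
  obtain ⟨h, -, v, hv⟩ := cube_cover m hm3
  have hcv : csum v = 0 := (mv_csum v).1 (by
    have e := congrArg (fun x : Mdl => x.A) hv
    simp only [mul_A, hmA, one_mul] at e
    exact mul_eq_left.1 e.symm)
  have hcentral : ∀ k : ZMod 3, v ≠ sm k vZ := by
    intro k e
    rw [e, core_cube.2.2] at hv
    have hc : zc k * h = h * zc k := L.inj (by
      rw [L.hmul, L.hmul, ← core_cube.2.2]
      show L.ι (sm k vZ) * L.Ψ h = L.Ψ h * L.ι (sm k vZ)
      rcases sm_cases' k vZ with ⟨-, e⟩ | ⟨-, e⟩ | ⟨-, e⟩ <;> rw [e]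
      · rw [show L.ι 0 = 1 from L.ι_zero, one_mul, mul_one]
      · exact (L.Ψ_comm_a h).symm
      · rw [L.ι_add, mul_assoc, ← L.Ψ_comm_a, ← mul_assoc, ← L.Ψ_comm_a, mul_assoc])
    rw [← hc] at hv
    exact hnc k (L.inj (mul_right_cancel (b := L.Ψ h) (by rw [← L.hmul, ← L.hmul]; exact congrArg L.Ψ hv)))
  have hz3 : (0 : V) = sm 0 vZ ∧ vZ = sm 1 vZ ∧ -vZ = sm (-1) vZ := by decide +kernel
  refine ⟨L.Ψ h, v, L.Ψ_comm_a h, hcv, hz3.1 ▸ hcentral 0, hz3.2.1 ▸ hcentral 1, hz3.2.2 ▸ hcentral (-1), ?_⟩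
  have e : L.Ψ h * L.ι v * (L.Ψ h)⁻¹ = L.Ψ m := by
    show L.Ψ h * L.Ψ (mv v) * _ = _
    rw [← L.hmul, ← hv, L.hmul, mul_inv_cancel_right]
  rw [e]
  exact mul_inv_eq_iff_eq_mul.1 ((hφ m).symm.trans (by rw [hfix]))

/-- The centraliser of the involution normalises the element. -/
theorem cent_invol (h : ∀ w, L.Ind w → app w vZ = vZ ∨ app w vZ = -vZ) (hpm : ∀ w ∈ pm12, L.Ind w) :
    centralizer ({L.Ψ i0} : Set G) ≤ normalizer (zpowers (L.ι vZ) : Set G) ∧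
      ∀ g : G, g * L.Ψ i0 = L.Ψ i0 * g → g * (g * g) = 1 →
        ∃ l w, app sW w = w ∧ l * g * l⁻¹ = L.ι w := by
  classical
  haveI : Fact (Nat.Prime 3) := ⟨Nat.prime_three⟩
  obtain ⟨hii, hine, hiact, h72, h9, hss⟩ := i0_facts
  set i := L.Ψ i0 with hi
  set N := normalizer (zpowers (L.ι vZ) : Set G) with hN
  have hi2 : i * i = 1 := by rw [hi, ← L.hmul, hii, L.Ψ_one]
  have hine' : i ≠ 1 := fun e => hine (L.inj (e.trans L.Ψ_one.symm))
  have hia : L.Acts i sW := fun v => mul_inv_eq_iff_eq_mul.2 (by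
    show L.Ψ i0 * L.Ψ (mv v) = L.Ψ (mv (app sW v)) * L.Ψ i0
    rw [← L.hmul, ← L.hmul, hiact])
  obtain ⟨H, hH⟩ : ∃ H : Subgroup G, H = centralizer ({i} : Set G) := ⟨_, rfl⟩
  have memH : ∀ {g : G}, g ∈ H ↔ g * i = i * g := fun {g} => by rw [hH]; exact mem_centralizer_singleton_iff
  have hvH : ∀ {v : V}, app sW v = v → L.ι v ∈ H := fun {v} hv => memH.2 ((hia.fix_iff v).2 hv).symm
  have hHv : ∀ {v : V}, L.ι v ∈ H → app sW v = v := fun {v} hv => (hia.fix_iff v).1 (memH.1 hv).symm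
  let P0 : Subgroup H :=
    { carrier := {x | ∃ v : V, app sW v = v ∧ L.ι v = x}
      one_mem' := ⟨0, fix_neg.1, L.ι_zero⟩
      mul_mem' := by
        rintro x y ⟨v, hv, hx⟩ ⟨w, hw, hy⟩
        exact ⟨v + w, by rw [app_add, hv, hw], by rw [L.ι_add, hx, hy]; rfl⟩
      inv_mem' := by
        rintro x ⟨v, hv, hx⟩
        refine ⟨-v, ?_, by rw [L.ι_neg, hx]; rfl⟩
        rw [fix_neg.2.1, hv] }
  have hP0 : Nat.card P0 = 9 := by
    rw [← Nat.card_eq_of_bijective (fun v : {v : V // app sW v = v} =>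
        (⟨⟨L.ι v.1, hvH v.2⟩, v.1, v.2, rfl⟩ : P0)) ⟨fun v w e => Subtype.ext (L.ι_inj (congrArg (fun x : P0 => ((x : H) : G)) e)),
        fun ⟨x, v, hv, hx⟩ => ⟨⟨v, hv⟩, Subtype.ext (Subtype.ext hx)⟩⟩,
      Nat.card_eq_fintype_card, h9]
  -- the normaliser of this subgroup
  have hnormN : ∀ g : H, g ∈ normalizer (P0 : Set H) → (g : G) ∈ N := by
    intro g hg
    obtain ⟨w, -, hw⟩ := (mem_normalizer_iff.1 hg ⟨L.ι vZ, hvH (by decide)⟩).1 ⟨vZ, by decide, rfl⟩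
    obtain ⟨n, x, -, hnx, hxw⟩ := L.fusion (g := (g : G)) (u := vZ) (w := w) hw.symm
    refine (L.mem_norm_iff _).2 ?_
    rw [show (g : G) * L.ι vZ * (g : G)⁻¹ = L.ι w from hw.symm, ← hxw]
    rcases h x ⟨n, hnx⟩ with e | e <;> rw [e]
    exacts [Or.inl rfl, Or.inr (L.ι_neg _)]
  have hnormC : ∀ g : H, g ∈ normalizer (P0 : Set H) → (g : G) * L.ι vZ = L.ι vZ * g →
      ∃ p ∈ P0, p = g ∨ (p : G) * i = g := by
    intro g hg hga
    obtain ⟨m, hm⟩ := L.cent _ hga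
    obtain ⟨v, hv, hcase⟩ := norm_fix m (L.inj (by rw [L.hmul, L.hmul, hm]; exact memH.1 g.2)) (fun v hv => by
      obtain ⟨w, hw, hwe⟩ := (mem_normalizer_iff.1 hg ⟨L.ι v, hvH hv⟩).1 ⟨v, hv, rfl⟩
      refine ⟨w, hw, L.inj ?_⟩
      rw [L.hmul, L.hmul, hm]
      exact mul_inv_eq_iff_eq_mul.1 hwe.symm)
    refine ⟨⟨L.ι v, hvH hv⟩, ⟨v, hv, rfl⟩, ?_⟩
    rcases hcase with e | e
    · exact Or.inl (Subtype.ext (by rw [← hm, e]; rfl))
    · exact Or.inr (by rw [← hm, e, L.hmul]; rfl)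
  have hoddN : ∀ g ∈ N, g ^ 2 * L.ι vZ = L.ι vZ * g ^ 2 := by
    intro g hg
    refine mul_inv_eq_iff_eq_mul.1 ?_
    rw [show g ^ 2 * L.ι vZ * (g ^ 2)⁻¹ = g * (g * L.ι vZ * g⁻¹) * g⁻¹ by rw [pow_two]; group]
    rcases (L.mem_norm_iff g).1 hg with e | e <;> rw [e]
    · exact e
    · rw [show g * (L.ι vZ)⁻¹ * g⁻¹ = (g * L.ι vZ * g⁻¹)⁻¹ by group, e, inv_inv]
  obtain ⟨P, hP⟩ := Cfsg.Lib.SymNineLocal.sylow_of_absorb P0 (IsPGroup.of_card (n := 2) (by rw [hP0]; norm_num))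
    (fun g hg k hk => by
      have hk' : (g : G) ^ 3 ^ k = 1 := by rw [← SubmonoidClass.coe_pow, hk]; rfl
      have hga : (g : G) * L.ι vZ = L.ι vZ * g := by
        have h2 : ((g : G) ^ 2) ∈ centralizer ({L.ι vZ} : Set G) :=
          mem_centralizer_singleton_iff.2 (hoddN _ (hnormN g hg))
        have hco : (orderOf (g : G)).Coprime 2 := Nat.Coprime.coprime_dvd_left (orderOf_dvd_of_pow_eq_one hk')
          (Nat.Coprime.pow_left k (by norm_num))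
        exact mem_centralizer_singleton_iff.1 (zpowers_le.2 h2 (mem_zpowers_pow_iff.2 hco.symm))
      obtain ⟨p, hp, hpe | hpe⟩ := hnormC g hg hga
      · exact hpe ▸ hp
      exfalso
      obtain ⟨v, hv, hvp⟩ := hp
      have hcom : Commute (p : G) i := by
        rw [← hvp]; exact ((hia.fix_iff v).2 hv).symm
      rw [← hpe, hcom.mul_pow] at hk'
      have h3 : ∀ n, (p : G) ^ 3 ^ (n + 1) = 1 := fun n => by
        rw [pow_succ', pow_mul, pow_three, ← hvp, L.ι_cube, one_pow]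
      have hodd : ∀ n : ℕ, i ^ 3 ^ n = i := fun n => by
        obtain ⟨q, hq⟩ : Odd (3 ^ n) := Odd.pow (by decide)
        rw [hq, pow_succ, pow_mul, pow_two, hi2, one_pow, one_mul]
      rcases k with _ | k
      · rw [pow_zero, pow_one, pow_one] at hk'
        have hp' : (p : G) = i := by
          rw [← inv_eq_of_mul_eq_one_left hk', inv_eq_of_mul_eq_one_right hi2]
        have h3' := L.ι_cube v
        rw [hvp, hp', hi2, mul_one] at h3'
        exact hine' h3'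
      · rw [h3, hodd, one_mul] at hk'
        exact hine' hk')
  obtain ⟨hlfix, hlspec, hlsum⟩ := lines_fix
  obtain ⟨hnegpm, hnegv, hnegs, hnegn, hnegu⟩ := neg_facts
  -- an element inverting the Sylow subgroup
  obtain ⟨n, hn⟩ := hpm _ hnegpm
  have hnin : L.Acts (n * i * n⁻¹) sW := fun v => by
    calc n * i * n⁻¹ * L.ι v * (n * i * n⁻¹)⁻¹ = n * (i * (n⁻¹ * L.ι v * n) * i⁻¹) * n⁻¹ := by group
      _ = n * (i * L.ι (-v) * i⁻¹) * n⁻¹ := by
        congr 4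
        rw [← hnegv v]
        have := hn (app (dg (-vZ)) v)
        rw [← app_cmp, hnegn, app_id] at this
        rw [← this]; group
      _ = _ := by
        rw [hia, hn, ← hnegv v, ← app_cmp, ← app_cmp, cmp_assoc, hnegs]
  obtain ⟨w, hw⟩ := L.same_acts hia hnin
  have hwinv : app sW w + w = 0 := L.ι_inj (by
    rw [L.ι_add, show L.ι 0 = 1 from L.ι_zero, ← hia w, show L.ι w = i⁻¹ * (n * i * n⁻¹) from hw]
    calc i * (i⁻¹ * (n * i * n⁻¹)) * i⁻¹ * (i⁻¹ * (n * i * n⁻¹)) = n * i * n⁻¹ * (i * i)⁻¹ * (n * i * n⁻¹) := by group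
      _ = n * i * n⁻¹ * (n * i * n⁻¹) := by rw [hi2, inv_one, mul_one]
      _ = n * (i * i) * n⁻¹ := by group
      _ = 1 := by rw [hi2]; group)
  set u : V := (0, w.2.1, 0) with hu
  have ht : L.ι u * n * i = i * (L.ι u * n) := by
    have e1 : n * i * n⁻¹ = i * L.ι w := by rw [show L.ι w = i⁻¹ * (n * i * n⁻¹) from hw, mul_inv_cancel_left]
    have e2 : L.ι u * i = i * L.ι (app sW u) := by
      have := hia (app sW u)
      rw [← app_cmp, hss, app_id] at this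
      rw [← this, inv_eq_of_mul_eq_one_right hi2]
      calc i * L.ι (app sW u) * i * i = i * L.ι (app sW u) * (i * i) := by group
        _ = _ := by rw [hi2, mul_one]
    calc L.ι u * n * i = L.ι u * (n * i * n⁻¹) * n := by group
      _ = i * (L.ι (app sW u) * L.ι w) * n := by rw [e1, ← mul_assoc, e2]; group
      _ = i * L.ι u * n := by
        rw [← L.ι_add]
        congr 2
        rw [show app sW u + w = u + ((app sW u - u) + w) by abel, hnegu w hwinv]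
        simp
      _ = _ := by rw [mul_assoc]
  have htinv : ∀ v, L.ι u * n * L.ι v * (L.ι u * n)⁻¹ = (L.ι v)⁻¹ := fun v => by
    calc L.ι u * n * L.ι v * (L.ι u * n)⁻¹ = L.ι u * (n * L.ι v * n⁻¹) * (L.ι u)⁻¹ := by group
      _ = _ := by rw [hn, hnegv, L.ι_conj, L.ι_neg]
  let t : H := ⟨L.ι u * n, memH.2 ht⟩
  let ih : H := ⟨i, memH.2 rfl⟩
  have hiO : ih ∈ Cfsg.pPrimeCore 3 H := by
    have hnorm : (zpowers ih).Normal := ⟨fun y hy g => by
      obtain ⟨k, rfl⟩ := mem_zpowers_iff.1 hy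
      have hc : Commute g ih := Subtype.ext (memH.1 g.2)
      rw [(hc.zpow_right k).eq, mul_inv_cancel_right]
      exact hy⟩
    refine Cfsg.Lib.Components.le_pPrimeCore (N := zpowers ih) ?_ (mem_zpowers ih)
    rw [Nat.card_zpowers, orderOf_eq_prime (p := 2) (by rw [pow_two]; exact Subtype.ext hi2)
      (fun e => hine' (congrArg Subtype.val e))]
    norm_num
  have hPmem : ∀ {x : H}, x ∈ (P : Subgroup H) ↔ ∃ v, app sW v = v ∧ L.ι v = x := fun {x} => by rw [hP]; rfl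
  let rv : Fin 3 → V := ![(1, 0, 0), (0, 2, 2), (1, 2, 2)]
  have hrv : ∀ k, rv k ∈ [((1, 0, 0) : V), (0, 2, 2), (1, 2, 2)] := by intro k; fin_cases k <;> simp [rv]
  let r : Fin 3 → H := fun k => ⟨L.ι (rv k), hvH (hlspec _ (hrv k)).1⟩
  have hmain := RankThree.core_three (L := H) P (by rw [hP, hP0])
    (fun x hx y hy => by
      obtain ⟨v, -, hv⟩ := hPmem.1 hx
      obtain ⟨v', -, hv'⟩ := hPmem.1 hy
      exact Subtype.ext (by rw [Subgroup.coe_mul, Subgroup.coe_mul, ← hv, ← hv', L.ι_comm]))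
    (fun x hx => by
      obtain ⟨v, -, hv⟩ := hPmem.1 hx
      exact Subtype.ext (by rw [Subgroup.coe_mul, Subgroup.coe_mul, ← hv, L.ι_cube]; rfl))
    r (Subtype.ext (show L.ι (1, 2, 2) = L.ι (1, 0, 0) * L.ι (0, 2, 2) by rw [← L.ι_add, hlsum]))
    (fun k => hPmem.2 ⟨rv k, (hlspec _ (hrv k)).1, rfl⟩)
    (fun k e => L.ι_ne_one (hlspec _ (hrv k)).2.1 (congrArg Subtype.val e))
    (fun a b hab => by
      have key := fix_neg.2.2.2
      refine ⟨fun e => (key a b hab).1 (L.ι_inj (congrArg Subtype.val e)),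
        fun e => (key a b hab).2 (L.ι_inj ((congrArg Subtype.val e).trans ?_))⟩
      exact (L.ι_neg _).symm)
    t
    (fun x hx => by
      obtain ⟨v, -, hv⟩ := hPmem.1 hx
      exact Subtype.ext (by
        rw [Subgroup.coe_mul, Subgroup.coe_mul, Subgroup.coe_inv, Subgroup.coe_inv, ← hv]; exact htinv v))
    (fun k g hg => by
      have hg' : (g : G) * L.ι (rv k) = L.ι (rv k) * g := congrArg Subtype.val hg
      obtain ⟨s1, s2, s3, s4⟩ := hlspec _ (hrv k)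
      have hgN := L.two_point h hpm s2 s3 s4 hg'
      obtain ⟨x, -, hgx⟩ := L.exists_acts hgN
      have hbase : ∀ {y : H}, (y : G) ∈ L.J → ∃ p ∈ (P : Subgroup H), p = y := fun {y} ⟨v, hv⟩ =>
        ⟨y, hPmem.2 ⟨v, hHv (hv ▸ y.2), hv⟩, rfl⟩
      rcases hlfix x (L.ind_pm h ⟨_, hgx⟩) _ (hrv k) ((hgx.fix_iff _).1 hg') with rfl | rfl
      · obtain ⟨p, hp, rfl⟩ := hbase hgx.mem_J
        exact ⟨p, hp, by rw [inv_mul_cancel]; exact one_mem _⟩
      · obtain ⟨p, hp, hpe⟩ := hbase (y := ih⁻¹ * g) (L.same_acts hia hgx)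
        refine ⟨p, hp, ?_⟩
        have hc : p⁻¹ * g = p⁻¹ * ih * p := by rw [hpe]; group
        rw [hc]
        exact (Cfsg.pPrimeCore_normal 3 H).conj_mem ih hiO p⁻¹ |> fun h => by rwa [inv_inv] at h)
    (fun g hg => by
      rw [hP] at hg
      have hcase : ∀ y : H, y ∈ normalizer (P0 : Set H) → (y : G) * L.ι vZ = L.ι vZ * y →
          ∃ p ∈ (P : Subgroup H), p⁻¹ * y ∈ Cfsg.pPrimeCore 3 H := by
        intro y hy hya
        obtain ⟨p, hp, hpe | hpe⟩ := hnormC y hy hya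
        · exact ⟨p, hP ▸ hp, by rw [hpe, inv_mul_cancel]; exact one_mem _⟩
        · refine ⟨p, hP ▸ hp, ?_⟩
          rw [show p⁻¹ * y = ih from Subtype.ext (by rw [Subgroup.coe_mul, ← hpe, Subgroup.coe_inv, inv_mul_cancel_left])]
          exact hiO
      rcases (L.mem_norm_iff _).1 (hnormN g hg) with e | e
      · obtain ⟨p, hp, hpo⟩ := hcase g hg (mul_inv_eq_iff_eq_mul.1 e)
        exact ⟨p, hp, Or.inl hpo⟩
      · have htN : t ∈ normalizer (P0 : Set H) := by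
          refine mem_normalizer_iff_map_conj_eq.2 (Subgroup.eq_of_le_of_card_ge ?_
            (le_of_eq (card_map_of_injective (MulAut.conj t).injective).symm))
          rintro _ ⟨x, ⟨v, hv, hvx⟩, rfl⟩
          exact ⟨-v, fix_neg.2.2.1 v hv, by
            rw [L.ι_neg, ← htinv v, hvx]; rfl⟩
        obtain ⟨p, hp, hpo⟩ := hcase (t⁻¹ * g) (mul_mem (inv_mem htN) hg) (by
          refine mul_inv_eq_iff_eq_mul.1 ?_
          show (L.ι u * n)⁻¹ * (g : G) * L.ι vZ * ((L.ι u * n)⁻¹ * (g : G))⁻¹ = L.ι vZ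
          calc _ = (L.ι u * n)⁻¹ * ((g : G) * L.ι vZ * (g : G)⁻¹) * (L.ι u * n) := by group
            _ = (L.ι u * n)⁻¹ * (L.ι u * n * L.ι vZ * (L.ι u * n)⁻¹) * (L.ι u * n) := by rw [e, htinv]
            _ = _ := by group)
        exact ⟨p, hp, Or.inr hpo⟩)
  -- the core
  have hO : Cfsg.pPrimeCore 3 H ≤ N.subgroupOf H := by
    haveI : IsMulCommutative (P : Subgroup H) := ⟨⟨fun x y => by
      obtain ⟨v, -, hv⟩ := hPmem.1 x.2
      obtain ⟨v', -, hv'⟩ := hPmem.1 y.2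
      exact Subtype.ext (Subtype.ext (show ((x : H) : G) * (y : H) = (y : H) * (x : H) by rw [← hv, ← hv', L.ι_comm]))⟩⟩
    refine Cfsg.Lib.SymNineLocal.gen_fix (A := (P : Subgroup H)) ?_ (by rw [Subgroup.normalizer_eq_top]; exact le_top)
      (by
        rw [hP, hP0, show (9 : ℕ) = 3 ^ 2 by norm_num]
        exact Nat.Coprime.pow_left 2 (Cfsg.Lib.Components.coprime_card_pPrimeCore 3).symm) ?_
    · intro hc
      obtain ⟨g, hg⟩ := hc
      have h3 : orderOf g ∣ 3 := orderOf_dvd_of_pow_eq_one (Subtype.ext (Subtype.ext (by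
        obtain ⟨v, -, hv⟩ := hPmem.1 g.2
        simp only [SubmonoidClass.coe_pow, OneMemClass.coe_one]
        rw [pow_three, ← hv, L.ι_cube])))
      rw [orderOf_eq_card_of_forall_mem_zpowers hg, hP, hP0] at h3
      norm_num at h3
    · intro x hx hx1 q _ hqx
      obtain ⟨v, -, hv⟩ := hPmem.1 hx
      have hv0 : v ≠ 0 := fun e => hx1 (Subtype.ext (by rw [← hv, e]; exact L.ι_zero))
      have hqv : (q : G) * L.ι v = L.ι v * q := by rw [hv]; exact congrArg Subtype.val hqx.eq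
      show (q : G) ∈ N
      rcases eq_or_ne v vZ with rfl | h1
      · exact (L.mem_norm_iff _).2 (Or.inl (mul_inv_eq_iff_eq_mul.2 hqv))
      rcases eq_or_ne v (-vZ) with rfl | h2
      · rw [L.ι_neg] at hqv
        exact (L.mem_norm_iff _).2 (Or.inl (mul_inv_eq_iff_eq_mul.2 (show Commute (q : G) (L.ι vZ) from
          Commute.inv_right_iff.1 hqv).eq))
      obtain ⟨x', -, hqx'⟩ := L.exists_acts (L.two_point h hpm hv0 h1 h2 hqv)
      refine (L.mem_norm_iff _).2 ?_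
      rw [hqx']
      rcases h x' ⟨_, hqx'⟩ with e | e <;> rw [e]
      exacts [Or.inl rfl, Or.inr (L.ι_neg _)]
  constructor
  · intro g hg
    obtain ⟨x, hx, hxo⟩ := hmain ⟨g, hH ▸ hg⟩
    have h1 : (x : G) ∈ N := hnormN x (hP ▸ hx)
    have h2 := N.mul_mem h1 (show ((x⁻¹ * ⟨g, hH ▸ hg⟩ : H) : G) ∈ N from hO hxo)
    rwa [Subgroup.coe_mul, Subgroup.coe_inv, mul_inv_cancel_left] at h2
  · intro g hg hg3
    have hp : IsPGroup 3 (zpowers (⟨g, memH.2 hg⟩ : H)) := fun y => by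
      refine ⟨1, Subtype.ext ?_⟩
      obtain ⟨k, hk⟩ := mem_zpowers_iff.1 y.2
      rw [SubmonoidClass.coe_pow, ← hk, pow_one, ← zpow_natCast, ← zpow_mul, mul_comm, zpow_mul, zpow_natCast,
        show (⟨g, memH.2 hg⟩ : H) ^ 3 = 1 from Subtype.ext (by rw [SubmonoidClass.coe_pow, pow_three, hg3]; rfl),
        one_zpow, OneMemClass.coe_one]
    obtain ⟨Q, hQ⟩ := hp.exists_le_sylow
    obtain ⟨l, hl⟩ := MulAction.exists_smul_eq H Q P
    have hm : l * ⟨g, memH.2 hg⟩ * l⁻¹ ∈ (P : Subgroup H) := by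
      rw [← hl, Sylow.coe_subgroup_smul]
      exact Subgroup.smul_mem_pointwise_smul _ (MulAut.conj l) _ (hQ (mem_zpowers _))
    obtain ⟨v, hv, hve⟩ := hPmem.1 hm
    exact ⟨l, v, hv, hve.symm⟩

theorem two_image (h : ∀ w, L.Ind w → app w vZ = vZ ∨ app w vZ = -vZ) (hex : ∃ w, L.Ind w ∧ app w vZ = -vZ) :
    normalizer (zpowers (L.ι vZ) : Set G) = ⊤ := by
  classical
  obtain ⟨w₀, hw₀, hw₀e⟩ := hex
  have hd : L.Ind (dg (-vZ)) := by rw [← hw₀e]; exact L.ind_dg hw₀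
  have hpm : ∀ w ∈ pm12, L.Ind w := fun w hw => by
    rcases pm12_gen w hw with e | ⟨p, hp, e⟩
    exacts [L.ind_perm e, e ▸ L.ind_mul hd (L.ind_perm hp)]
  obtain ⟨hiN, hisyl⟩ := L.cent_invol h hpm
  obtain ⟨hii, hine, -⟩ := i0_facts
  set i := L.Ψ i0 with hi
  set N := normalizer (zpowers (L.ι vZ) : Set G) with hN
  have hi2 : i * i = 1 := by rw [hi, ← L.hmul, hii, L.Ψ_one]
  have hCN : ∀ {g : G}, g * L.ι vZ = L.ι vZ * g → g ∈ N := fun {g} hg =>
    (L.mem_norm_iff g).2 (Or.inl (mul_inv_eq_iff_eq_mul.2 hg))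
  have hJN : ∀ {g : G}, g ∈ normalizer (L.J : Set G) → g ∈ N := fun {g} hg => by
    obtain ⟨w, -, hw⟩ := L.exists_acts hg
    refine (L.mem_norm_iff g).2 ?_
    rw [hw]
    rcases h w ⟨g, hw⟩ with e | e <;> rw [e]
    exacts [Or.inl rfl, Or.inr (L.ι_neg _)]
  have hcent : ∀ {v : V}, v ≠ 0 → ∀ {g : G}, g * L.ι v = L.ι v * g → g ∈ N := by
    intro v hv g hg
    rcases eq_or_ne v vZ with rfl | h1
    · exact hCN hg
    rcases eq_or_ne v (-vZ) with rfl | h2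
    · rw [L.ι_neg] at hg
      exact hCN (Commute.inv_right_iff.1 (show Commute g (L.ι vZ)⁻¹ from hg)).eq
    exact hJN (L.two_point h hpm hv h1 h2 hg)
  obtain ⟨n, hn⟩ := hd
  -- elements of order three
  have hthree : ∀ {y : G}, y * L.ι vZ = L.ι vZ * y → y * (y * y) = 1 → y ≠ 1 →
      (∀ g, g * y = y * g → g ∈ N) ∧ ∃ m ∈ N, m * y * m⁻¹ = y⁻¹ := by
    intro y hya hy3 hy1
    obtain ⟨m, rfl⟩ := L.cent y hya
    obtain ⟨k, -, v, hv⟩ := cube_cover m (L.inj (by rw [L.hmul, L.hmul, hy3, L.Ψ_one]))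
    have e : L.Ψ m = L.Ψ k * L.ι v * (L.Ψ k)⁻¹ := by
      rw [eq_mul_inv_iff_mul_eq]
      show L.Ψ m * L.Ψ k = L.Ψ k * L.Ψ (mv v)
      rw [← L.hmul, ← L.hmul, hv]
    have hkN : L.Ψ k ∈ N := hCN (L.Ψ_comm_a k)
    have hv0 : v ≠ 0 := fun e0 => hy1 (by rw [e, e0, show L.ι 0 = 1 from L.ι_zero, mul_one, mul_inv_cancel])
    refine ⟨fun g hg => ?_, L.Ψ k * n * (L.Ψ k)⁻¹, mul_mem (mul_mem hkN (hJN hn.mem_N)) (inv_mem hkN), ?_⟩
    · have h1 : (L.Ψ k)⁻¹ * g * L.Ψ k ∈ N := hcent hv0 (by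
        rw [e] at hg
        calc (L.Ψ k)⁻¹ * g * L.Ψ k * L.ι v = (L.Ψ k)⁻¹ * (g * (L.Ψ k * L.ι v * (L.Ψ k)⁻¹)) * L.Ψ k := by group
          _ = _ := by rw [hg]; group)
      have := mul_mem (mul_mem hkN h1) (inv_mem hkN)
      simpa [mul_assoc] using this
    · rw [e, show (L.Ψ k * L.ι v * (L.Ψ k)⁻¹)⁻¹ = L.Ψ k * (L.ι v)⁻¹ * (L.Ψ k)⁻¹ by group, ← L.ι_neg,
        ← neg_facts.2.1 v, ← hn v]
      group
  -- involutions centralising the element
  have hinner : ∀ {c : G}, c * L.ι vZ = L.ι vZ * c → c * c = 1 → c ≠ 1 → ∃ k ∈ N, c = k * i * k⁻¹ := by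
    intro c hca hc2 hc1
    obtain ⟨m, rfl⟩ := L.cent c hca
    obtain ⟨a, b, hab⟩ := invol_inner m (L.inj (by rw [L.hmul, hc2, L.Ψ_one]))
      (fun e => hc1 (by rw [e]; exact L.Ψ_one))
    refine ⟨L.Ψ ⟨a, b, 0, 1⟩, hCN (L.Ψ_comm_a _), ?_⟩
    rw [eq_mul_inv_iff_mul_eq, hi, ← L.hmul, ← L.hmul, hab]
  have hinvC : ∀ {c : G}, c * L.ι vZ = L.ι vZ * c → c * c = 1 → c ≠ 1 → ∀ g, g * c = c * g → g ∈ N := by
    intro c hca hc2 hc1 g hg
    obtain ⟨k, hk, rfl⟩ := hinner hca hc2 hc1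
    have h1 : k⁻¹ * g * k ∈ N := hiN (mem_centralizer_singleton_iff.2 (by
      calc k⁻¹ * g * k * i = k⁻¹ * (g * (k * i * k⁻¹)) * k := by group
        _ = _ := by rw [hg]; group))
    have := mul_mem (mul_mem hk h1) (inv_mem hk)
    simpa [mul_assoc] using this
  have hodd : ∀ {g : G}, g ∈ N → (g * g) * L.ι vZ = L.ι vZ * (g * g) := by
    intro g hg
    refine mul_inv_eq_iff_eq_mul.1 ?_
    rw [show g * g * L.ι vZ * (g * g)⁻¹ = g * (g * L.ι vZ * g⁻¹) * g⁻¹ by group]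
    rcases (L.mem_norm_iff g).1 hg with e | e <;> rw [e]
    · exact e
    · rw [show g * (L.ι vZ)⁻¹ * g⁻¹ = (g * L.ι vZ * g⁻¹)⁻¹ by group, e, inv_inv]
  refine SwapCount.eq_top N hi2 (hCN (L.Ψ_comm_a i0)) ?_ ?_
  · intro g hg
    set j := g⁻¹ * i * g with hj
    have hj2 : j * j = 1 := by
      calc j * j = g⁻¹ * (i * i) * g := by rw [hj]; group
        _ = 1 := by rw [hi2]; group
    rcases (L.mem_norm_iff j).1 hg with e | e
    · have hj1 : j ≠ 1 := fun e1 => hine (L.inj (by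
        rw [L.Ψ_one]
        calc i = g * j * g⁻¹ := by rw [hj]; group
          _ = 1 := by rw [e1]; group))
      obtain ⟨k, hk, hke⟩ := hinner (mul_inv_eq_iff_eq_mul.1 e) hj2 hj1
      have h1 : g * k ∈ N := hiN (mem_centralizer_singleton_iff.2 (by
        calc g * k * i = g * (k * i * k⁻¹) * k := by group
          _ = g * j * k := by rw [hke]
          _ = _ := by rw [hj]; group))
      have := mul_mem h1 (inv_mem hk)
      rwa [mul_inv_cancel_right] at this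
    · exfalso
      obtain ⟨k, v, -, hv, hv0, hv1, hv2, hcomm⟩ := L.outer_fix hj2 e
      obtain ⟨l, w, hw, hlw⟩ := hisyl (g * (k * L.ι v * k⁻¹) * g⁻¹) (by
          calc g * (k * L.ι v * k⁻¹) * g⁻¹ * i = g * (k * L.ι v * k⁻¹ * j) * g⁻¹ := by rw [hj]; group
            _ = _ := by rw [← hcomm, hj]; group)
        (by
          calc _ = g * k * (L.ι v * (L.ι v * L.ι v)) * k⁻¹ * g⁻¹ := by group
            _ = 1 := by rw [L.ι_cube]; group)
      obtain ⟨_, x, -, hnx, hxv⟩ := L.fusion (g := l * g * k) (u := v) (w := w) (by rw [← hlw]; group)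
      have hb := List.all_eq_true.1 (List.all_eq_true.1 d_class x (L.ind_pm h ⟨_, hnx⟩)) v (allV_mem v)
      simp [hv, hv0, hv1, hv2, hxv, hw] at hb
  · intro x hx hxN
    have hx2 : x * x = 1 := by
      obtain ⟨c, rfl⟩ := isConj_iff.1 hx
      calc c * i * c⁻¹ * (c * i * c⁻¹) = c * (i * i) * c⁻¹ := by group
        _ = 1 := by rw [hi2]; group
    have hxinv : x⁻¹ = x := inv_eq_of_mul_eq_one_right hx2
    -- nothing of the centraliser of the element is fixed or inverted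
    have hsmall : ∀ c : G, c * L.ι vZ = L.ι vZ * c → (x * c * x = c ∨ x * c * x = c⁻¹) → c = 1 := by
      intro c hca hxc
      by_contra hc1
      have hpw : ∀ (k : ℕ), x * c ^ k * x = c ^ k ∨ x * c ^ k * x = (c ^ k)⁻¹ := by
        intro k
        have e : x * c ^ k * x = (x * c * x) ^ k := by
          have := map_pow (MulAut.conj x) c k
          simpa [hxinv] using this
        rcases hxc with h | h
        · exact Or.inl (by rw [e, h])
        · exact Or.inr (by rw [e, h, inv_pow])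
      have hpc : ∀ k : ℕ, c ^ k * L.ι vZ = L.ι vZ * c ^ k := fun k =>
        ((show Commute c (L.ι vZ) from hca).pow_left k).eq
      obtain ⟨p, hp, hpd⟩ := Nat.exists_prime_and_dvd (fun e => hc1 (orderOf_eq_one_iff.1 e))
      have h648 : orderOf c ∣ 648 := by
        rw [← L.mdl_card]
        exact Subgroup.orderOf_dvd_natCard _ (mem_centralizer_singleton_iff.2 hca)
      have hp23 : p = 2 ∨ p = 3 := by
        have h1 : p ∣ 2 ^ 3 * 3 ^ 4 := hpd.trans h648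
        rcases hp.dvd_mul.1 h1 with h | h
        · exact Or.inl ((Nat.prime_dvd_prime_iff_eq hp Nat.prime_two).1 (hp.dvd_of_dvd_pow h))
        · exact Or.inr ((Nat.prime_dvd_prime_iff_eq hp Nat.prime_three).1 (hp.dvd_of_dvd_pow h))
      set y := c ^ (orderOf c / p) with hy
      have hyo : orderOf y = p := by
        rw [hy, orderOf_pow_of_dvd (Nat.div_pos (Nat.le_of_dvd (orderOf_pos c) hpd) hp.pos).ne'
          (Nat.div_dvd_of_dvd hpd), Nat.div_div_self hpd (orderOf_pos c).ne']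
      have hy1 : y ≠ 1 := fun e => hp.ne_one (by rw [← hyo, e, orderOf_one])
      have hyp : y ^ p = 1 := by rw [← hyo]; exact pow_orderOf_eq_one y
      rcases hp23 with rfl | rfl
      · rw [pow_two] at hyp
        refine hxN (hinvC (hpc _) hyp hy1 x ?_)
        have hyi : y⁻¹ = y := inv_eq_of_mul_eq_one_right hyp
        have h1 : x * y * x = y := by
          rcases hpw (orderOf c / 2) with h | h
          · exact h
          · rw [hy] at hyi ⊢; rw [h, hyi]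
        calc x * y = x * y * (x * x) := by rw [hx2, mul_one]
          _ = y * x := by rw [← mul_assoc, h1]
      · rw [pow_three] at hyp
        obtain ⟨hcy, m, hm, hmy⟩ := hthree (hpc _) hyp hy1
        rcases hpw (orderOf c / 3) with h | h <;> rw [← hy] at h
        · refine hxN (hcy x ?_)
          calc x * y = x * y * (x * x) := by rw [hx2, mul_one]
            _ = y * x := by rw [← mul_assoc, h]
        · refine hxN ?_
          have h1 : m⁻¹ * x ∈ N := hcy _ (by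
            refine mul_inv_eq_iff_eq_mul.1 ?_
            calc m⁻¹ * x * y * (m⁻¹ * x)⁻¹ = m⁻¹ * (x * y * x⁻¹) * m := by group
              _ = m⁻¹ * (m * y * m⁻¹) * m := by rw [hxinv, h, hmy]
              _ = y := by group)
          have := mul_mem hm h1
          rwa [mul_inv_cancel_left] at this
    have hD : ∀ d, d ∈ N → x * d * x = d⁻¹ → d * d = 1 ∧ x * d * x = d ∧ (d * L.ι vZ = L.ι vZ * d → d = 1) := by
      intro d hd hxd
      have h1 : d * d = 1 := hsmall _ (hodd hd) (Or.inr (by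
        calc x * (d * d) * x = x * d * (x * x) * (d * x) := by rw [hx2]; group
          _ = x * d * x * (x * d * x) := by group
          _ = _ := by rw [hxd, mul_inv_rev]))
      exact ⟨h1, by rw [hxd, inv_eq_of_mul_eq_one_right h1], fun ha => hsmall d ha (Or.inr hxd)⟩
    have hout : ∀ d, d ∈ N → x * d * x = d⁻¹ → d ≠ 1 → d * L.ι vZ * d⁻¹ = (L.ι vZ)⁻¹ := fun d hd hxd hd1 =>
      ((L.mem_norm_iff d).1 hd).resolve_left fun e => hd1 ((hD d hd hxd).2.2 (mul_inv_eq_iff_eq_mul.1 e))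
    have huniq : ∀ d d', d ∈ N → x * d * x = d⁻¹ → d ≠ 1 → d' ∈ N → x * d' * x = d'⁻¹ → d' ≠ 1 → d = d' := by
      intro d d' hd hxd hd1 hd' hxd' hd1'
      obtain ⟨h1, h2, -⟩ := hD d hd hxd
      obtain ⟨h1', h2', -⟩ := hD d' hd' hxd'
      have hc : d * d' = 1 := by
        refine hsmall _ (mul_inv_eq_iff_eq_mul.1 ?_) (Or.inl ?_)
        · calc d * d' * L.ι vZ * (d * d')⁻¹ = d * (d' * L.ι vZ * d'⁻¹) * d⁻¹ := by group
            _ = (d * L.ι vZ * d⁻¹)⁻¹ := by rw [hout d' hd' hxd' hd1']; group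
            _ = _ := by rw [hout d hd hxd hd1, inv_inv]
        · calc x * (d * d') * x = x * d * (x * x) * (d' * x) := by rw [hx2]; group
            _ = x * d * x * (x * d' * x) := by group
            _ = _ := by rw [h2, h2']
      rw [eq_inv_of_mul_eq_one_left hc, inv_eq_of_mul_eq_one_right h1']
    have hle : {d : G | d ∈ N ∧ x * d * x = d⁻¹ ∧ IsConj i (x * d)}.ncard ≤ 2 := by
      by_cases hex : ∃ d, d ∈ N ∧ x * d * x = d⁻¹ ∧ d ≠ 1
      · obtain ⟨d₀, h1, h2, h3⟩ := hex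
        refine (Set.ncard_le_ncard (t := {1, d₀}) ?_ (Set.toFinite _)).trans ((Set.ncard_insert_le _ _).trans (by rw [Set.ncard_singleton]))
        rintro d ⟨hd, hxd, -⟩
        by_cases e : d = 1
        · exact Or.inl e
        · exact Or.inr (huniq d d₀ hd hxd e h1 h2 h3)
      · push Not at hex
        refine (Set.ncard_le_ncard (t := {1}) ?_ (Set.toFinite _)).trans (by rw [Set.ncard_singleton]; norm_num)
        rintro d ⟨hd, hxd, -⟩
        exact hex d hd hxd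
    refine lt_of_le_of_lt hle (lt_of_lt_of_le (show 2 < 3 by norm_num) ?_)
    obtain ⟨hd1, hd2⟩ := three_distinct
    set q := L.Ψ ⟨1, 0, 0, 1⟩ with hq
    have hq3 : q * (q * q) = 1 := by rw [hq, ← L.hmul, ← L.hmul, core_cube.1, L.Ψ_one]
    have hqN : q ∈ N := hCN (L.Ψ_comm_a _)
    have hq2 : q * q = L.Ψ ⟨2, 0, 0, 1⟩ := by
      rw [hq, ← L.hmul]; congr 1; decide +kernel
    have hne1 : q * i ≠ i * q := fun e => hd1 (L.inj (by rw [L.hmul, L.hmul]; exact e))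
    have hne2 : q * q * i ≠ i * (q * q) := fun e => hd2 (L.inj (by rw [L.hmul, L.hmul, ← hq2]; exact e))
    have hsub : ({i, q * i * q⁻¹, q * q * i * (q * q)⁻¹} : Set G) ⊆ {u | IsConj i u ∧ u ∈ N} := by
      have hiN' : i ∈ N := hCN (L.Ψ_comm_a i0)
      rintro _ (rfl | rfl | rfl)
      · exact ⟨IsConj.refl _, hiN'⟩
      · exact ⟨isConj_iff.2 ⟨q, rfl⟩, mul_mem (mul_mem hqN hiN') (inv_mem hqN)⟩
      · exact ⟨isConj_iff.2 ⟨q * q, rfl⟩, mul_mem (mul_mem (mul_mem hqN hqN) hiN') (inv_mem (mul_mem hqN hqN))⟩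
    refine le_trans ?_ (Set.ncard_le_ncard hsub (Set.toFinite _))
    have e1 : i ≠ q * i * q⁻¹ := fun e => hne1 (mul_inv_eq_iff_eq_mul.1 e.symm)
    have e2 : i ≠ q * q * i * (q * q)⁻¹ := fun e => hne2 (mul_inv_eq_iff_eq_mul.1 e.symm)
    have e3 : q * i * q⁻¹ ≠ q * q * i * (q * q)⁻¹ := fun e => e1 (by
      calc i = q⁻¹ * (q * i * q⁻¹) * q := by group
        _ = q⁻¹ * (q * q * i * (q * q)⁻¹) * q := by rw [e]
        _ = _ := by group)
    rw [Set.ncard_eq_three.2 ⟨_, _, _, e1, e2, e3, rfl⟩]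

end Loc

end Cfsg.Lib.SpCentre
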