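import Cfsg.Agent.LocalThree.SpCentre.TwoPoint
import Cfsg.Agent.LocalThree.FourNine.Main

/-!
The full monomial group: a complement in the normaliser of the abelian subgroup, and the centralisers
of the vectors of weight two.
-/

set_option autoImplicit false
set_option maxRecDepth 8000
set_option linter.unusedSectionVars false
set_option synthInstance.maxSize 2000

namespace Cfsg.Lib.SpCentre

open Subgroup Cfsg.Lib.HeisSL Cfsg.Lib.AmalgamSpFour
open scoped MatrixGroups

universe u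

/-- the sign change of all coordinates -/
def negW : Op := dg (-1, -1, -1)

theorem negW_facts : negW ∈ M48 ∧ idW ∈ M48 ∧ cmp negW negW = idW ∧ (∀ v : V, app negW v = -v) ∧
    (∀ v : V, -v + -v = v) ∧ (∀ v : V, -v = v → v = 0) := by decide +kernel

theorem M48_comm_b : (M48.all fun w => decide (cmp w negW = cmp negW w) &&
    M48.any fun w' => decide (cmp w w' = idW) && decide (cmp w' w = idW)) = true := by decide +kernel

theorem M48_comm {w : Op} (hw : w ∈ M48) : cmp w negW = cmp negW w :=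
  of_decide_eq_true ((Bool.and_eq_true _ _).mp (List.all_eq_true.1 M48_comm_b w hw)).1

/-- The full monomial group is induced. -/
structure Full (G : Type u) [Group G] extends Loc G where
  full : ∀ w ∈ M48, ∃ g, toLoc.toData.Acts g w
  i₀ : G
  i₀_acts : toLoc.toData.Acts i₀ negW

namespace Full

variable {G : Type u} [Group G] [Finite G]

theorem exists_full (L : Loc G) (h : ∀ w, L.Ind w ↔ w ∈ M48) : ∃ E : Full G, E.toLoc = L :=
  let ⟨g, hg⟩ := (h negW).2 negW_facts.1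
  ⟨⟨L, fun w hw => (h w).2 hw, g, hg⟩, rfl⟩

variable (E : Full G)

theorem i₀_sq : E.i₀ * E.i₀ = 1 := by
  have h := E.i₀_acts.mul E.i₀_acts
  rw [negW_facts.2.2.1] at h
  obtain ⟨v, hv⟩ := h.mem_J
  have hc : E.i₀ * E.ι v = E.ι v * E.i₀ := by rw [hv, mul_assoc]
  have h1 := (E.i₀_acts.fix_iff v).1 hc
  rw [negW_facts.2.2.2.1] at h1
  rw [← hv, negW_facts.2.2.2.2.2 v h1, E.ι_zero]

theorem exists_lift {w : Op} (hw : w ∈ M48) : ∃ g, E.Acts g w ∧ g * E.i₀ = E.i₀ * g := by
  obtain ⟨n, hn⟩ := E.full w hw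
  obtain ⟨u, hu⟩ : ∃ u, E.ι u = E.i₀⁻¹ * (n * E.i₀ * n⁻¹) := by
    have h1 : E.Acts (n * E.i₀ * n⁻¹) negW := fun v => by
      obtain ⟨w', hw', e⟩ := List.any_eq_true.1 ((Bool.and_eq_true _ _).mp (List.all_eq_true.1 M48_comm_b w hw)).2
      simp only [Bool.and_eq_true, decide_eq_true_eq] at e
      have hinv : n⁻¹ * E.ι v * n = E.ι (app w' v) := by
        have h := hn (app w' v)
        rw [← app_cmp, e.1, app_id] at h
        rw [← h]; group
      calc n * E.i₀ * n⁻¹ * E.ι v * (n * E.i₀ * n⁻¹)⁻¹ = n * (E.i₀ * (n⁻¹ * E.ι v * n) * E.i₀⁻¹) * n⁻¹ := by group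
        _ = _ := by
          rw [hinv, E.i₀_acts, hn, ← app_cmp, ← app_cmp, M48_comm hw, cmp_assoc, e.1, (cmp_id _).1]
    exact E.toLoc.same_acts E.i₀_acts h1
  refine ⟨E.ι (-u) * n, ?_, ?_⟩
  · have := (Data.acts_ι (D := E.toData) (-u)).mul hn
    rwa [(cmp_id _).2] at this
  · have e1 : n * E.i₀ * n⁻¹ = E.i₀ * E.ι u := by rw [hu, mul_inv_cancel_left]
    have e2 : E.ι (-u) * E.i₀ = E.i₀ * E.ι u := by
      have h := E.i₀_acts u
      rw [negW_facts.2.2.2.1] at h
      rw [← h, inv_mul_cancel_right]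
    calc E.ι (-u) * n * E.i₀ = E.ι (-u) * (n * E.i₀ * n⁻¹) * n := by group
      _ = E.ι (-u) * E.i₀ * E.ι u * n := by rw [e1]; group
      _ = E.i₀ * (E.ι u * E.ι u) * n := by rw [e2]; group
      _ = E.i₀ * (E.ι (-u) * n) := by
        rw [← E.ι_add, show u + u = -u by
          have h := negW_facts.2.2.2.2.1 (-u)
          rwa [neg_neg] at h]
        rw [mul_assoc]

open Classical in
/-- the lift -/
noncomputable def σ (w : Op) : G := if h : w ∈ M48 then (E.exists_lift h).choose else 1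

theorem σ_acts {w : Op} (hw : w ∈ M48) : E.Acts (E.σ w) w := by
  rw [σ, dif_pos hw]; exact (E.exists_lift hw).choose_spec.1

theorem σ_comm {w : Op} (hw : w ∈ M48) : E.σ w * E.i₀ = E.i₀ * E.σ w := by
  rw [σ, dif_pos hw]; exact (E.exists_lift hw).choose_spec.2

theorem σ_unique {w : Op} (hw : w ∈ M48) {g : G} (hg : E.Acts g w) (hc : g * E.i₀ = E.i₀ * g) : g = E.σ w := by
  obtain ⟨v, hv⟩ := E.toLoc.same_acts (E.σ_acts hw) hg
  have h1 : Commute ((E.σ w)⁻¹ * g) E.i₀ := (show Commute (E.σ w) E.i₀ from E.σ_comm hw).inv_left.mul_left hc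
  rw [show (E.σ w)⁻¹ * g = E.ι v from hv.symm] at h1
  have h2 := (E.i₀_acts.fix_iff v).1 h1.eq.symm
  rw [negW_facts.2.2.2.1] at h2
  rw [negW_facts.2.2.2.2.2 v h2, show E.toData.ι 0 = 1 from E.ι_zero] at hv
  exact (inv_mul_eq_one.1 hv.symm).symm

include E in
theorem cmp_mem {w w' : Op} (hw : w ∈ M48) (hw' : w' ∈ M48) : cmp w w' ∈ M48 :=
  E.mono _ _ ((E.σ_acts hw).mul (E.σ_acts hw'))

theorem σ_mul {w w' : Op} (hw : w ∈ M48) (hw' : w' ∈ M48) : E.σ w * E.σ w' = E.σ (cmp w w') :=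
  E.σ_unique (E.cmp_mem hw hw') ((E.σ_acts hw).mul (E.σ_acts hw'))
    (((show Commute _ E.i₀ from E.σ_comm hw).mul_left (E.σ_comm hw')).eq)

theorem σ_id : E.σ idW = 1 := (E.σ_unique negW_facts.2.1 Data.acts_one (by group)).symm

theorem σ_inv {w w' : Op} (hw : w ∈ M48) (hw' : w' ∈ M48) (h : cmp w w' = idW) : (E.σ w)⁻¹ = E.σ w' :=
  inv_eq_of_mul_eq_one_right (by rw [E.σ_mul hw hw', h, E.σ_id])

theorem σ_sq {w : Op} (hw : w ∈ M48) (h : cmp w w = idW) : E.σ w * E.σ w = 1 := by rw [E.σ_mul hw hw, h, E.σ_id]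

theorem σ_conj {w : Op} (hw : w ∈ M48) (v : V) : E.σ w * E.ι v = E.ι (app w v) * E.σ w :=
  (E.σ_acts hw).conj_comm v

theorem σ_inj {w w' : Op} (hw : w ∈ M48) (hw' : w' ∈ M48) (h : E.σ w = E.σ w') : w = w' :=
  Data.Acts.unique (E.σ_acts hw) (h ▸ E.σ_acts hw')

end Full

/-! ### The centralisers of the vectors of weight two -/

open Cfsg.Lib.FourNine in
/-- the decoding of a permutation of three points -/
def dec3 (a : Equiv.Perm (Fin 3)) : ZMod 3 × Bool :=
  if a = 1 then (0, false) else if a = cy then (1, false) else if a = cy * cy then (2, false)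
  else if a = tr then (0, true) else if a = cy * tr then (1, true) else (2, true)

/-- the first sign change -/
def e1W : Op := dg (-1, 1, 1)

/-- the vector of a pair -/
def vec36 (x : FourNine.Pr3) : V := ((dec3 x.1).1, (dec3 x.2).1, -(dec3 x.2).1)

/-- the map of a pair -/
def op36 (x : FourNine.Pr3) : Op := cmp (if (dec3 x.1).2 then e1W else idW) (if (dec3 x.2).2 then sW else idW)

theorem op36_facts : ∀ x : FourNine.Pr3, op36 x ∈ M48 ∧ app (op36 x) (0, 1, 1) = (0, 1, 1) ∧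
    (op36 x = idW → FourNine.Cube x) ∧ (FourNine.Cube x → op36 x = idW) ∧
    (op36 x = idW → ∀ k : ZMod 3, vec36 x = sm k (0, 1, 1) → x = 1) := by decide +kernel

theorem op36_hom : ∀ x y : FourNine.Pr3, vec36 (x * y) = vec36 x + app (op36 x) (vec36 y) ∧
    op36 (x * y) = cmp (op36 x) (op36 y) := by decide +kernel

theorem op36_gen_b : (M48.all fun w => !decide (app w (0, 1, 1) = (0, 1, 1)) ||
    decide (w = idW) || decide (w = e1W) || decide (w = sW) || decide (w = cmp e1W sW)) = true := by decide +kernel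

theorem op36_real : ∀ w ∈ [idW, e1W, sW, cmp e1W sW], ∃ x : FourNine.Pr3, op36 x = w ∧ vec36 x = 0 := by decide +kernel

theorem op36_split : ∀ v : V, ∃ k : ZMod 3, ∃ x : FourNine.Pr3, op36 x = idW ∧ vec36 x + sm k (0, 1, 1) = v := by
  decide +kernel

theorem weight_two_b : (allV.all fun u => !decide (wt u = 2) ||
    M48.any fun w => decide (app w u = (0, 1, 1))) = true := by decide +kernel

theorem wt_ne : ((0, 1, 1) : V) ≠ 0 := by decide +kernel

namespace Full

variable {G : Type u} [Group G] [Finite G] (E : Full G)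

theorem cent_v2 {g : G} (hg : g * E.ι (0, 1, 1) = E.ι (0, 1, 1) * g) : g ∈ normalizer (E.J : Set G) := by
  classical
  have hstab : ∀ w ∈ M48, app w (0, 1, 1) = (0, 1, 1) → w ∈ [idW, e1W, sW, cmp e1W sW] := by
    intro w hw e
    have h := List.all_eq_true.1 op36_gen_b w hw
    simpa [e, or_assoc] using h
  have hcube : ∀ w ∈ [idW, e1W, sW, cmp e1W sW], cmp w (cmp w w) = idW → w = idW := by decide +kernel
  obtain ⟨D⟩ := (E.toLoc.ctx).exists_pointData (v := E.ι (0, 1, 1)) (E.mem_J _) (E.ι_ne_one wt_ne) (fun x hx hxv hx3 => by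
    obtain ⟨w, hw, hxw⟩ := E.toLoc.exists_acts hx
    rw [hcube w (hstab w hw ((hxw.fix_iff _).1 hxv)) (E.toLoc.cube_mem hxw hx3)] at hxw
    exact hxw.mem_J)
  have hmem : ∀ x : FourNine.Pr3, E.ι (vec36 x) * E.σ (op36 x) ∈ centralizer ({E.ι (0, 1, 1)} : Set G) := fun x =>
    mem_centralizer_singleton_iff.2 (by
      rw [mul_assoc, E.σ_conj (op36_facts x).1, (op36_facts x).2.1, ← mul_assoc, E.ι_comm, mul_assoc])
  let φ : FourNine.Pr3 →* D.M := D.π.comp (MonoidHom.mk' (fun x => (⟨_, hmem x⟩ : centralizer ({E.ι (0, 1, 1)} : Set G)))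
    fun x y => Subtype.ext (by
      show E.ι (vec36 (x * y)) * E.σ (op36 (x * y)) = E.ι (vec36 x) * E.σ (op36 x) * (E.ι (vec36 y) * E.σ (op36 y))
      rw [(op36_hom x y).1, (op36_hom x y).2, ← E.σ_mul (op36_facts x).1 (op36_facts y).1, E.ι_add]
      have e := E.σ_conj (op36_facts x).1 (vec36 y)
      calc _ = E.ι (vec36 x) * (E.ι (app (op36 x) (vec36 y)) * E.σ (op36 x)) * E.σ (op36 y) := by group
        _ = _ := by rw [← e]; group))
  have hJ : ∀ x, E.ι (vec36 x) * E.σ (op36 x) ∈ E.J ↔ op36 x = idW := by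
    intro x
    constructor
    · rintro ⟨v, hv⟩
      exact (Data.Acts.unique (E.σ_acts (op36_facts x).1) (fun u => by
        rw [app_id, show E.σ (op36 x) = (E.ι (vec36 x))⁻¹ * E.ι v from (inv_mul_eq_iff_eq_mul.2 hv).symm,
          ← E.ι_neg, ← E.ι_add, E.ι_conj]))
    · intro e
      rw [e, E.σ_id, mul_one]
      exact E.mem_J _
  have hinj : Function.Injective φ := (injective_iff_map_eq_one φ).2 fun x hx => by
    have hk : E.ι (vec36 x) * E.σ (op36 x) ∈ zpowers (E.ι (0, 1, 1)) := (D.ker _).1 hx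
    have hop : op36 x = idW := (hJ x).1 (zpowers_le.2 (E.mem_J _) hk)
    rw [hop, E.σ_id, mul_one] at hk
    obtain ⟨k, hk'⟩ := E.toLoc.zpow_mem hk
    exact (op36_facts x).2.2.2.2 hop k (E.ι_inj hk')
  have hrange : ∀ y : centralizer ({E.ι (0, 1, 1)} : Set G), (y : G) ∈ normalizer (E.J : Set G) → D.π y ∈ φ.range := by
    intro y hy
    obtain ⟨w, hw, hyw⟩ := E.toLoc.exists_acts hy
    obtain ⟨x₀, hx₀, hx₀v⟩ := op36_real w (hstab w hw ((hyw.fix_iff _).1 (mem_centralizer_singleton_iff.1 y.2)))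
    obtain ⟨v, hv⟩ := E.toLoc.same_acts (E.σ_acts hw) hyw
    obtain ⟨k, x, hx, hxv⟩ := op36_split (app w v)
    refine ⟨x * x₀, ?_⟩
    rw [map_mul]
    show D.π ⟨_, hmem x⟩ * D.π ⟨_, hmem x₀⟩ = D.π y
    rw [← map_mul, ← inv_mul_eq_one, ← map_inv, ← map_mul]
    refine (D.ker _).2 ?_
    show (E.ι (vec36 x) * E.σ (op36 x) * (E.ι (vec36 x₀) * E.σ (op36 x₀)))⁻¹ * (y : G) ∈ zpowers (E.ι (0, 1, 1))
    rw [hx, hx₀, hx₀v, E.σ_id, E.ι_zero, mul_one, one_mul]
    have e : (y : G) = E.ι (app w v) * E.σ w := by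
      rw [← E.σ_conj hw, show E.toData.ι v = (E.σ w)⁻¹ * (y : G) from hv, mul_inv_cancel_left]
    rw [e, ← hxv, E.ι_add, show (E.ι (vec36 x) * E.σ w)⁻¹ * (E.ι (vec36 x) * E.ι (sm k (0, 1, 1)) * E.σ w) =
      (E.σ w)⁻¹ * (E.ι (sm k (0, 1, 1)) * E.σ w) by group]
    have e3 : app w (sm k (0, 1, 1)) = sm k (0, 1, 1) := by
      rw [app_smul', (hyw.fix_iff _).1 (mem_centralizer_singleton_iff.1 y.2)]
    rw [← e3, ← E.σ_conj hw, inv_mul_cancel_left]
    exact E.toLoc.sm_mem _ k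
  let S : FourNine.Local D.M := {
    φ := φ
    inj := hinj
    P := D.P
    memP := fun x => by
      rw [show φ x = D.π ⟨_, hmem x⟩ from rfl, D.memP]
      exact ((hJ x).trans ⟨(op36_facts x).2.2.1, (op36_facts x).2.2.2.1⟩)
    le := fun q hq => by
      obtain ⟨y, rfl⟩ := D.surj q
      exact hrange y (Subgroup.le_normalizer ((D.memP y).1 hq))
    norm := fun q hq => by
      obtain ⟨y, rfl⟩ := D.surj q
      exact hrange y ((D.memN y).1 hq)
    cent := fun p hp hp1 q hq => by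
      obtain ⟨y, rfl⟩ := D.surj q
      exact hrange y ((D.memN y).1 (D.cent p hp hp1 hq))
    core := D.core }
  exact (D.memN ⟨g, mem_centralizer_singleton_iff.2 hg⟩).1 (by
    have h := S.main
    rw [show S.P = D.P from rfl] at h
    rw [h]; exact mem_top _)

theorem cent_two {u : V} (hu : wt u = 2) {g : G} (hg : g * E.ι u = E.ι u * g) : g ∈ normalizer (E.J : Set G) := by
  have h := List.all_eq_true.1 weight_two_b u (allV_mem u)
  simp only [hu, decide_true, Bool.not_true, Bool.false_or] at h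
  obtain ⟨w, hw, e⟩ := List.any_eq_true.1 h
  have hN : E.σ w ∈ normalizer (E.J : Set G) := (E.σ_acts hw).mem_N
  have h1 := E.cent_v2 (g := E.σ w * g * (E.σ w)⁻¹) (by
    rw [← of_decide_eq_true e, ← E.σ_acts hw u]
    calc _ = E.σ w * (g * E.ι u) * (E.σ w)⁻¹ := by group
      _ = _ := by rw [hg]; group)
  have := mul_mem (mul_mem (inv_mem hN) h1) hN
  simpa [mul_assoc] using this

end Full

end Cfsg.Lib.SpCentre
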