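import Cfsg.Agent.Recognition.HeisSL.Model
import Cfsg.Agent.AmalgamSpFour.Model

/-!
The abelian subgroups of order `27` of the centraliser model, in coordinates adapted to the
permutation action of their stabiliser.
-/

set_option autoImplicit false
set_option maxRecDepth 8000

namespace Cfsg.Lib.SpCentre

open Cfsg.Lib.HeisSL Cfsg.Lib.AmalgamSpFour
open scoped MatrixGroups

/-- coordinates of a point -/
def mdlEquiv : Mdl ≃ ZMod 3 × ZMod 3 × ZMod 3 × SL(2, ZMod 3) where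
  toFun m := (m.i, m.j, m.z, m.A)
  invFun p := ⟨p.1, p.2.1, p.2.2.1, p.2.2.2⟩
  left_inv _ := rfl
  right_inv _ := rfl

instance : DecidableEq Mdl := fun m n => decidable_of_iff (mdlEquiv m = mdlEquiv n) mdlEquiv.injective.eq_iff

instance : Fintype Mdl := Fintype.ofEquiv _ mdlEquiv.symm

/-- upper unitriangular -/
def uni (k : ZMod 3) : SL(2, ZMod 3) := ⟨!![1, k; 0, 1], by simp [Matrix.det_fin_two]⟩

/-- the standard abelian subgroup in permutation coordinates -/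
def mv (v : V) : Mdl :=
  ⟨2 * v.2.1 + v.2.2, 0, 2 * v.2.1 + 2 * v.2.2, uni (v.1 + v.2.1 + v.2.2)⟩

/-- the unit -/
def e0 : Mdl := ⟨0, 0, 0, 1⟩

/-- representatives of the four conjugates -/
def reps : List Mdl :=
  e0 :: ([0, 1, 2] : List (ZMod 3)).map fun k => ⟨0, 0, 0, uni k * ⟨!![0, 1; 2, 0], by decide +kernel⟩⟩

/-- the change of sign of the centre, preserving the standard subgroup -/
def flip (m : Mdl) : Mdl :=
  ⟨-m.i, m.j, -m.z, ⟨!![m.A.1 0 0, -m.A.1 0 1; -m.A.1 1 0, m.A.1 1 1], by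
    have h := m.A.2
    rw [Matrix.det_fin_two] at h ⊢
    simp only [Matrix.of_apply, Matrix.cons_val_zero, Matrix.cons_val_one, Matrix.cons_val']
    simpa using h⟩⟩

theorem flipA_mul : ∀ A B : SL(2, ZMod 3),
    (flip ⟨0, 0, 0, A * B⟩).A = (flip ⟨0, 0, 0, A⟩).A * (flip ⟨0, 0, 0, B⟩).A := by decide +kernel

theorem flip_flip (m : Mdl) : flip (flip m) = m := by
  apply Mdl.ext <;> try simp [flip]
  ext a b; fin_cases a <;> fin_cases b <;> simp [flip]

theorem flip_mul (m n : Mdl) : flip (m * n) = flip m * flip n := by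
  apply Mdl.ext
  · simp [flip]; ring
  · simp [flip]
  · simp [flip]; ring
  · exact flipA_mul m.A n.A

theorem mv_add : ∀ v w : V, mv (v + w) = mv v * mv w := by decide +kernel

theorem mv_inj : ∀ v w : V, mv v = mv w → v = w := by decide +kernel

theorem mv_zero : mv 0 = e0 ∧ mv (1, 1, 1) = ⟨0, 0, 1, 1⟩ ∧
    ∀ v : V, (∃ w : V, flip (mv v) = mv w) := by decide +kernel

theorem cube_cover : ∀ x : Mdl, x * (x * x) = e0 → ∃ h ∈ reps, ∃ v : V, x * h = h * mv v := by decide +kernel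

theorem comm_cube : ∀ v : V, csum v ≠ 0 → ∀ y : Mdl, y * mv v = mv v * y → y * (y * y) = e0 →
    ∃ w : V, y = mv w := by decide +kernel

theorem reps_fix : ∀ h ∈ reps, ∀ x : Mdl, x.A = 1 → ∃ y : Mdl, y.A = 1 ∧ x * h = h * y := by decide +kernel

theorem mv_csum : ∀ v : V, (mv v).A = 1 ↔ csum v = 0 := by decide +kernel

theorem stab_perm : ∀ g : Mdl, (∃ w : V, g * mv (1, 0, 0) = mv w * g) → (∃ w : V, g * mv (0, 1, 0) = mv w * g) →
    ∃ p ∈ perms, ∀ v : V, g * mv v = mv (app p v) * g := by decide +kernel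

theorem perm_real : ∀ p ∈ perms, ∃ g : Mdl, ∀ v : V, g * mv v = mv (app p v) * g := by decide +kernel

theorem centre_mv : ∀ z : ZMod 3, (⟨0, 0, z, 1⟩ : Mdl) = mv (z, z, z) := by decide +kernel

theorem self_cent : ∀ m : Mdl, m * mv (1, 0, 0) = mv (1, 0, 0) * m → m * mv (0, 1, 0) = mv (0, 1, 0) * m →
    m * mv (0, 0, 1) = mv (0, 0, 1) * m → ∃ v : V, m = mv v := by decide +kernel

theorem centre_cube : ∀ m : Mdl, m * ⟨1, 0, 0, 1⟩ = ⟨1, 0, 0, 1⟩ * m → m * ⟨0, 1, 0, 1⟩ = ⟨0, 1, 0, 1⟩ * m →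
    m * (m * m) = e0 → m ≠ e0 → m = mv (1, 1, 1) ∨ m = flip (mv (1, 1, 1)) := by decide +kernel

theorem mul_one' : e0 * e0 = e0 ∧ (∀ h ∈ reps, ∃ h' : Mdl, h' * h = e0) ∧ mv (0 : V) = e0 := by decide +kernel

end Cfsg.Lib.SpCentre
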