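import Cfsg.Agent.LocalThree.SpCentre.Lifts
import Cfsg.Agent.LocalThree.SpCentre.KTwo

/-!
The involutions conjugate to the lift of a sign change of one coordinate.
-/

set_option autoImplicit false
set_option maxRecDepth 8000
set_option linter.unusedSectionVars false
set_option synthInstance.maxSize 2000

namespace Cfsg.Lib.SpCentre

open Subgroup Cfsg.Lib.HeisSL Cfsg.Lib.AmalgamSpFour
open scoped MatrixGroups

universe u

/-- the three sign changes of one coordinate -/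
def eps : List Op := [dg (-1, 1, 1), dg (1, -1, 1), dg (1, 1, -1)]

/-- vectors of weight `k` fixed -/
def fixesWt (k : ℕ) (x : Op) : Bool := allV.any fun v => decide (wt v = k) && decide (app x v = v)

theorem wt_inv_b : (M48.all fun x => allV.all fun v => decide (wt (app x v) = wt v)) = true := by decide +kernel

theorem wt_inv {x : Op} (hx : x ∈ M48) (v : V) : wt (app x v) = wt v :=
  of_decide_eq_true (List.all_eq_true.1 (List.all_eq_true.1 wt_inv_b x hx) v (allV_mem v))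

theorem plane_moves_b : (allV.all fun w => !decide (w.1 = 0) || !decide (wt w = 2) ||
    M48.any fun x => decide (app x (0, 1, 1) = w)) = true := by decide +kernel

theorem e1W_mem : e1W ∈ M48 ∧ cmp e1W e1W = idW ∧ (∀ v : V, app e1W v = v ↔ v.1 = 0) ∧ (∀ v : V, v.1 = 0 → wt v ≠ 3) ∧
    Fintype.card {v : V // v.1 = 0} = 9 := by decide +kernel

theorem plane_cube_b : (M48.all fun x => !decide (cmp x (cmp x x) = idW) || !decide (cmp x e1W = cmp e1W x) ||
    decide (x = idW)) = true := by decide +kernel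

theorem stab_cube_b : (M48.all fun x => allV.all fun v => !decide (cmp x (cmp x x) = idW) || !decide (app x v = v) ||
    decide (wt v = 3) || decide (v = 0) || decide (x = idW)) = true := by decide +kernel

theorem eps_fix_b : (M48.all fun x => fixesWt 3 x || decide ((allV.filter fun v => decide (app x v = v)).length < 9) ||
    eps.elem x) = true := by decide +kernel

theorem eps_facts : (∀ x ∈ eps, x ∈ M48 ∧ cmp x x = idW ∧ app x vZ ≠ -vZ) ∧
    ∀ v : V, csum v = 0 → v ≠ 0 → v ≠ vZ → v ≠ -vZ → wt v = 2 := by decide +kernel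

theorem invol_types_b : (M48.all fun x => !decide (cmp x x = idW) || eps.elem x || fixesWt 3 x || fixesWt 2 x ||
    fixesWt 1 x || decide (app x vZ = -vZ)) = true := by decide +kernel

theorem wt3_moves_b : (allV.all fun v => !decide (wt v = 3) || M48.any fun x => decide (app x v = vZ)) = true := by
  decide +kernel

namespace Full

variable {G : Type u} [Group G] [Finite G] (E : Full G)

/-- the lift of the first sign change -/
noncomputable def t : G := E.σ e1W

theorem t_sq : E.t * E.t = 1 := E.σ_sq e1W_mem.1 e1W_mem.2.1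

theorem t_fix (v : V) : E.ι v * E.t = E.t * E.ι v ↔ v.1 = 0 :=
  ⟨fun h => (e1W_mem.2.2.1 v).1 (((E.σ_acts e1W_mem.1).fix_iff v).1 h.symm),
    fun h => (((E.σ_acts e1W_mem.1).fix_iff v).2 ((e1W_mem.2.2.1 v).2 h)).symm⟩

theorem t_inv_three {g : G} (hg : g ∈ normalizer (E.J : Set G)) (hgt : g * E.t = E.t * g) {k : ℕ}
    (hk : g ^ 3 ^ k = 1) : ∃ w : V, w.1 = 0 ∧ E.ι w = g := by
  obtain ⟨x, hx, hgx⟩ := E.toLoc.exists_acts hg
  have hcub := E.toLoc.cube_mem hgx (E.toLoc.cube_of_three hg hk)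
  have hc : cmp x e1W = cmp e1W x := Data.Acts.unique (hgx.mul (E.σ_acts e1W_mem.1)) (by
    show E.Acts (g * E.t) _
    rw [hgt]; exact (E.σ_acts e1W_mem.1).mul hgx)
  have h := List.all_eq_true.1 plane_cube_b x hx
  simp only [hcub, hc, decide_true, Bool.not_true, Bool.false_or, decide_eq_true_eq] at h
  subst h
  obtain ⟨w, hw⟩ := hgx.mem_J
  exact ⟨w, (E.t_fix w).1 (hw ▸ hgt), hw⟩

/-- the centraliser of `t` -/
noncomputable def Ct : Subgroup G := centralizer ({E.t} : Set G)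

theorem mem_Ct {g : G} : g ∈ E.Ct ↔ g * E.t = E.t * g := mem_centralizer_singleton_iff

/-- the fixed plane, inside the centraliser -/
noncomputable def plane : Subgroup E.Ct where
  carrier := {x | ∃ v : V, v.1 = 0 ∧ E.ι v = x}
  one_mem' := ⟨0, rfl, E.ι_zero⟩
  mul_mem' := by
    rintro x y ⟨v, hv, hx⟩ ⟨w, hw, hy⟩
    exact ⟨v + w, by simp [hv, hw], by rw [E.ι_add, hx, hy]; rfl⟩
  inv_mem' := by
    rintro x ⟨v, hv, hx⟩
    exact ⟨-v, by simp [hv], by rw [E.ι_neg, hx]; rfl⟩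

theorem plane_mem {v : V} (hv : v.1 = 0) : E.ι v ∈ E.Ct := E.mem_Ct.2 ((E.t_fix v).2 hv)

theorem card_plane : Nat.card E.plane = 9 := by
  rw [← Nat.card_eq_of_bijective (fun v : {v : V // v.1 = 0} => (⟨⟨E.ι v.1, E.plane_mem v.2⟩, v.1, v.2, rfl⟩ : E.plane))
    ⟨fun v w e => Subtype.ext (E.ι_inj (congrArg (fun x : E.plane => ((x : E.Ct) : G)) e)),
      fun ⟨_, v, hv, hx⟩ => ⟨⟨v, hv⟩, Subtype.ext (Subtype.ext hx)⟩⟩, Nat.card_eq_fintype_card, e1W_mem.2.2.2.2]

theorem plane_norm {g : E.Ct} (hg : g ∈ normalizer (E.plane : Set E.Ct)) : (g : G) ∈ normalizer (E.J : Set G) := by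
  obtain ⟨w, hw, he⟩ := (mem_normalizer_iff.1 hg ⟨E.ι (0, 1, 1), E.plane_mem rfl⟩).1 ⟨_, rfl, rfl⟩
  replace he : E.ι w = (g : G) * E.ι (0, 1, 1) * (g : G)⁻¹ := he
  obtain ⟨_, x, hx, -, hxw⟩ := E.toLoc.fusion he.symm
  have hwt : wt w = 2 := by rw [← hxw, wt_inv hx]; rfl
  have h := List.all_eq_true.1 plane_moves_b w (allV_mem w)
  simp only [hw, hwt, decide_true, Bool.not_true, Bool.false_or, List.any_eq_true, decide_eq_true_eq] at h
  obtain ⟨y, hy, hye⟩ := h
  have hN := (E.σ_acts hy).mem_N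
  have h1 := E.cent_v2 (g := (E.σ y)⁻¹ * g) (by
    refine mul_inv_eq_iff_eq_mul.1 ?_
    calc (E.σ y)⁻¹ * (g : G) * E.ι (0, 1, 1) * ((E.σ y)⁻¹ * (g : G))⁻¹
        = (E.σ y)⁻¹ * ((g : G) * E.ι (0, 1, 1) * (g : G)⁻¹) * E.σ y := by group
      _ = E.ι (0, 1, 1) := by rw [← he, ← hye, ← E.σ_acts hy]; group)
  have := mul_mem hN h1
  rwa [mul_inv_cancel_left] at this

theorem plane_sylow : ∃ P : Sylow 3 E.Ct, (P : Subgroup E.Ct) = E.plane :=
  Cfsg.Lib.SymNineLocal.sylow_of_absorb E.plane (IsPGroup.of_card (n := 2) (by rw [E.card_plane]; norm_num))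
    fun g hg k hk => E.t_inv_three (E.plane_norm hg) (E.mem_Ct.1 g.2)
      (k := k) (by rw [← SubmonoidClass.coe_pow, hk]; rfl)

/-- Elements of order three commuting with `t` are conjugate into the plane. -/
theorem plane_conj {y : G} (hy : y * E.t = E.t * y) (h3 : y * (y * y) = 1) :
    ∃ l w, l * E.t = E.t * l ∧ w.1 = 0 ∧ l * y * l⁻¹ = E.ι w := by
  classical
  have : Fact (Nat.Prime 3) := ⟨Nat.prime_three⟩
  obtain ⟨P, hP⟩ := E.plane_sylow
  have hp : IsPGroup 3 (zpowers (⟨y, E.mem_Ct.2 hy⟩ : E.Ct)) := fun q => by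
    refine ⟨1, Subtype.ext ?_⟩
    obtain ⟨k, hk⟩ := mem_zpowers_iff.1 q.2
    rw [SubmonoidClass.coe_pow, ← hk, pow_one, ← zpow_natCast, ← zpow_mul, mul_comm, zpow_mul, zpow_natCast,
      show (⟨y, E.mem_Ct.2 hy⟩ : E.Ct) ^ 3 = 1 from Subtype.ext (by rw [SubmonoidClass.coe_pow, pow_three, h3]; rfl),
      one_zpow, OneMemClass.coe_one]
  obtain ⟨Q, hQ⟩ := hp.exists_le_sylow
  obtain ⟨l, hl⟩ := MulAction.exists_smul_eq E.Ct Q P
  have hm : l * ⟨y, E.mem_Ct.2 hy⟩ * l⁻¹ ∈ E.plane := by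
    rw [← hP, ← hl, Sylow.coe_subgroup_smul]
    exact Subgroup.smul_mem_pointwise_smul _ (MulAut.conj l) _ (hQ (mem_zpowers _))
  obtain ⟨w, hw, he⟩ := hm
  exact ⟨l, w, E.mem_Ct.1 l.2, hw, he.symm⟩

theorem conj_plane {j : G} (hj : IsConj E.t j) {v : V} (hv : j * E.ι v = E.ι v * j) :
    ∃ h w, h * j * h⁻¹ = E.t ∧ w.1 = 0 ∧ h * E.ι v * h⁻¹ = E.ι w := by
  obtain ⟨c, hc⟩ := isConj_iff.1 hj
  have hcj : c⁻¹ * j * c = E.t := by rw [← hc]; group
  obtain ⟨l, w, hl, hw, he⟩ := E.plane_conj (y := c⁻¹ * E.ι v * c) (by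
      rw [← hcj]
      calc c⁻¹ * E.ι v * c * (c⁻¹ * j * c) = c⁻¹ * (E.ι v * j) * c := by group
        _ = _ := by rw [← hv]; group)
    (by
      calc _ = c⁻¹ * (E.ι v * (E.ι v * E.ι v)) * c := by group
        _ = 1 := by rw [E.ι_cube]; group)
  refine ⟨l * c⁻¹, w, ?_, hw, by rw [← he]; group⟩
  calc l * c⁻¹ * j * (l * c⁻¹)⁻¹ = l * (c⁻¹ * j * c) * l⁻¹ := by group
    _ = E.t := by rw [hcj, hl, mul_inv_cancel_right]

/-- A conjugate of `t` commutes with no vector of weight three. -/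
theorem no_wt_three {j : G} (hj : IsConj E.t j) {v : V} (hv : wt v = 3) : j * E.ι v ≠ E.ι v * j := by
  intro h
  obtain ⟨g, w, -, hw, he⟩ := E.conj_plane hj h
  obtain ⟨_, x, hx, -, hxw⟩ := E.toLoc.fusion he
  exact e1W_mem.2.2.2.1 w hw (by rw [← hxw, wt_inv hx, hv])

/-- A conjugate of `t` commuting with a vector whose centraliser normalises `J` acts as a sign change. -/
theorem refl_fix {j : G} (hj : IsConj E.t j) {v : V} (hv0 : v ≠ 0) (hjv : j * E.ι v = E.ι v * j)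
    (hC : ∀ g : G, g * E.ι v = E.ι v * g → g ∈ normalizer (E.J : Set G)) : ∃ x ∈ eps, E.Acts j x := by
  classical
  have hv3 : wt v ≠ 3 := fun e => E.no_wt_three hj e hjv
  obtain ⟨h, w, hh, hw, he⟩ := E.conj_plane hj hjv
  obtain ⟨x, hx, hjx⟩ := E.toLoc.exists_acts (hC j hjv)
  have hmap : ∀ u : {u : V // u.1 = 0}, ∃ u', app x u' = u' ∧ E.ι u' = h⁻¹ * E.ι u.1 * h := by
    intro u
    have hy3 : (h⁻¹ * E.ι u.1 * h) ^ 3 ^ 1 = 1 := by
      rw [pow_one, pow_three]
      calc _ = h⁻¹ * (E.ι u.1 * (E.ι u.1 * E.ι u.1)) * h := by group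
        _ = 1 := by rw [E.ι_cube]; group
    have hyv : h⁻¹ * E.ι u.1 * h * E.ι v = E.ι v * (h⁻¹ * E.ι u.1 * h) := by
      have e : E.ι v = h⁻¹ * E.ι w * h := by rw [← he]; group
      rw [e]
      calc h⁻¹ * E.ι u.1 * h * (h⁻¹ * E.ι w * h) = h⁻¹ * (E.ι u.1 * E.ι w) * h := by group
        _ = _ := by rw [E.ι_comm]; group
    have hyN := hC _ hyv
    obtain ⟨y, hy, hya⟩ := E.toLoc.exists_acts hyN
    have hcub := E.toLoc.cube_mem hya (E.toLoc.cube_of_three hyN hy3)
    have hb := List.all_eq_true.1 (List.all_eq_true.1 stab_cube_b y hy) v (allV_mem v)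
    simp only [hcub, (hya.fix_iff v).1 hyv, hv3, hv0, decide_true, decide_false, Bool.not_true, Bool.false_or,
      decide_eq_true_eq] at hb
    obtain ⟨u', hu'⟩ := (hb ▸ hya).mem_J
    refine ⟨u', (hjx.fix_iff u').1 ?_, hu'⟩
    have e : j = h⁻¹ * E.t * h := by rw [← hh]; group
    rw [show E.toData.ι u' = _ from hu', e]
    calc h⁻¹ * E.t * h * (h⁻¹ * E.ι u.1 * h) = h⁻¹ * (E.t * E.ι u.1) * h := by group
      _ = _ := by rw [← (E.t_fix u.1).2 u.2]; group
  choose f hf hf' using hmap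
  refine ⟨x, ?_, hjx⟩
  have hb := List.all_eq_true.1 eps_fix_b x hx
  simp only [Bool.or_eq_true, decide_eq_true_eq, List.elem_eq_mem] at hb
  rcases hb with (hb | hb) | hb
  · exfalso
    obtain ⟨v', -, e⟩ := List.any_eq_true.1 hb
    simp only [Bool.and_eq_true, decide_eq_true_eq] at e
    exact E.no_wt_three hj e.1 ((hjx.fix_iff v').2 e.2)
  · exfalso
    have hfi : Function.Injective f := fun a b e => Subtype.ext (E.ι_inj (by
      have h2 := (hf' a).symm.trans ((congrArg E.ι e).trans (hf' b))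
      exact mul_left_cancel (mul_right_cancel h2)))
    have h1 : (Finset.univ.image f).card ≤ ((allV.filter fun v => decide (app x v = v)).toFinset).card := by
      refine Finset.card_le_card fun u hu => ?_
      obtain ⟨a, -, rfl⟩ := Finset.mem_image.1 hu
      simp [allV_mem, hf a]
    rw [Finset.card_image_of_injective _ hfi, Finset.card_univ, e1W_mem.2.2.2.2] at h1
    have := List.toFinset_card_le (allV.filter fun v => decide (app x v = v))
    omega
  · exact hb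

/-- A conjugate of `t` inverts no vector of weight three. -/
theorem no_inv_three {j : G} (hj : IsConj E.t j) : j * E.ι vZ * j⁻¹ ≠ (E.ι vZ)⁻¹ := by
  intro h
  have hj2 : j * j = 1 := by
    obtain ⟨c, rfl⟩ := isConj_iff.1 hj
    calc c * E.t * c⁻¹ * (c * E.t * c⁻¹) = c * (E.t * E.t) * c⁻¹ := by group
      _ = 1 := by rw [E.t_sq]; group
  obtain ⟨k, v, hk, hv, hv0, hv1, hv2, hcomm⟩ := E.toLoc.outer_fix hj2 h
  have hwt := eps_facts.2 v hv hv0 hv1 hv2
  obtain ⟨x, hx, hjx⟩ := E.refl_fix (j := k⁻¹ * j * k) (hj.trans (isConj_iff.2 ⟨k⁻¹, by group⟩)) hv0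
    (by
      calc k⁻¹ * j * k * E.ι v = k⁻¹ * (j * (k * E.ι v * k⁻¹)) * k := by group
        _ = _ := by rw [hcomm]; group)
    (fun g hg => E.cent_two hwt hg)
  refine (eps_facts.1 x hx).2.2 (E.ι_inj ?_)
  rw [E.ι_neg, ← hjx vZ]
  calc k⁻¹ * j * k * E.ι vZ * (k⁻¹ * j * k)⁻¹ = k⁻¹ * j * (k * E.ι vZ * k⁻¹) * j⁻¹ * k := by group
    _ = k⁻¹ * (j * E.ι vZ * j⁻¹) * k := by rw [mul_inv_eq_iff_eq_mul.2 hk]; group
    _ = (E.ι vZ)⁻¹ := by
      rw [h]
      calc k⁻¹ * (E.ι vZ)⁻¹ * k = (k⁻¹ * (E.ι vZ * k))⁻¹ := by group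
        _ = _ := by rw [← hk, inv_mul_cancel_left]

/-- When the centraliser of the first basis vector normalises `J`, the conjugates of `t` among the lifts are the sign changes. -/
theorem lift_class (hN : ∀ g : G, g * E.ι (1, 0, 0) = E.ι (1, 0, 0) * g → g ∈ normalizer (E.J : Set G))
    {x : Op} (hx : x ∈ M48) (hx2 : cmp x x = idW) (hc : IsConj E.t (E.σ x)) : x ∈ eps := by
  have hxa := E.σ_acts hx
  have hN1 : ∀ v : V, wt v = 1 → ∀ g : G, g * E.ι v = E.ι v * g → g ∈ normalizer (E.J : Set G) := by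
    intro v hv g hg
    have key : ∀ v : V, wt v = 1 → ∃ y ∈ perms, app y v = (1, 0, 0) ∨ app y v = -(1, 0, 0) := by decide +kernel
    obtain ⟨y, hy, he⟩ := key v hv
    obtain ⟨n, hn⟩ := E.exists_perm hy
    have h1 : n * g * n⁻¹ * E.ι (app y v) = E.ι (app y v) * (n * g * n⁻¹) := by
      rw [← hn v]
      calc n * g * n⁻¹ * (n * E.ι v * n⁻¹) = n * (g * E.ι v) * n⁻¹ := by group
        _ = _ := by rw [hg]; group
    have h2 : n * g * n⁻¹ ∈ normalizer (E.J : Set G) := by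
      refine hN _ ?_
      rcases he with e | e <;> rw [e] at h1
      · exact h1
      · rw [E.ι_neg] at h1
        exact (Commute.inv_right_iff.1 (show Commute _ (E.ι (1, 0, 0))⁻¹ from h1)).eq
    have := mul_mem (mul_mem (inv_mem hn.mem_N) h2) hn.mem_N
    simpa [mul_assoc] using this
  have h := List.all_eq_true.1 invol_types_b x hx
  simp only [hx2, decide_true, Bool.not_true, Bool.false_or, Bool.or_eq_true, List.elem_eq_mem, decide_eq_true_eq,
    fixesWt, List.any_eq_true, Bool.and_eq_true] at h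
  have hfix : ∀ {v : V}, app x v = v → E.σ x * E.ι v = E.ι v * E.σ x := fun {v} e => (hxa.fix_iff v).2 e
  rcases h with (((h | ⟨v, -, hv, e⟩) | ⟨v, -, hv, e⟩) | ⟨v, -, hv, e⟩) | h
  · exact h
  · exact absurd (hfix e) (E.no_wt_three hc hv)
  · obtain ⟨y, hy, hya⟩ := E.refl_fix hc (fun e0 => by rw [e0] at hv; exact absurd hv (by decide)) (hfix e)
      (fun g hg => E.cent_two hv hg)
    exact hya.unique hxa ▸ hy
  · obtain ⟨y, hy, hya⟩ := E.refl_fix hc (fun e0 => by rw [e0] at hv; exact absurd hv (by decide)) (hfix e)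
      (hN1 v hv)
    exact hya.unique hxa ▸ hy
  · exact absurd (by rw [hxa vZ, h, E.ι_neg]) (E.no_inv_three hc)

end Full

end Cfsg.Lib.SpCentre
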