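import Cfsg.Agent.LocalThree.SpCentre.Model
import Cfsg.Agent.Recognition.HeisSL.Main
import Cfsg.Prelude.Def_Solvable
import Cfsg.Agent.Components.Cores

/-!
The centraliser of the element of order three in coordinates, arranged so that the given abelian
subgroup is the standard one.
-/

set_option autoImplicit false
set_option maxRecDepth 8000

namespace Cfsg.Lib.SpCentre

open Subgroup Cfsg.Lib.HeisSL Cfsg.Lib.AmalgamSpFour

universe u

theorem nonab : (⟨1, 0, 0, 1⟩ : Mdl) * ⟨0, 1, 0, 1⟩ ≠ ⟨0, 1, 0, 1⟩ * ⟨1, 0, 0, 1⟩ := by decide +kernel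

theorem centre_central : ∀ m : Mdl, m * mv vZ = mv vZ * m := by decide +kernel

/-- The data. -/
structure Data (G : Type u) [Group G] where
  Ψ : Mdl → G
  inj : Function.Injective Ψ
  hmul : ∀ m n, Ψ (m * n) = Ψ m * Ψ n
  cent : ∀ g : G, g * Ψ (mv vZ) = Ψ (mv vZ) * g → ∃ m, Ψ m = g
  sig : ∀ K : Subgroup G, (Nat.card K).Coprime 3 → (∀ v, ∀ k ∈ K, Ψ (mv v) * k * (Ψ (mv v))⁻¹ ∈ K) → K = ⊥

theorem exists_data {G : Type u} [Group G] [Finite G] (a : G) (ha : orderOf a = 3) (C : Subgroup G)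
    (hC : C = Subgroup.centralizer ({a} : Set G))
    (hR : Cfsg.IsExtraspecial 3 (Cfsg.pCore 3 C)) (hRcard : Nat.card (Cfsg.pCore 3 C) = 27)
    (hRexp : ∀ r ∈ Cfsg.pCore 3 C, r ^ 3 = 1)
    (e : C ⧸ Cfsg.pCore 3 C ≃* Matrix.SpecialLinearGroup (Fin 2) (ZMod 3))
    (J : Subgroup G) (hJC : J ≤ C) (hJcomm : IsMulCommutative J) (hJexp : ∀ j ∈ J, j ^ 3 = 1)
    (hJcard : Nat.card J = 27)
    (hJsig : ∀ K : Subgroup G, (Nat.card K).Coprime 3 →
      (∀ j ∈ J, K.map (MulAut.conj j).toMonoidHom = K) → K = ⊥) :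
    ∃ D : Data G, D.Ψ (mv vZ) = a ∧ (∀ j, j ∈ J ↔ ∃ v, D.Ψ (mv v) = j) := by
  classical
  haveI : Fact (Nat.Prime 3) := ⟨Nat.prime_three⟩
  have hconj : ∀ (K : Subgroup G) (j : G), (∀ k ∈ K, j * k * j⁻¹ ∈ K) →
      K.map (MulAut.conj j).toMonoidHom = K := by
    intro K j h
    refine Subgroup.eq_of_le_of_card_ge ?_ ?_
    · rintro _ ⟨k, hk, rfl⟩; exact h k hk
    · rw [card_map_of_injective (MulAut.conj j).injective]
  have hO2 : Cfsg.pCore 2 C = ⊥ := by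
    haveI : Fact (Nat.Prime 2) := ⟨Nat.prime_two⟩
    have hp : IsPGroup 2 (Cfsg.pCore 2 C) := Cfsg.Lib.Components.isPGroup_pCore 2
    have h : ((Cfsg.pCore 2 C).map C.subtype) = ⊥ := by
      refine hJsig _ ?_ fun j hj => hconj _ _ ?_
      · obtain ⟨n, hn⟩ := IsPGroup.iff_card.1 (hp.map C.subtype)
        rw [hn]
        exact Nat.Coprime.pow_left n (by norm_num)
      · rintro _ ⟨k, hk, rfl⟩
        exact ⟨⟨j, hJC hj⟩ * k * ⟨j, hJC hj⟩⁻¹,
          (inferInstance : (Cfsg.pCore 2 C).Normal).conj_mem k hk _, rfl⟩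
    exact (map_eq_bot_iff_of_injective _ C.subtype_injective).1 h
  obtain ⟨⟨-, -, hder⟩, hZ⟩ := hR
  haveI : Nontrivial (center (Cfsg.pCore 3 C)) := Finite.one_lt_card_iff_nontrivial.1 (by rw [hZ]; norm_num)
  obtain ⟨z₀, hz₀⟩ := exists_ne (1 : center (Cfsg.pCore 3 C))
  obtain ⟨c₀, hc₀⟩ : ∃ c₀ : C, c₀ = ((z₀ : Cfsg.pCore 3 C) : C) := ⟨_, rfl⟩
  have hc3 : c₀ ^ 3 = 1 := hRexp c₀ (hc₀ ▸ (z₀ : Cfsg.pCore 3 C).2)
  have hgen : ∀ w : Cfsg.pCore 3 C, w ∈ center (Cfsg.pCore 3 C) → ∃ k : ZMod 3, (w : C) = pw c₀ k := by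
    intro w hw
    obtain ⟨n, hn⟩ := mem_powers_of_prime_card (g := z₀) (g' := ⟨w, hw⟩) hZ hz₀
    refine ⟨(n : ZMod 3), ?_⟩
    rw [pw_natCast hc3, hc₀]
    exact (congrArg (fun v : center (Cfsg.pCore 3 C) => ((v : Cfsg.pCore 3 C) : C)) hn).symm
  have P : Shape (Cfsg.pCore 3 C) c₀ := {
    nR := inferInstance
    cardR := hRcard
    exp := hRexp
    cmem := hc₀ ▸ (z₀ : Cfsg.pCore 3 C).2
    cne := fun h => hz₀ (Subtype.ext (Subtype.ext (hc₀ ▸ h)))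
    cen := fun r hr => by
      rw [hc₀]
      exact (congrArg Subtype.val (mem_center_iff.1 z₀.2 ⟨r, hr⟩)).symm
    ctr := fun z hz h => hgen ⟨z, hz⟩ (mem_center_iff.2 fun r => Subtype.ext (h r r.2).symm)
    der := fun r hr s hs => by
      refine hgen ⟨r * s * r⁻¹ * s⁻¹, mul_mem (mul_mem (mul_mem hr hs) (inv_mem hr)) (inv_mem hs)⟩ ?_
      rw [← hder]
      exact commutator_mem_commutator (mem_top (⟨r, hr⟩ : Cfsg.pCore 3 C)) (mem_top ⟨s, hs⟩) }
  let π : C →* Matrix.SpecialLinearGroup (Fin 2) (ZMod 3) := e.toMonoidHom.comp (QuotientGroup.mk' (Cfsg.pCore 3 C))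
  have hker : π.ker = Cfsg.pCore 3 C := by
    ext x
    simp [π, MonoidHom.mem_ker]
  have hsurj : Function.Surjective π := e.surjective.comp (QuotientGroup.mk'_surjective _)
  have hO2' : ∀ s : C, s * s = 1 → (∀ g, g * s = s * g) → s = 1 := by
    intro s hs2 hs
    have hn : (zpowers s).Normal := ⟨fun y hy g => by
      obtain ⟨k, rfl⟩ := mem_zpowers_iff.1 hy
      rw [((Commute.zpow_right (show Commute g s from hs g) k)).eq, mul_inv_cancel_right]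
      exact hy⟩
    have hp : IsPGroup 2 (zpowers s) := by
      intro y
      refine ⟨1, Subtype.ext ?_⟩
      obtain ⟨k, hk⟩ := mem_zpowers_iff.1 y.2
      rw [Subgroup.coe_pow, ← hk, pow_one, sq, ← zpow_add, ← two_mul, zpow_mul, zpow_two, hs2, one_zpow]
      rfl
    have h : zpowers s ≤ Cfsg.pCore 2 C := le_sSup ⟨hn, hp⟩
    rw [hO2, le_bot_iff, zpowers_eq_bot] at h
    exact h
  have hnab : ∃ r ∈ Cfsg.pCore 3 C, ∃ s ∈ Cfsg.pCore 3 C, r * s ≠ s * r := by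
    by_contra h
    push Not at h
    have : center (Cfsg.pCore 3 C) = ⊤ := eq_top_iff.2 fun w _ =>
      mem_center_iff.2 fun r => Subtype.ext (h r r.2 w w.2)
    rw [this, card_top, hRcard] at hZ
    norm_num at hZ
  have hE : ∃ E : Subgroup C, IsMulCommutative E ∧ (∀ x ∈ E, x ^ 3 = 1) ∧ Nat.card E = 27 := by
    refine ⟨J.subgroupOf C, ⟨⟨fun x y => Subtype.ext (Subtype.ext ?_)⟩⟩, fun x hx => Subtype.ext ?_, ?_⟩
    · have := congrArg Subtype.val (hJcomm.is_comm.comm (⟨((x : C) : G), mem_subgroupOf.1 x.2⟩ : J) ⟨((y : C) : G), mem_subgroupOf.1 y.2⟩)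
      simpa using this
    · rw [Subgroup.coe_pow]; exact hJexp _ hx
    · rw [Nat.card_congr (subgroupOfEquivOfLe hJC).toEquiv, hJcard]
  obtain ⟨Ψ, hΨ, hΨm⟩ := P.exists_iso π hker hsurj hO2' hE hnab
  have hone : Ψ e0 = 1 := by
    have h : Ψ e0 * Ψ e0 = Ψ e0 := by rw [← hΨm, mul_one'.1]
    exact mul_eq_left.1 h
  have hinjG : Function.Injective fun m => (Ψ m : G) := fun m n h => hΨ.1 (Subtype.ext h)
  -- the element is the centre, up to sign
  have haC : a ∈ C := hC ▸ mem_centralizer_singleton_iff.2 rfl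
  obtain ⟨m₀, hm₀⟩ := hΨ.2 ⟨a, haC⟩
  have hcomm₀ : ∀ n, m₀ * n = n * m₀ := by
    intro n
    refine hΨ.1 ?_
    rw [hΨm, hΨm, hm₀]
    refine Subtype.ext ?_
    have h : ((Ψ n : C) : G) ∈ centralizer ({a} : Set G) := hC.le (Ψ n).2
    exact (mem_centralizer_singleton_iff.1 h).symm
  have hcube₀ : m₀ * (m₀ * m₀) = e0 := by
    refine hΨ.1 ?_
    rw [hΨm, hΨm, hm₀, hone]
    refine Subtype.ext ?_
    push_cast
    rw [← pow_three, ← ha, pow_orderOf_eq_one]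
  have hne₀ : m₀ ≠ e0 := fun h => by
    rw [h, hone] at hm₀
    rw [show a = 1 from (congrArg Subtype.val hm₀).symm, orderOf_one] at ha
    omega
  obtain ⟨Φ, hΦinj, hΦsurj, hΦm, hΦa⟩ : ∃ Φ : Mdl → G, Function.Injective Φ ∧ (∀ g, g ∈ C → ∃ m, Φ m = g) ∧
      (∀ m n, Φ (m * n) = Φ m * Φ n) ∧ Φ (mv vZ) = a := by
    have hz : (1 : ZMod 3) = 1 := rfl
    rcases centre_cube m₀ (hcomm₀ _) (hcomm₀ _) hcube₀ hne₀ with h | h
    · refine ⟨fun m => (Ψ m : G), hinjG, fun g hg => ?_, fun m n => congrArg Subtype.val (hΨm m n), ?_⟩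
      · obtain ⟨m, hm⟩ := hΨ.2 ⟨g, hg⟩
        exact ⟨m, congrArg Subtype.val hm⟩
      · show ((Ψ (mv vZ) : C) : G) = a
        rw [show mv vZ = m₀ from h.symm, hm₀]
    · refine ⟨fun m => (Ψ (flip m) : G), fun m n e => by rw [← flip_flip m, hinjG e, flip_flip],
        fun g hg => ?_, fun m n => by simp only [flip_mul, hΨm, Subgroup.coe_mul], ?_⟩
      · obtain ⟨m, hm⟩ := hΨ.2 ⟨g, hg⟩
        exact ⟨flip m, by simp only [flip_flip]; exact congrArg Subtype.val hm⟩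
      · show ((Ψ (flip (mv vZ)) : C) : G) = a
        rw [show flip (mv vZ) = m₀ from h.symm, hm₀]
  have hΦC : ∀ m, Φ m * a = a * Φ m := by
    intro m
    rw [← hΦa, ← hΦm, ← hΦm]
    congr 1
    exact centre_central m
  have hΦ1 : Φ e0 = 1 := by
    have h : Φ e0 * Φ e0 = Φ e0 := by rw [← hΦm, mul_one'.1]
    exact mul_eq_left.1 h
  have hΦ3 : ∀ {j : G}, j ∈ J → ∀ {m : Mdl}, Φ m = j → m * (m * m) = e0 := by
    intro j hj m hm
    refine hΦinj ?_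
    rw [hΦm, hΦm, hm, hΦ1, ← pow_three, hJexp j hj]
  -- an element of J outside the core
  obtain ⟨m, hmJ, hmA⟩ : ∃ m, Φ m ∈ J ∧ m.A ≠ 1 := by
    by_contra hcon
    push Not at hcon
    have hsub : ∀ m : Mdl, m.A = 1 → Φ m ∈ J := by
      intro m hm
      let f : {m : Mdl // m.A = 1} → G := fun m => Φ m.1
      have hf : Function.Injective f := fun x y h => Subtype.ext (hΦinj h)
      have hJf : ∀ j ∈ J, ∃ x, f x = j := fun j hj => by
        obtain ⟨x, hx⟩ := hΦsurj j (hJC hj)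
        exact ⟨⟨x, hcon x (hx ▸ hj)⟩, hx⟩
      choose g hg using fun j : J => hJf j j.2
      have hgi : Function.Injective g := fun x y h => Subtype.ext (by rw [← hg x, ← hg y, h])
      have hcard : Nat.card {m : Mdl // m.A = 1} = 27 := by
        rw [Nat.card_eq_fintype_card]; decide +kernel
      obtain ⟨j, hj⟩ := ((Nat.bijective_iff_injective_and_card g).2 ⟨hgi, by rw [hJcard, hcard]⟩).2 ⟨m, hm⟩
      have h2 := hg j
      rw [hj] at h2
      show Φ m ∈ J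
      rw [show Φ m = (j : G) from h2]
      exact j.2
    have h1 := hsub ⟨1, 0, 0, 1⟩ rfl
    have h2 := hsub ⟨0, 1, 0, 1⟩ rfl
    have h := congrArg Subtype.val (hJcomm.is_comm.comm (⟨_, h1⟩ : J) ⟨_, h2⟩)
    simp only [Subgroup.coe_mul, ← hΦm] at h
    exact nonab (hΦinj h)
  obtain ⟨h, hh, v, hv⟩ := cube_cover m (hΦ3 hmJ rfl)
  obtain ⟨h', hh'⟩ := (mul_one'.2.1) h hh
  have hΦh : Φ h' = (Φ h)⁻¹ := eq_inv_of_mul_eq_one_left (by rw [← hΦm, hh', hΦ1])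
  have hcs : csum v ≠ 0 := by
    intro hs
    refine hmA ?_
    have e := congrArg (fun x : Mdl => x.A) hv
    simp only [mul_A, (mv_csum v).2 hs, mul_one] at e
    exact mul_eq_right.1 e
  -- conjugate
  refine ⟨{
    Ψ := fun m => Φ h * Φ m * (Φ h)⁻¹
    inj := fun m n e => hΦinj (mul_left_cancel (mul_right_cancel e))
    hmul := fun m n => by rw [hΦm]; group
    cent := fun g hg => ?_
    sig := fun K hK hn => ?_ }, ?_, ?_⟩
  rotate_right 2
  · show Φ h * Φ (mv vZ) * (Φ h)⁻¹ = a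
    rw [hΦa, hΦC h, mul_inv_cancel_right]
  all_goals
    have hrange : ∀ j, j ∈ J → ∃ w, Φ h * Φ (mv w) * (Φ h)⁻¹ = j := by
      intro j hj
      obtain ⟨x, rfl⟩ := hΦsurj j (hJC hj)
      have hxm : x * m = m * x := hΦinj (by
        rw [hΦm, hΦm]
        exact congrArg Subtype.val (hJcomm.is_comm.comm (⟨_, hj⟩ : J) ⟨_, hmJ⟩))
      obtain ⟨y, hy⟩ : ∃ y, Φ y = (Φ h)⁻¹ * Φ x * Φ h := ⟨h' * x * h, by rw [hΦm, hΦm, hΦh]⟩
      have hconjm : (Φ h)⁻¹ * Φ m * Φ h = Φ (mv v) := by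
        rw [mul_assoc, ← hΦm, hv, hΦm, inv_mul_cancel_left]
      obtain ⟨w, hw⟩ := comm_cube v hcs y (hΦinj (by
          rw [hΦm, hΦm, hy, ← hconjm]
          calc (Φ h)⁻¹ * Φ x * Φ h * ((Φ h)⁻¹ * Φ m * Φ h) = (Φ h)⁻¹ * (Φ x * Φ m) * Φ h := by group
            _ = (Φ h)⁻¹ * (Φ m * Φ x) * Φ h := by rw [← hΦm, hxm, hΦm]
            _ = _ := by group))
        (hΦinj (by
          have h3 := hΦ3 hj rfl
          rw [hΦm, hΦm, hy, hΦ1]
          calc (Φ h)⁻¹ * Φ x * Φ h * ((Φ h)⁻¹ * Φ x * Φ h * ((Φ h)⁻¹ * Φ x * Φ h))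
              = (Φ h)⁻¹ * Φ (x * (x * x)) * Φ h := by rw [hΦm, hΦm]; group
            _ = 1 := by rw [h3, hΦ1, mul_one, inv_mul_cancel]))
      refine ⟨w, ?_⟩
      rw [← hw, hy]; group
    have hsurjJ : ∀ w, Φ h * Φ (mv w) * (Φ h)⁻¹ ∈ J := by
      intro w
      choose g hg using fun j : J => hrange j j.2
      have hgi : Function.Injective g := fun x y e => Subtype.ext (by rw [← hg x, ← hg y, e])
      obtain ⟨j, hj⟩ := ((Nat.bijective_iff_injective_and_card g).2 ⟨hgi, by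
        rw [hJcard, Nat.card_eq_fintype_card]; rfl⟩).2 w
      have h2 := hg j
      rw [hj] at h2
      rw [h2]
      exact j.2
  · intro j
    refine ⟨hrange j, ?_⟩
    rintro ⟨w, rfl⟩
    exact hsurjJ w
  · have hg' : g * a = a * g := by
      rwa [show Φ h * Φ (mv vZ) * (Φ h)⁻¹ = a by rw [hΦa, hΦC h, mul_inv_cancel_right]] at hg
    obtain ⟨x, rfl⟩ := hΦsurj g (hC ▸ mem_centralizer_singleton_iff.2 hg')
    refine ⟨h' * x * h, ?_⟩
    show Φ h * Φ (h' * x * h) * (Φ h)⁻¹ = Φ x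
    rw [hΦm, hΦm, hΦh]; group
  · refine hJsig K hK fun j hj => hconj K j ?_
    obtain ⟨w, rfl⟩ := hrange j hj
    exact hn w

end Cfsg.Lib.SpCentre
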