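import Cfsg.Agent.LocalThree.SpCentre.SixGroup
import Cfsg.Agent.InvolCalc.ZStarApps
import Mathlib.GroupTheory.SchurZassenhaus

/-!
The centraliser of an involution of the second class lies in the symplectic subgroup.
-/

set_option autoImplicit false
set_option maxRecDepth 8000
set_option linter.unusedSectionVars false
set_option linter.style.haveILetI false
set_option synthInstance.maxSize 2000
set_option maxHeartbeats 1000000

namespace Cfsg.Lib.SpCentre

open Subgroup Equiv Cfsg.Lib.HeisSL Cfsg.Lib.AmalgamSpFour Cfsg.Lib.SymNineLocal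
open Code (τ prodS rep tvC cm cx repSet prodC cl)
open scoped MatrixGroups

universe u

section Generic

variable {G : Type u} [Group G] [Finite G]

/-- An element of a subgroup of odd order has odd order. -/
theorem odd_pow {O : Subgroup G} (hO : Odd (Nat.card O)) {d : G} (hd : d ∈ O) : ∃ n, Odd n ∧ d ^ n = 1 :=
  ⟨_, hO, congrArg Subtype.val (pow_card_eq_one' (x := (⟨d, hd⟩ : O)))⟩

theorem eq_one_of_sq {O : Subgroup G} (hO : Odd (Nat.card O)) {d : G} (hd : d ∈ O) (h : d * d = 1) : d = 1 := by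
  obtain ⟨n, hn, hdn⟩ := odd_pow hO hd
  exact odd_dvd hn hdn (k := 1) (by rw [pow_one, pow_two, h])

/-- An element of odd order permuting two elements fixes them. -/
theorem comm_of_odd {O : Subgroup G} (hO : Odd (Nat.card O)) {d a b : G} (hd : d ∈ O) (h : d * a * d⁻¹ = b)
    (hb : d * b * d⁻¹ = a) : d * a = a * d := by
  obtain ⟨n, hn, hdn⟩ := odd_pow hO hd
  obtain ⟨m, rfl⟩ := hn
  have h2 : Commute (d * d) a := mul_inv_eq_iff_eq_mul.1 (by
    calc d * d * a * (d * d)⁻¹ = d * (d * a * d⁻¹) * d⁻¹ := by group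
      _ = a := by rw [h, hb])
  have e : d = ((d * d) ^ m)⁻¹ := eq_inv_of_mul_eq_one_right (by rw [← pow_two, ← pow_mul, ← pow_succ, hdn])
  rw [e]
  exact (h2.pow_left m).inv_left.eq

/-- The odd core from an isolated involution of a subgroup. -/
theorem odd_core {X : Subgroup G} {j : X} (hj : Cfsg.IsIsolatedInvolution j) :
    ∃ O : Subgroup G, O ≤ X ∧ Odd (Nat.card O) ∧ (∀ g ∈ X, ∀ d ∈ O, g * d * g⁻¹ ∈ O) ∧
      ∀ g ∈ X, (j : G) * g * (j : G)⁻¹ * g⁻¹ ∈ O := by
  refine ⟨(Cfsg.pPrimeCore 2 X).map X.subtype, map_subtype_le _, ?_, ?_, fun g hg => ?_⟩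
  · rw [card_map_of_injective X.subtype_injective]
    exact Cfsg.Lib.ZStarApps.odd_card_pPrimeCore
  · rintro g hg _ ⟨d, hd, rfl⟩
    exact ⟨_, (inferInstance : (Cfsg.pPrimeCore 2 X).Normal).conj_mem d hd ⟨g, hg⟩, rfl⟩
  · exact ⟨_, Cfsg.Lib.ZStarApps.zstarProp hj ⟨g, hg⟩, rfl⟩

/-- The odd core from an involution isolated modulo a central involution. -/
theorem odd_core_mod {X : Subgroup G} {a z : G} (ha : a ∈ X) (hz : z ∈ X) (hz2 : z * z = 1) (hz1 : z ≠ 1)
    (hzc : ∀ g ∈ X, g * z = z * g) (ha2 : a * a = 1) (ha1 : a ≠ 1) (haz : a ≠ z)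
    (hiso : ∀ g ∈ X, (g * a * g⁻¹ * a * (g * a * g⁻¹) = a ∨ g * a * g⁻¹ * a * (g * a * g⁻¹) = a * z) →
      g * a * g⁻¹ = a ∨ g * a * g⁻¹ = a * z) :
    ∃ O : Subgroup G, O ≤ X ∧ Odd (Nat.card O) ∧ (∀ g ∈ X, ∀ d ∈ O, g * d * g⁻¹ ∈ O) ∧
      ∀ g ∈ X, a * g * a⁻¹ * g⁻¹ ∈ O ∨ a * g * a⁻¹ * g⁻¹ * z ∈ O := by
  classical
  let Z : Subgroup X := zpowers (⟨z, hz⟩ : X)
  have hmemZ : ∀ x : X, x ∈ Z ↔ (x : G) = 1 ∨ (x : G) = z := by
    intro x
    constructor
    · rintro ⟨k, rfl⟩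
      have h2 : (⟨z, hz⟩ : X) ^ (2 : ℤ) = 1 := Subtype.ext (by
        rw [SubgroupClass.coe_zpow]; show z ^ (2 : ℤ) = 1; rw [zpow_two, hz2])
      rcases Int.even_or_odd k with ⟨m, rfl⟩ | ⟨m, rfl⟩
      · exact Or.inl (by simp only [← two_mul, zpow_mul, h2, one_zpow]; rfl)
      · exact Or.inr (by simp only [zpow_add_one, zpow_mul, h2, one_zpow, one_mul])
    · rintro (h | h)
      · rw [show x = 1 from Subtype.ext h]; exact one_mem _
      · rw [show x = ⟨z, hz⟩ from Subtype.ext h]; exact mem_zpowers _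
  haveI : Z.Normal := ⟨fun x hx g => by
    rw [hmemZ] at hx ⊢
    rcases hx with h | h <;> rw [Subgroup.coe_mul, Subgroup.coe_mul, Subgroup.coe_inv, h]
    · exact Or.inl (by group)
    · exact Or.inr (by rw [hzc _ g.2, mul_inv_cancel_right])⟩
  let π : X →* X ⧸ Z := QuotientGroup.mk' Z
  have hπeq : ∀ x y : X, π x = π y ↔ (x : G)⁻¹ * y = 1 ∨ (x : G)⁻¹ * y = z := fun x y => by
    rw [QuotientGroup.mk'_apply, QuotientGroup.mk'_apply, QuotientGroup.eq, hmemZ]; rfl
  have hisol : Cfsg.IsIsolatedInvolution (π ⟨a, ha⟩) := by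
    refine ⟨orderOf_eq_prime (by rw [pow_two, ← map_mul, ← map_one π]; exact congrArg π (Subtype.ext ha2))
      (fun h => ?_), fun q hq => ?_⟩
    · rw [← map_one π, hπeq] at h
      simp only [OneMemClass.coe_one, mul_one] at h
      rcases h with h | h
      · exact ha1 (inv_eq_one.1 h)
      · exact haz (by rw [← inv_inv a, h, inv_eq_of_mul_eq_one_right hz2])
    · obtain ⟨⟨g, hg⟩, rfl⟩ := QuotientGroup.mk'_surjective Z q
      set y := g * a * g⁻¹ with hy
      have hyX : y ∈ X := mul_mem (mul_mem hg ha) (inv_mem hg)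
      have hy2 : y * y = 1 := by
        rw [hy]
        calc _ = g * (a * a) * g⁻¹ := by group
          _ = 1 := by rw [ha2]; group
      have hq' : π (⟨y, hyX⟩ * ⟨a, ha⟩) = π (⟨a, ha⟩ * ⟨y, hyX⟩) := by
        rw [map_mul, map_mul]; exact hq.eq.symm
      rw [hπeq] at hq'
      have e : ((⟨y, hyX⟩ * ⟨a, ha⟩ : X) : G)⁻¹ * ((⟨a, ha⟩ * ⟨y, hyX⟩ : X) : G) = a * (y * a * y) := by
        show (y * a)⁻¹ * (a * y) = _
        rw [mul_inv_rev, inv_eq_of_mul_eq_one_right hy2, inv_eq_of_mul_eq_one_right ha2]; group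
      rw [e] at hq'
      have hyay : y * a * y = a ∨ y * a * y = a * z := by
        rcases hq' with h | h
        · exact Or.inl (mul_left_cancel (a := a) (h.trans ha2.symm))
        · exact Or.inr (mul_left_cancel (a := a) (h.trans (by rw [← mul_assoc, ha2, one_mul])))
      have hw : (⟨y, hyX⟩ : X) = ⟨g, hg⟩ * ⟨a, ha⟩ * (⟨g, hg⟩ : X)⁻¹ := Subtype.ext rfl
      show π ⟨g, hg⟩ * π ⟨a, ha⟩ * (π ⟨g, hg⟩)⁻¹ = π ⟨a, ha⟩
      rw [← map_inv, ← map_mul, ← map_mul, ← hw, hπeq]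
      rcases hiso g hg hyay with h | h
      · exact Or.inl (by show y⁻¹ * a = 1; rw [show y = a from h, inv_mul_cancel])
      · exact Or.inr (by
          show y⁻¹ * a = z
          rw [show y = a * z from h, mul_inv_rev, inv_eq_of_mul_eq_one_right hz2, mul_assoc, inv_mul_cancel, mul_one])
  let C : Subgroup (X ⧸ Z) := Cfsg.pPrimeCore 2 (X ⧸ Z)
  let P : Subgroup X := C.comap π
  haveI : P.Normal := (inferInstance : C.Normal).comap π
  have hZP : Z ≤ P := fun x hx => by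
    show π x ∈ C
    rw [QuotientGroup.mk'_apply, (QuotientGroup.eq_one_iff x).2 hx]; exact one_mem _
  let ZP : Subgroup P := Z.subgroupOf P
  haveI : ZP.Normal := inferInstance
  have hZcard : Nat.card ZP = 2 := by
    rw [Nat.card_congr (subgroupOfEquivOfLe hZP).toEquiv, Nat.card_zpowers]
    exact orderOf_eq_prime (Subtype.ext (by rw [SubmonoidClass.coe_pow, pow_two]; exact hz2))
      fun h => hz1 (congrArg Subtype.val h)
  have hidx : Odd ZP.index := by
    have h : Z.relIndex P = Nat.card C := by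
      have e := Subgroup.relIndex_comap (f := π) (⊥ : Subgroup (X ⧸ Z)) P
      rw [MonoidHom.comap_bot, QuotientGroup.ker_mk'] at e
      rw [e, map_comap_eq_self_of_surjective (QuotientGroup.mk'_surjective Z), relIndex_bot_left]
    show Odd (Z.relIndex P)
    rw [h]
    exact Cfsg.Lib.ZStarApps.odd_card_pPrimeCore
  obtain ⟨Q, hQ⟩ := exists_right_complement'_of_coprime (N := ZP) (by rw [hZcard]; exact Nat.coprime_two_left.2 hidx)
  have hQodd : Odd (Nat.card Q) := by rw [← hQ.symm.index_eq_card]; exact hidx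
  have hQidx : Q.index = 2 := by rw [hQ.index_eq_card, hZcard]
  have hQmem : ∀ x : P, (∃ n, Odd n ∧ x ^ n = 1) → x ∈ Q := by
    rintro x ⟨n, ⟨m, rfl⟩, hx⟩
    have h2 := Subgroup.pow_mem _ (mul_self_mem_of_index_two hQidx x) (m + 1)
    rwa [← pow_two, ← pow_mul, show 2 * (m + 1) = 2 * m + 1 + 1 by omega, pow_succ, hx, one_mul] at h2
  refine ⟨(Q.map P.subtype).map X.subtype, map_subtype_le _, ?_, ?_, fun g hg => ?_⟩
  · rwa [card_map_of_injective X.subtype_injective, card_map_of_injective P.subtype_injective]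
  · rintro g hg _ ⟨_, ⟨d, hd, rfl⟩, rfl⟩
    refine ⟨_, ⟨⟨_, (inferInstance : P.Normal).conj_mem d d.2 ⟨g, hg⟩⟩, hQmem _ ?_, rfl⟩, rfl⟩
    obtain ⟨n, hn, hdn⟩ := odd_pow hQodd hd
    refine ⟨n, hn, Subtype.ext ?_⟩
    simp only [SubmonoidClass.coe_pow, conj_pow]
    rw [← SubmonoidClass.coe_pow, hdn]; simp
  · have hm : (⟨a, ha⟩ * ⟨g, hg⟩ * (⟨a, ha⟩ : X)⁻¹ * (⟨g, hg⟩ : X)⁻¹) ∈ P := by
      show π _ ∈ C
      rw [map_mul, map_mul, map_mul, map_inv, map_inv]
      exact Cfsg.Lib.ZStarApps.zstarProp hisol _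
    set x : P := ⟨_, hm⟩
    set zP : P := ⟨⟨z, hz⟩, hZP (mem_zpowers _)⟩
    have hzQ : zP ∉ Q := fun h => hz1 (congrArg (fun w : P => ((w : X) : G))
      (eq_one_of_sq hQodd h (Subtype.ext (Subtype.ext hz2))))
    by_cases hxQ : x ∈ Q
    · exact Or.inl ⟨_, ⟨x, hxQ, rfl⟩, rfl⟩
    · refine Or.inr ⟨_, ⟨x * zP, ?_, rfl⟩, rfl⟩
      exact (mul_mem_iff_of_index_two hQidx).2 (iff_of_false hxQ hzQ)

/-- An involution without fixed points on a normalised subgroup inverts it. -/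
theorem inverts {O : Subgroup G} {j : G} (hj2 : j * j = 1) (hn : ∀ d ∈ O, j * d * j⁻¹ ∈ O)
    (hf : ∀ d ∈ O, j * d = d * j → d = 1) {d : G} (hd : d ∈ O) : j * d * j⁻¹ = d⁻¹ :=
  invert_of_fixed hn (fun k _ => by rw [hj2, one_mul, mul_one]) hf hd

/-- Two inverting elements have a centralising product. -/
theorem comm_of_inverts {O : Subgroup G} {j k : G} (h1 : ∀ d ∈ O, j * d * j⁻¹ = d⁻¹)
    (h2 : ∀ d ∈ O, k * d * k⁻¹ = d⁻¹) {d : G} (hd : d ∈ O) : j * k * d = d * (j * k) :=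
  mul_inv_eq_iff_eq_mul.1 (by
    calc j * k * d * (j * k)⁻¹ = j * (k * d * k⁻¹) * j⁻¹ := by group
      _ = d := by rw [h2 d hd, h1 _ (inv_mem hd), inv_inv])

/-- An element centralising the conjugate. -/
theorem comm_back {k x g : G} (h : g * (k * x * k⁻¹) = k * x * k⁻¹ * g) : k⁻¹ * g * k * x = x * (k⁻¹ * g * k) := by
  calc k⁻¹ * g * k * x = k⁻¹ * (g * (k * x * k⁻¹)) * k := by group
    _ = _ := by rw [h]; group

end Generic

theorem cent_six : (∀ h : S6, h * swap 0 1 = swap 0 1 * h → h * swap 3 4 = swap 3 4 * h → h * h = 1) ∧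
    (swap (0 : Fin 6) 3 * swap 1 4) * (swap 0 3 * swap 1 4) = 1 ∧
    (swap (0 : Fin 6) 3 * swap 1 4) * swap 0 1 * (swap 0 3 * swap 1 4) = swap 3 4 ∧
    (swap (0 : Fin 6) 3 * swap 1 4) * swap 2 5 * (swap 0 3 * swap 1 4) = swap 2 5 := by decide +kernel

theorem cent_codes : cm (prodC [1, 8]) (Code.mul (tvC 5) (Code.mul (prodC [1, 8]) (tvC 5))) = false ∧
    (∀ a ∈ Code.tvs, Code.mul (tvC a) (Code.mul (tvC 2) (tvC a)) ≠ tvC 4) ∧
    tvC 2 ≠ tvC 4 := by decide +kernel

theorem code_mul_comm {p q : Sp6} (h : cm (rep p) (rep q) = true) : p * q = q * p :=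
  Code.rep_inj (by rw [Code.rep_mul, Code.rep_mul]; exact eq_of_beq h)

theorem conj_solve' {H : Type*} [Group H] {q t r : H} (ht : t * t = 1) (hrt : r * t = t * r) :
    (q * t * q⁻¹) * (q * (t * r) * q⁻¹) = q * r * q⁻¹ ∧ (q * t * q⁻¹) * (q * (t * r) * q⁻¹) = q * (t * r) * q⁻¹ * (q * t * q⁻¹) := by
  have e : (q * t * q⁻¹) * (q * (t * r) * q⁻¹) = q * r * q⁻¹ := by
    calc _ = q * (t * t * r) * q⁻¹ := by group
      _ = _ := by rw [ht, one_mul]
  refine ⟨e, e.trans ?_⟩
  calc q * r * q⁻¹ = q * (t * t * r) * q⁻¹ := by rw [ht, one_mul]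
    _ = q * (t * (r * t)) * q⁻¹ := by rw [hrt]; group
    _ = _ := by group

namespace Sx.Emb

variable {G : Type u} [Group G] [Finite G] {S : Sx G} (M : S.Emb)

/-- Elements whose centraliser lies in the image. -/
def Cin (x : G) : Prop := ∀ g, g * x = x * g → g ∈ M.K

/-- Pairs whose centraliser lies in the image. -/
def Cin2 (x y : G) : Prop := ∀ g, g * x = x * g → g * y = y * g → g ∈ M.K

theorem code_comm {x y : Sp6} (h : M.θ x * M.θ y = M.θ y * M.θ x) : cm (rep x) (rep y) = true := by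
  rw [← map_mul, ← map_mul] at h
  show (Code.mul (rep x) (rep y) == Code.mul (rep y) (rep x)) = true
  rw [← Code.rep_mul, ← Code.rep_mul, M.inj h]
  exact beq_self_eq_true _

theorem tvs_lt {a : ℕ} (ha : a ∈ Code.tvs) : a < 64 := by
  obtain ⟨i, hi, rfl⟩ := List.mem_map.1 ha
  have := List.mem_range.1 hi
  omega

theorem tv_one {a : ℕ} (ha : a ∈ Code.tvs) : cx (τ a) = 1 := by
  rw [cx, Code.rep_τ (tvs_lt ha)]
  exact beq_iff_eq.1 (List.all_eq_true.1 Code.tv_class a ha)

theorem tv_sq (a : ℕ) : M.θ (τ a) * M.θ (τ a) = 1 := by rw [← map_mul, Code.τ_sq, map_one]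

theorem tv_conj {a : ℕ} (ha : a ∈ Code.tvs) : IsConj S.t (M.θ (τ a)) :=
  (M.cx_eq (Code.τ_sq a) (by norm_num)).2 (tv_one ha)

theorem prod_tv {l : List ℕ} (hl : ∀ c ∈ l, c < 64) : cx (prodS l) = cl (prodC l) := by rw [cx, Code.rep_prod hl]

theorem θ24 : M.θ (prodS [2, 4]) = S.σ uW := M.repG_eq 2 (by norm_num)

theorem u24 : M.θ (τ 2) * M.θ (τ 4) = S.σ uW := by rw [M.T2, M.T4, S.u_eq]

theorem cent_u25 {g : G} (h1 : g * S.f (swap 0 1) = S.f (swap 0 1) * g) (h2 : g * S.f (swap 3 4) = S.f (swap 3 4) * g)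
    (h3 : g * S.f (swap 2 5) = S.f (swap 2 5) * g) : g ∈ M.K := by
  have hp : (S.f p13)⁻¹ = S.f p13 := by
    rw [← map_inv]; exact congrArg S.f (inv_eq_of_mul_eq_one_right p13_facts.1)
  have hc : ∀ {x y : S6}, p13 * y * p13 = x → g * S.f x = S.f x * g →
      MulAut.conj (S.f p13) g * S.f y = S.f y * MulAut.conj (S.f p13) g := fun {x y} e h => by
    have e1 : S.f y = MulAut.conj (S.f p13) (S.f x) := by
      rw [MulAut.conj_apply, hp, ← map_mul, ← map_mul, ← e]
      congr 1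
      rw [← mul_assoc, ← mul_assoc, p13_facts.1, one_mul, mul_assoc, p13_facts.1, mul_one]
    rw [e1, ← map_mul, ← map_mul, h]
  have hm : MulAut.conj (S.f p13) g ∈ M.K := M.Cw_mem (S.mem_Cw.2 fun i => by
    fin_cases i
    · exact hc p13_facts.2.1 h1
    · exact hc p13_facts.2.2.1 h2
    · exact hc p13_swap.2.2.2 h3)
  have e : g = S.f p13 * MulAut.conj (S.f p13) g * S.f p13 := by
    have hpp : S.f p13 * S.f p13 = 1 := by rw [← map_mul, p13_facts.1, map_one]
    rw [MulAut.conj_apply, hp]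
    calc g = (S.f p13 * S.f p13) * g * (S.f p13 * S.f p13) := by rw [hpp, one_mul, mul_one]
      _ = _ := by group
  rw [e]; exact mul_mem (mul_mem (M.f_mem _) hm) (M.f_mem _)

theorem e_comm_of_fixed {O : Subgroup G} (ht : ∀ d ∈ O, S.t * d * S.t⁻¹ ∈ O)
    (he : ∀ d ∈ O, (S.ι (1, 0, 0))⁻¹ * d * S.ι (1, 0, 0) ∈ O)
    (he' : ∀ d ∈ O, S.ι (1, 0, 0) * d * (S.ι (1, 0, 0))⁻¹ ∈ O)
    (hf : ∀ d ∈ O, S.t * d = d * S.t → d = 1) {d : G} (hd : d ∈ O) :
    d * S.ι (1, 0, 0) = S.ι (1, 0, 0) * d := by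
  set e := S.ι (1, 0, 0) with hedef
  have e1 : S.t * e * S.t⁻¹ = e⁻¹ := by
    rw [hedef, ← S.ι_neg, S.t_e]; congr 1
  have h1 : ∀ d ∈ O, S.t * d * S.t⁻¹ = d⁻¹ := fun d hd => inverts S.t_sq ht hf hd
  have h2 : ∀ d ∈ O, e * S.t * e⁻¹ * d * (e * S.t * e⁻¹)⁻¹ = d⁻¹ := fun d hd => by
    calc e * S.t * e⁻¹ * d * (e * S.t * e⁻¹)⁻¹ = e * (S.t * (e⁻¹ * d * e) * S.t⁻¹) * e⁻¹ := by group
      _ = _ := by rw [h1 _ (he d hd)]; group
  have e2 : S.t * (e * S.t * e⁻¹) = e := by
    have h3 : e * (e * e) = 1 := S.ι_cube _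
    calc S.t * (e * S.t * e⁻¹) = S.t * e * S.t⁻¹ * (S.t * S.t) * e⁻¹ := by group
      _ = e⁻¹ * e⁻¹ * (e * (e * e)) := by rw [S.t_sq, e1, mul_one, h3, mul_one]
      _ = e := by group
  have h := comm_of_inverts h1 h2 hd
  rw [e2] at h
  exact h.symm

include M in
/-- A subgroup of odd order centralising two reflections and normalised by their centraliser. -/
theorem odd_pair_trivial {O : Subgroup G} (hOodd : Odd (Nat.card O))
    (hOm : ∀ x ∈ O, x * S.f (swap 0 1) = S.f (swap 0 1) * x ∧ x * S.f (swap 3 4) = S.f (swap 3 4) * x)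
    (hn : ∀ w : G, w * S.f (swap 0 1) = S.f (swap 0 1) * w → w * S.f (swap 3 4) = S.f (swap 3 4) * w →
      ∀ x ∈ O, w * x * w⁻¹ ∈ O) {d₀ : G} (hd₀ : d₀ ∈ O) : d₀ = 1 := by
  have hnt := hn S.t (S.f_t _).symm (S.f_t _).symm
  have hne := hn (S.ι (1, 0, 0)) (S.f_e _).symm (S.f_e _).symm
  have hne' := hn (S.ι (1, 0, 0))⁻¹ (show Commute _ _ from (S.f_e _).symm).inv_left.eq
    (show Commute _ _ from (S.f_e _).symm).inv_left.eq
  have hns := hn (S.s 1) (S.mem_Za.1 (S.s_Za 1)).2.1 (S.mem_Za.1 (S.s_Za 1)).2.2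
  have hOe : ∀ d ∈ O, d * S.ι (1, 0, 0) = S.ι (1, 0, 0) * d := fun d hd =>
    e_comm_of_fixed hnt (fun d hd => by simpa using hne' d hd) hne
      (fun d hd hdt => eq_one_of_sq hOodd hd (S.Za_sq (S.mem_Za.2 ⟨hdt.symm, (hOm d hd).1, (hOm d hd).2⟩))) hd
  have hOb : ∀ d ∈ O, d = 1 := by
    intro d hd
    have hd2 : d * d = 1 := by
      obtain ⟨k, h, hdkh⟩ := S.cent_e d (hOe d hd)
      have hι : ∀ x : S6, Commute (S.ι (k, 0, 0)) (S.f x) := fun x => by
        rw [first_smul k, S.ι_nsmul]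
        exact (show Commute (S.f x) (S.ι (1, 0, 0)) from S.f_e x).symm.pow_left _
      have hhc : ∀ {x : S6}, d * S.f x = S.f x * d → h * x = x * h := fun {x} hx => by
        refine S.f_inj (mul_left_cancel (a := S.ι (k, 0, 0)) ?_)
        rw [map_mul, map_mul, ← mul_assoc, ← hdkh, hx, hdkh, ← mul_assoc, ← mul_assoc, (hι x).eq]
      have hh := cent_six.1 h (hhc (hOm d hd).1) (hhc (hOm d hd).2)
      have hdd : d * d = S.ι (k + k, 0, 0) := by
        rw [hdkh]
        calc S.ι (k, 0, 0) * S.f h * (S.ι (k, 0, 0) * S.f h)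
            = S.ι (k, 0, 0) * (S.f h * S.ι (k, 0, 0)) * S.f h := by group
          _ = S.ι (k, 0, 0) * S.ι (k, 0, 0) * (S.f h * S.f h) := by rw [← (hι h).eq]; group
          _ = _ := by
            rw [← map_mul, hh, map_one, mul_one, ← S.ι_add]
            congr 1
      by_cases hk : k = 0
      · rw [hdd, hk, add_zero]; exact S.ι_zero
      exfalso
      have heO : S.ι (1, 0, 0) ∈ O := by
        have h1 : S.ι (k + k, 0, 0) ∈ O := hdd ▸ mul_mem hd hd
        have key : ∀ k : ZMod 3, k ≠ 0 → ((1 : ZMod 3), (0 : ZMod 3), (0 : ZMod 3)) = ((k + k, 0, 0) : V) ∨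
            ((1 : ZMod 3), (0 : ZMod 3), (0 : ZMod 3)) = ((k + k, 0, 0) : V) + (k + k, 0, 0) := by decide +kernel
        rcases key k hk with e | e <;> rw [e]
        · exact h1
        · rw [S.ι_add]; exact mul_mem h1 h1
      have h5 := hOe _ (hns _ heO)
      rw [inv_eq_of_mul_eq_one_right (S.Za_sq (S.s_Za 1)), ← M.T5, ← M.eι, ← map_mul, ← map_mul] at h5
      have h6 := M.code_comm h5.symm
      rw [mul_assoc, Code.rep_mul (τ 5), Code.rep_mul _ (τ 5), Code.rep_τ (by norm_num : 5 < 64),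
        show τ 1 * τ 8 = prodS [1, 8] by simp [prodS], Code.rep_prod (by decide)] at h6
      rw [cent_codes.1] at h6
      exact absurd h6 (by decide)
    exact eq_one_of_sq hOodd hd hd2
  exact hOb d₀ hd₀

/-- The centraliser of two commuting reflections. -/
theorem cent_pair : M.Cin2 (S.f (swap 0 1)) (S.f (swap 3 4)) := by
  intro g hg1 hg2
  set X : Subgroup G := centralizer ({S.f (swap 0 1), S.f (swap 3 4)} : Set G) with hX
  have hXm : ∀ {x : G}, x ∈ X ↔ x * S.f (swap 0 1) = S.f (swap 0 1) * x ∧ x * S.f (swap 3 4) = S.f (swap 3 4) * x := by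
    intro x
    rw [hX, mem_centralizer_iff]
    exact ⟨fun h => ⟨(h _ (Or.inl rfl)).symm, (h _ (Or.inr rfl)).symm⟩,
      fun h z hz => by rcases hz with rfl | rfl <;> [exact h.1.symm; exact h.2.symm]⟩
  have hj : S.f (swap 2 5) ∈ X := hXm.2 ⟨by rw [← map_mul, ← map_mul, s25.1], by rw [← map_mul, ← map_mul, s25.2]⟩
  have hjne : S.f (swap (2 : Fin 6) 5) ≠ 1 := fun e => by
    rw [← map_one S.f] at e
    exact absurd (S.f_inj e) (by decide)
  have hisol : Cfsg.IsIsolatedInvolution (⟨_, hj⟩ : X) := by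
    refine ⟨orderOf_eq_prime (Subtype.ext (by rw [SubmonoidClass.coe_pow, pow_two]; show S.f _ * S.f _ = 1
                                              rw [← map_mul, p13_swap.2.2.1, map_one]))
      (fun h => hjne (congrArg Subtype.val h)), fun h hc => ?_⟩
    obtain ⟨hh1, hh2⟩ := hXm.1 h.2
    obtain ⟨hy1, hy2⟩ := hXm.1 (h * ⟨_, hj⟩ * h⁻¹ : X).2
    set y : G := (h : G) * S.f (swap 2 5) * (h : G)⁻¹ with hy
    have hy3 : y * S.f (swap 2 5) = S.f (swap 2 5) * y := (congrArg Subtype.val hc.eq).symm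
    have hyt : IsConj S.t y := (S.conj_swap (by decide)).trans (isConj_iff.2 ⟨(h : G), rfl⟩)
    obtain ⟨a, ha, hay⟩ := M.refl_tv hyt (M.cent_u25 hy1 hy2 hy3)
    set x := τ 2 * (τ 4 * τ a) with hx
    have hθ : M.θ x = (h : G) * S.f (swap 0 1 * swap 3 4 * swap 2 5) * (h : G)⁻¹ := by
      rw [hx, map_mul, map_mul, M.T2, M.T4, hay, hy, map_mul, map_mul]
      calc S.f (swap 0 1) * (S.f (swap 3 4) * ((h : G) * S.f (swap 2 5) * (h : G)⁻¹))
          = S.f (swap 0 1) * (S.f (swap 3 4) * (h : G)) * (S.f (swap 2 5) * (h : G)⁻¹) := by group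
        _ = S.f (swap 0 1) * (h : G) * S.f (swap 3 4) * (S.f (swap 2 5) * (h : G)⁻¹) := by rw [← hh2]; group
        _ = _ := by rw [← hh1]; group
    have hx2 : x * x = 1 := M.inj (by
      rw [map_mul, map_one, hθ]
      calc _ = (h : G) * S.f (swap 0 1 * swap 3 4 * swap 2 5 * (swap 0 1 * swap 3 4 * swap 2 5)) * (h : G)⁻¹ := by
            rw [map_mul _ _ (swap (0 : Fin 6) 1 * swap 3 4 * swap 2 5)]; group
        _ = 1 := by
          rw [show (swap (0 : Fin 6) 1 * swap 3 4 * swap 2 5 * (swap 0 1 * swap 3 4 * swap 2 5)) = 1 by decide +kernel,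
            map_one]; group)
    have hcx : cx x = 3 := (M.cx_eq hx2 (by norm_num)).1 (isConj_iff.2 ⟨(h : G), hθ.symm⟩)
    rw [cx, hx, Code.rep_mul, Code.rep_mul, Code.rep_τ (by norm_num), Code.rep_τ (by norm_num),
      Code.rep_τ (tvs_lt ha)] at hcx
    have h2a := M.code_comm (x := τ a) (y := τ 2) (by rw [hay, M.T2]; exact hy1)
    have h4a := M.code_comm (x := τ a) (y := τ 4) (by rw [hay, M.T4]; exact hy2)
    rw [Code.rep_τ (tvs_lt ha), Code.rep_τ (by norm_num)] at h2a h4a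
    have hl := List.all_eq_true.1 Code.line_unique a ha
    simp only [h2a, h4a, hcx, Bool.not_true, Bool.false_or, bne_self_eq_false, beq_iff_eq] at hl
    subst hl
    exact Subtype.ext (by show y = S.f (swap 2 5); rw [← hay, M.T6])
  obtain ⟨O, hOX, hOodd, hOn, hOc⟩ := odd_core hisol
  have hOb : ∀ d ∈ O, d = 1 := fun d hd => M.odd_pair_trivial hOodd (fun x hx => hXm.1 (hOX hx))
    (fun w h1 h2 x hx => hOn w (hXm.2 ⟨h1, h2⟩) x hx) hd
  refine M.cent_u25 hg1 hg2 ?_
  have h := hOb _ (hOc g (hXm.2 ⟨hg1, hg2⟩))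
  exact (mul_inv_eq_iff_eq_mul.1 (mul_inv_eq_one.1 h)).symm

/-- The three involutions used for the core. -/
theorem three_data (l : List ℕ) (hl : l ∈ [[1, 2, 3], [1, 4, 5], [1, 6, 7]]) :
    M.θ (prodS l) * S.σ uW = S.σ uW * M.θ (prodS l) ∧ M.θ (prodS l) * S.t = S.t * M.θ (prodS l) ∧
      M.θ (prodS l) * M.θ (prodS l) = 1 ∧ ∃ q : Sp6, M.θ q * S.t * (M.θ q)⁻¹ = S.f (swap 2 5) ∧
        M.θ q * (S.t * M.θ (prodS l)) * (M.θ q)⁻¹ = S.σ uW := by
  have h3 := List.all_eq_true.1 Code.three_r.1 l hl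
  simp only [Bool.and_eq_true, beq_iff_eq] at h3
  obtain ⟨⟨⟨hcl, hcu⟩, hct⟩, htr⟩ := h3
  have hl64 : ∀ c ∈ l, c < 64 := by
    simp only [List.mem_cons, List.not_mem_nil, or_false] at hl
    rcases hl with rfl | rfl | rfl <;> decide
  have hrz : prodS l * prodS [2, 4] = prodS [2, 4] * prodS l :=
    code_mul_comm (by rw [Code.rep_prod hl64, Code.rep_prod (by decide)]; exact hcu)
  have hrt : prodS l * τ 1 = τ 1 * prodS l :=
    code_mul_comm (by rw [Code.rep_prod hl64, Code.rep_τ (by norm_num)]; exact hct)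
  have hr2 : prodS l * prodS l = 1 := by
    refine Code.rep_inj ?_
    rw [Code.rep_mul, Code.rep_prod hl64, Code.rep_one]
    simp only [List.mem_cons, List.not_mem_nil, or_false] at hl
    rcases hl with rfl | rfl | rfl <;> decide +kernel
  refine ⟨by rw [← M.θ24, ← map_mul, ← map_mul, hrz], by rw [← M.T1, ← map_mul, ← map_mul, hrt],
    by rw [← map_mul, hr2, map_one], ?_⟩
  have hc2 : (τ 1 * prodS l) * (τ 1 * prodS l) = 1 := by
    calc _ = τ 1 * (prodS l * τ 1) * prodS l := by group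
      _ = τ 1 * τ 1 * (prodS l * prodS l) := by rw [hrt]; group
      _ = 1 := by rw [Code.τ_sq, hr2, mul_one]
  have hcx : cx (τ 1 * prodS l) = 2 := by
    rw [cx, Code.rep_mul, Code.rep_τ (by norm_num), Code.rep_prod hl64]; exact htr
  obtain ⟨-, -, ⟨q, hq⟩, -⟩ := Code.classify hc2
  rw [hcx, show repSet 2 = [2, 4] from rfl] at hq
  refine ⟨q, ?_, by rw [← M.T1, ← map_mul, ← map_inv, ← map_mul, ← map_mul, hq, M.θ24]⟩
  obtain ⟨b, hb, hbe⟩ := M.refl_tv (r := M.θ (q * τ 1 * q⁻¹))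
    (isConj_iff.2 ⟨M.θ q, by rw [map_mul, map_mul, map_inv, M.T1]⟩) (M.θ_mem _)
  have hbq : τ b = q * τ 1 * q⁻¹ := M.inj hbe
  obtain ⟨e1, e2⟩ := conj_solve' (q := q) (Code.τ_sq 1) hrt
  rw [hq, ← hbq] at e1 e2
  have hcomm2 : cm (tvC b) (prodC [2, 4]) = true := by
    rw [← Code.rep_τ (tvs_lt hb), ← Code.rep_prod (l := [2, 4]) (by decide)]
    refine M.code_comm ?_
    rw [← map_mul, ← map_mul, e2]
  have hcl3 : cl (Code.mul (tvC b) (prodC [2, 4])) = 3 := by
    rw [← Code.rep_τ (tvs_lt hb), ← Code.rep_prod (l := [2, 4]) (by decide), ← Code.rep_mul, e1]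
    exact (M.cx_conj hr2 q).trans (by rw [cx, Code.rep_prod hl64, hcl])
  have hl' := List.all_eq_true.1 Code.pair_u.2.2.2 b hb
  have hb6 : b = 6 := by simpa [hcomm2, hcl3] using hl'
  rw [← M.T1, ← map_mul, ← map_inv, ← map_mul, ← hbq, hb6, M.T6]

theorem three_prod : M.θ (prodS [1, 2, 3]) * M.θ (prodS [1, 4, 5]) * M.θ (prodS [1, 6, 7]) = 1 := by
  rw [← map_mul, ← map_mul, ← map_one M.θ]
  refine congrArg M.θ (Code.rep_inj ?_)
  rw [mul_assoc, Code.rep_mul, Code.rep_mul, Code.rep_prod (by decide), Code.rep_prod (by decide),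
    Code.rep_prod (by decide), Code.rep_one]
  exact Code.three_r.2

set_option maxHeartbeats 4000000 in
/-- The centraliser of the second representative. -/
theorem cent_u : M.Cin (S.σ uW) := by
  intro g₀ hg₀
  set X : Subgroup G := centralizer ({S.σ uW} : Set G) with hX
  have hXm : ∀ {x : G}, x ∈ X ↔ x * S.σ uW = S.σ uW * x := fun {x} => mem_centralizer_singleton_iff
  set a := S.f (swap 0 1) with ha_def
  set a' := S.f (swap 3 4) with ha'_def
  set z := S.σ uW with hz_def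
  have hza : z = a * a' := S.u_eq
  have ha2 : a * a = 1 := by rw [ha_def, ← M.T2]; exact M.tv_sq 2
  have ha'2 : a' * a' = 1 := by rw [ha'_def, ← M.T4]; exact M.tv_sq 4
  have haa : a * a' = a' * a := by rw [ha_def, ha'_def, ← map_mul, ← map_mul]; congr 1; decide +kernel
  have haz : a * z = a' := by rw [hza, ← mul_assoc, ha2, one_mul]
  have hz2 : z * z = 1 := S.σ_sq class_ops.1 class_ops.2.2.1
  have ne : ∀ {x y : S6}, x ≠ y → S.f x ≠ S.f y := fun h e => h (S.f_inj e)
  have ha1 : a ≠ 1 := by rw [ha_def, ← map_one S.f]; exact ne (by decide)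
  have hz1 : z ≠ 1 := by
    rw [hza, ha_def, ha'_def, ← map_mul, ← map_one S.f]; exact ne (by decide)
  have haz' : a ≠ z := by rw [hza, ha_def, ha'_def, ← map_mul]; exact ne (by decide)
  have haX : a ∈ X := hXm.2 (by rw [hza, mul_assoc, ← haa])
  have ha'X : a' ∈ X := by rw [← haz]; exact mul_mem haX (hXm.2 rfl)
  -- the element exchanging the two reflections
  set k := S.f (swap 0 3 * swap 1 4) with hk
  have hk2 : k * k = 1 := by rw [hk, ← map_mul, cent_six.2.1, map_one]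
  have hka : k * a * k = a' := by rw [hk, ha_def, ← map_mul, ← map_mul, cent_six.2.2.1]
  have hka' : k * a' * k = a := by
    rw [← hka]
    calc k * (k * a * k) * k = (k * k) * a * (k * k) := by group
      _ = a := by rw [hk2, one_mul, mul_one]
  have hkX : k ∈ X := hXm.2 (by
    calc k * z = k * a * k * (k * a' * k) * k := by
          rw [show k * a * k * (k * a' * k) * k = k * a * (k * k) * a' * (k * k) by group, hk2, mul_one, mul_one, hza,
            mul_assoc]
      _ = z * k := by rw [hka, hka', ← haa, hza])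
  have hpair : ∀ x ∈ X, x * a = a * x → x ∈ M.K := fun x hx hxa => M.cent_pair x hxa (by
    show x * a' = a' * x
    rw [← haz]; exact ((show Commute x a from hxa).mul_right (hXm.1 hx)).eq)
  have hswap : ∀ x ∈ X, x * a * x⁻¹ = a' → x * a' * x⁻¹ = a ∧ x ∈ M.K := by
    intro x hx h
    have h' : x * a' * x⁻¹ = a := by
      rw [← haz]
      calc x * (a * z) * x⁻¹ = x * a * x⁻¹ * (x * z * x⁻¹) := by group
        _ = a := by rw [h, hXm.1 hx, mul_inv_cancel_right, ← haz, mul_assoc, hz2, mul_one]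
    refine ⟨h', ?_⟩
    have h2 : k * x ∈ M.K := hpair _ (mul_mem hkX hx) (by
      calc k * x * a = k * (x * a * x⁻¹) * x := by group
        _ = k * a' * k * (k * x) := by rw [h, show k * a' * k * (k * x) = k * a' * (k * k) * x by group, hk2, mul_one]
        _ = _ := by rw [hka'])
    have := mul_mem (M.f_mem (swap 0 3 * swap 1 4)) h2
    rwa [← mul_assoc, ← hk, hk2, one_mul] at this
  have hiso : ∀ g ∈ X, (g * a * g⁻¹ * a * (g * a * g⁻¹) = a ∨ g * a * g⁻¹ * a * (g * a * g⁻¹) = a * z) →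
      g * a * g⁻¹ = a ∨ g * a * g⁻¹ = a * z := by
    intro g hg hy
    set y := g * a * g⁻¹ with hy_def
    have hyX : y ∈ X := mul_mem (mul_mem hg haX) (inv_mem hg)
    have hy2 : y * y = 1 := by
      rw [hy_def]
      calc _ = g * (a * a) * g⁻¹ := by group
        _ = 1 := by rw [ha2]; group
    have hyK : y ∈ M.K := by
      rcases hy with h | h
      · refine hpair y hyX ?_
        calc y * a = y * a * (y * y) := by rw [hy2, mul_one]
          _ = y * a * y * y := by group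
          _ = _ := by rw [h]
      · exact (hswap y hyX (by rw [inv_eq_of_mul_eq_one_right hy2, h, haz])).2
    obtain ⟨c, hc, hcy⟩ := M.refl_tv (r := y) ((S.conj_swap (by decide)).trans (isConj_iff.2 ⟨g, rfl⟩)) hyK
    rcases hy with h | h
    · -- commuting conjugates
      have hzy := M.code_comm (x := τ c) (y := prodS [2, 4]) (by rw [hcy, M.θ24]; exact hXm.1 hyX)
      have hx2 : (τ c * prodS [2, 4]) * (τ c * prodS [2, 4]) = 1 := M.inj (by
        rw [map_mul, map_mul, hcy, M.θ24, map_one]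
        calc y * z * (y * z) = y * (z * y) * z := by group
          _ = 1 := by rw [← hXm.1 hyX, ← mul_assoc, hy2, one_mul, hz2])
      have hcx := (M.cx_eq hx2 (by norm_num : 1 < 5)).1 ((S.conj_swap (a := 3) (b := 4) (by decide)).trans
        (isConj_iff.2 ⟨g, by
          rw [map_mul, hcy, M.θ24]
          show g * a' * g⁻¹ = y * z
          rw [← haz, hy_def]
          calc g * (a * z) * g⁻¹ = g * a * g⁻¹ * (g * z * g⁻¹) := by group
            _ = _ := by rw [hXm.1 hg, mul_inv_cancel_right]⟩))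
      rw [cx, Code.rep_mul, Code.rep_τ (tvs_lt hc), Code.rep_prod (by decide)] at hcx
      rw [Code.rep_τ (tvs_lt hc), Code.rep_prod (by decide)] at hzy
      have hl := List.all_eq_true.1 Code.pair_u.2.2.1 c hc
      simp only [hzy, hcx, Bool.not_true, Bool.false_or, bne_self_eq_false, Bool.or_eq_true, beq_iff_eq] at hl
      rcases hl with rfl | rfl
      · exact Or.inl (by rw [← hcy, M.T2])
      · exact Or.inr (by rw [← hcy, M.T4, haz])
    · -- the exchanged case is impossible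
      exfalso
      have e : M.θ (τ c * (τ 2 * τ c)) = M.θ (τ 4) := by
        rw [map_mul, map_mul, hcy, M.T2, M.T4, ← mul_assoc]
        exact h.trans haz
      have e' := congrArg rep (M.inj e)
      rw [Code.rep_mul, Code.rep_mul, Code.rep_τ (tvs_lt hc), Code.rep_τ (by norm_num), Code.rep_τ (by norm_num)] at e'
      exact cent_codes.2.1 c hc e'
  obtain ⟨O, hOX, hOodd, hOn, hOc⟩ := odd_core_mod haX (hXm.2 rfl) hz2 hz1 (fun g hg => hXm.1 hg) ha2 ha1 haz' hiso
  -- no nontrivial element of the core lies in the image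
  have hOa : ∀ d ∈ O, d * a = a * d → d = 1 := by
    intro d hd hda
    have hdK := hpair d (hOX hd) hda
    have heX : S.ι (1, 0, 0) ∈ X := hXm.2 (by
      rw [hza]; exact ((show Commute (S.ι (1, 0, 0)) a from (S.f_e _).symm).mul_right (S.f_e _).symm).eq)
    set O' : Subgroup G := O ⊓ centralizer ({a, a'} : Set G) with hO'
    have hd' : d ∈ O' := ⟨hd, mem_centralizer_iff.2 fun w hw => by
      rcases hw with rfl | rfl
      · exact hda.symm
      · rw [← haz]; exact ((show Commute d a from hda).mul_right (hXm.1 (hOX hd))).eq.symm⟩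
    have hO'odd : Odd (Nat.card O') := hOodd.of_dvd_nat (card_dvd_of_le inf_le_left)
    have hO'm : ∀ {x}, x ∈ O' → x * a = a * x ∧ x * a' = a' * x := fun {x} hx =>
      ⟨(mem_centralizer_iff.1 hx.2 a (Or.inl rfl)).symm, (mem_centralizer_iff.1 hx.2 a' (Or.inr rfl)).symm⟩
    have hn : ∀ w : G, w * a = a * w → w * a' = a' * w → ∀ x ∈ O', w * x * w⁻¹ ∈ O' := by
      intro w h1 h2 x hx
      refine ⟨hOn w (hXm.2 (by rw [hza]; exact ((show Commute w a from h1).mul_right h2).eq)) x hx.1,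
        mem_centralizer_iff.2 fun v hv => ?_⟩
      have key : ∀ v : G, w * v = v * w → x * v = v * x → v * (w * x * w⁻¹) = w * x * w⁻¹ * v := fun v hw hx => by
        exact (((show Commute v w from hw.symm).mul_right hx.symm).mul_right (show Commute v w from hw.symm).inv_right).eq
      rcases hv with rfl | rfl
      · exact key _ h1 (hO'm hx).1
      · exact key _ h2 (hO'm hx).2
    exact M.odd_pair_trivial hO'odd (fun x hx => hO'm hx) hn hd'
  have hOK : ∀ d ∈ O, d ∈ M.K → d = 1 := by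
    intro d hd hdK
    have hdc : IsConj S.t (d * a * d⁻¹) := (S.conj_swap (by decide)).trans (isConj_iff.2 ⟨d, rfl⟩)
    obtain ⟨c, hc, hcd⟩ := M.refl_tv hdc (mul_mem (mul_mem hdK ⟨_, M.T2⟩) (inv_mem hdK))
    have hdz : d * z * d⁻¹ = z := by rw [hXm.1 (hOX hd), mul_inv_cancel_right]
    have hcz : M.θ (τ c) * z = z * M.θ (τ c) := by
      rw [hcd]; exact hXm.1 (mul_mem (mul_mem (hOX hd) haX) (inv_mem (hOX hd)))
    have hzy := M.code_comm (x := τ c) (y := prodS [2, 4]) (by rw [M.θ24]; exact hcz)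
    have e2 : d * a * d⁻¹ * z = d * a' * d⁻¹ := by
      rw [← haz]; nth_rw 1 [← hdz]; group
    have hx2 : (τ c * prodS [2, 4]) * (τ c * prodS [2, 4]) = 1 := M.inj (by
      rw [map_mul, map_mul, hcd, M.θ24, map_one, e2]
      calc d * a' * d⁻¹ * (d * a' * d⁻¹) = d * (a' * a') * d⁻¹ := by group
        _ = 1 := by rw [ha'2]; group)
    have hcx := (M.cx_eq hx2 (by norm_num : 1 < 5)).1 ((S.conj_swap (a := 3) (b := 4) (by decide)).trans
      (isConj_iff.2 ⟨d, by rw [map_mul, hcd, M.θ24, e2]⟩))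
    rw [cx, Code.rep_mul, Code.rep_τ (tvs_lt hc), Code.rep_prod (by decide)] at hcx
    rw [Code.rep_τ (tvs_lt hc), Code.rep_prod (by decide)] at hzy
    have hl := List.all_eq_true.1 Code.pair_u.2.2.1 c hc
    simp only [hzy, hcx, Bool.not_true, Bool.false_or, bne_self_eq_false, Bool.or_eq_true, beq_iff_eq] at hl
    rcases hl with rfl | rfl
    · exact hOa d hd (mul_inv_eq_iff_eq_mul.1 (by rw [← hcd, M.T2]))
    · refine hOa d hd (comm_of_odd hOodd hd (b := a') (by rw [← hcd, M.T4]) ?_)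
      exact (hswap d (hOX hd) (by rw [← hcd, M.T4])).1
  -- the reflection and its third partner
  set j := S.f (swap 2 5) with hj
  have hj2 : j * j = 1 := by rw [hj, ← map_mul, p13_swap.2.2.1, map_one]
  have hja : j * a = a * j := by rw [hj, ha_def, ← map_mul, ← map_mul, s25.1]
  have hja' : j * a' = a' * j := by rw [hj, ha'_def, ← map_mul, ← map_mul, s25.2]
  have hjX : j ∈ X := hXm.2 (by rw [hza]; exact ((show Commute j a from hja).mul_right hja').eq)
  have htX : S.t ∈ X := hXm.2 (S.σ_commute e1W_mem.1 class_ops.1 odd_facts.1.symm)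
  have heX : S.ι (1, 0, 0) ∈ X := hXm.2 (by
    rw [hza]; exact ((show Commute (S.ι (1, 0, 0)) a from (S.f_e _).symm).mul_right (S.f_e _).symm).eq)
  have hinva : ∀ d ∈ O, a * d * a⁻¹ = d⁻¹ := fun d hd =>
    inverts ha2 (hOn a haX) (fun x hx h => hOa x hx h.symm) hd
  have hjfix : ∀ d ∈ O, d * j = j * d → d = 1 := by
    set Oj : Subgroup G := O ⊓ centralizer ({j} : Set G) with hOj
    have hOjm : ∀ {x}, x ∈ Oj ↔ x ∈ O ∧ x * j = j * x := fun {x} => by
      rw [hOj, Subgroup.mem_inf, mem_centralizer_singleton_iff]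
    have hnj : ∀ w ∈ X, w * j = j * w → ∀ x ∈ Oj, w * x * w⁻¹ ∈ Oj := fun w hwX hwj x hx =>
      hOjm.2 ⟨hOn w hwX x (hOjm.1 hx).1,
        (((show Commute w j from hwj).mul_left (hOjm.1 hx).2).mul_left (show Commute w j from hwj).inv_left).eq⟩
    have hOjodd : Odd (Nat.card Oj) := hOodd.of_dvd_nat (card_dvd_of_le inf_le_left)
    have htj : S.t * j = j * S.t := S.t_f _
    -- the reflection fixes only the identity
    have hD : ∀ x ∈ Oj, S.t * x = x * S.t → x = 1 := by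
      set D : Subgroup G := Oj ⊓ centralizer ({S.t} : Set G) with hD
      have hDm : ∀ {x}, x ∈ D ↔ x ∈ Oj ∧ x * S.t = S.t * x := fun {x} => by
        rw [hD, Subgroup.mem_inf, mem_centralizer_singleton_iff]
      intro x hx hxt
      have hxD : x ∈ D := hDm.2 ⟨hx, hxt.symm⟩
      have hnD : ∀ w ∈ X, w * j = j * w → w * S.t = S.t * w → ∀ y ∈ D, w * y * w⁻¹ ∈ D := fun w h1 h2 h3 y hy =>
        hDm.2 ⟨hnj w h1 h2 y (hDm.1 hy).1,
          (((show Commute w S.t from h3).mul_left (hDm.1 hy).2).mul_left (show Commute w S.t from h3).inv_left).eq⟩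
      have hgood : ∀ y ∈ D, (k * y = y * k ∨ k * a * y = y * (k * a)) → y = 1 := by
        intro y hy h
        obtain ⟨hy1, hy2⟩ := hDm.1 hy
        obtain ⟨hyO, hyj⟩ := hOjm.1 hy1
        obtain ⟨n, hn, hyn⟩ := odd_pow hOodd hyO
        refine S.odd_B13 hy2 ?_ ?_ hn hyn
        · rw [map_mul, S.f_u2]; exact ((show Commute y z from hXm.1 (hOX hyO)).mul_right hyj).eq
        · exact h.imp Eq.symm Eq.symm
      have hkj : k * j = j * k := by
        rw [hk, hj, ← map_mul, ← map_mul]; congr 1; decide +kernel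
      have hkt : k * S.t = S.t * k := S.f_t _
      have hat : a * S.t = S.t * a := S.f_t _
      have h1 : ∀ y ∈ D, k * y * k⁻¹ = y⁻¹ := fun y hy =>
        inverts hk2 (hnD k hkX hkj hkt) (fun w hw h => hgood w hw (Or.inl h)) hy
      have hka2 : k * a * (k * a) = z := by
        calc k * a * (k * a) = (k * a * k) * a := by group
          _ = z := by rw [hka, ← haa, hza]
      have h2 : ∀ y ∈ D, k * a * y * (k * a)⁻¹ = y⁻¹ := fun y hy =>
        invert_of_fixed (hnD (k * a) (mul_mem hkX haX) ((show Commute k j from hkj).mul_left hja.symm).eq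
            ((show Commute k S.t from hkt).mul_left hat).eq)
          (fun w hw => by rw [hka2]; exact (hXm.1 (hOX (hOjm.1 (hDm.1 hw).1).1)).symm)
          (fun w hw h => hgood w hw (Or.inr h)) hy
      refine hOa x (hOjm.1 hx).1 ?_
      have e : k * (a * x * a⁻¹) * k⁻¹ = x⁻¹ := by rw [← h2 x hxD]; group
      rw [← h1 x hxD] at e
      exact (mul_inv_eq_iff_eq_mul.1 (mul_left_cancel (mul_right_cancel e))).symm
    intro d hd hdj
    have hdO : d ∈ Oj := hOjm.2 ⟨hd, hdj⟩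
    refine hOK d hd (M.cent_e_mem ?_)
    exact e_comm_of_fixed (hnj _ htX htj) (fun x hx => by
        simpa using hnj _ (inv_mem heX) (show Commute (S.ι (1, 0, 0)) j from (S.f_e _).symm).inv_left.eq x hx)
      (hnj _ heX (S.f_e _).symm) hD hdO
  have hfin : ∀ g ∈ X, a * g * a⁻¹ * g⁻¹ = 1 ∨ a * g * a⁻¹ * g⁻¹ * z = 1 → g ∈ M.K := by
    intro g hgX h
    rcases h with h | h
    · exact hpair g hgX (mul_inv_eq_iff_eq_mul.1 (mul_inv_eq_one.1 h)).symm
    · refine (hswap g hgX ?_).2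
      have e : a * g * a⁻¹ * g⁻¹ = z := by rw [eq_inv_of_mul_eq_one_left h, inv_eq_of_mul_eq_one_right hz2]
      rw [inv_eq_of_mul_eq_one_right ha2] at e
      calc g * a * g⁻¹ = a * (a * g * a * g⁻¹) := by
            rw [show a * (a * g * a * g⁻¹) = (a * a) * g * a * g⁻¹ by group, ha2, one_mul]
        _ = a' := by rw [e, haz]
  have hFmem : ∀ g ∈ X, g * j = j * g → g ∈ M.K := by
    intro g hgX hgj
    have hwj : Commute (a * g * a⁻¹ * g⁻¹) j :=
      (((show Commute a j from hja.symm).mul_left hgj).mul_left (show Commute a j from hja.symm).inv_left).mul_left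
        (show Commute g j from hgj).inv_left
    refine hfin g hgX ?_
    rcases hOc g hgX with h | h
    · exact Or.inl (hjfix _ h hwj.eq)
    · exact Or.inr (hjfix _ h (hwj.mul_left (hXm.1 hjX).symm).eq)
  -- the reflection acts without fixed points on the core
  have htfix : ∀ d ∈ O, S.t * d = d * S.t → d = 1 := by
    set Ot : Subgroup G := O ⊓ centralizer ({S.t} : Set G) with hOt
    have hOtm : ∀ {x}, x ∈ Ot ↔ x ∈ O ∧ x * S.t = S.t * x := fun {x} => by
      rw [hOt, Subgroup.mem_inf, mem_centralizer_singleton_iff]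
    have key : ∀ l ∈ [[1, 2, 3], [1, 4, 5], [1, 6, 7]], ∀ x ∈ Ot, M.θ (prodS l) * x * (M.θ (prodS l))⁻¹ = x⁻¹ := by
      intro l hl x hx
      obtain ⟨hrz, hrt, hr2, q, f25q, fzq⟩ := M.three_data l hl
      have hcent : ∀ y, y * S.t = S.t * y → y * M.θ (prodS l) = M.θ (prodS l) * y → y ∈ M.K := by
        intro y hy1 hy2
        have e1 : ∀ p r : G, M.θ q * p * (M.θ q)⁻¹ = r → y * p = p * y →
            M.θ q * y * (M.θ q)⁻¹ * r = r * (M.θ q * y * (M.θ q)⁻¹) := fun p r e h => by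
          rw [← e]
          calc _ = M.θ q * (y * p) * (M.θ q)⁻¹ := by group
            _ = _ := by rw [h]; group
        have hK := hFmem _ (hXm.2 (e1 _ _ fzq ((show Commute y S.t from hy1).mul_right hy2).eq)) (e1 _ _ f25q hy1)
        have := mul_mem (mul_mem (inv_mem (M.θ_mem q)) hK) (M.θ_mem q)
        rwa [← mul_assoc, ← mul_assoc, inv_mul_cancel, one_mul, inv_mul_cancel_right] at this
      refine inverts hr2 (fun w hw => hOtm.2 ⟨hOn _ (hXm.2 hrz) w (hOtm.1 hw).1,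
        (((show Commute _ S.t from hrt).mul_left (hOtm.1 hw).2).mul_left (show Commute _ S.t from hrt).inv_left).eq⟩)
        (fun w hw h => hOK w (hOtm.1 hw).1 (hcent w (hOtm.1 hw).2 h.symm)) hx
    intro d hd hdt
    have hd' : d ∈ Ot := hOtm.2 ⟨hd, hdt.symm⟩
    have hprod := M.three_prod
    have h := comm_of_inverts (key [1, 2, 3] (by simp)) (key [1, 4, 5] (by simp)) hd'
    have h3 : M.θ (prodS [1, 2, 3]) * M.θ (prodS [1, 4, 5]) = (M.θ (prodS [1, 6, 7]))⁻¹ := eq_inv_of_mul_eq_one_left hprod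
    rw [h3] at h
    have h4 := key [1, 6, 7] (by simp) d hd'
    rw [← inv_inv (M.θ (prodS [1, 6, 7])), ((show Commute _ d from h).inv_left).eq, mul_assoc, inv_inv,
      mul_inv_cancel, mul_one] at h4
    exact eq_one_of_sq hOodd hd ((congrArg (d * ·) h4).trans (mul_inv_cancel d))
  have hO1 : ∀ d ∈ O, d = 1 := fun d hd => hOK d hd (M.cent_e_mem (e_comm_of_fixed (hOn _ htX)
    (fun x hx => by simpa using hOn _ (inv_mem heX) x hx) (hOn _ heX) htfix hd))
  exact hfin g₀ (hXm.2 hg₀) ((hOc g₀ (hXm.2 hg₀)).imp (hO1 _) (hO1 _))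

end Sx.Emb

end Cfsg.Lib.SpCentre
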