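import Mathlib

/-!
Chains of involutions in the symmetric group of degree six realising the Coxeter relations, and the
conjugacy of the pairs of members of a class.
-/

set_option autoImplicit false
set_option maxRecDepth 100000
set_option maxHeartbeats 2000000

namespace Cfsg.Lib.SpCentre

open Equiv

/-- the symmetric group of degree six -/
abbrev S6 := Perm (Fin 6)

/-- representatives of the involutions -/
def invRep : Fin 3 → S6 :=
  ![swap 0 1, swap 0 1 * swap 2 3 * swap 4 5, swap 0 1 * swap 2 3]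

/-- the chain of transpositions -/
def chainA : Fin 5 → S6 := fun i => swap i.castSucc i.succ

/-- the chain of triple transpositions -/
def chainT : Fin 5 → S6 :=
  ![swap 0 1 * swap 2 3 * swap 4 5, swap 0 3 * swap 1 4 * swap 2 5, swap 0 1 * swap 2 4 * swap 3 5,
    swap 0 5 * swap 1 4 * swap 2 3, swap 0 1 * swap 2 5 * swap 3 4]

/-- the two chains -/
def chain : Bool → Fin 5 → S6
  | false => chainA
  | true => chainT

/-- the two classes -/
def cls : Bool → List S6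
  | false => [swap 0 1, swap 0 2, swap 0 3, swap 0 4, swap 0 5, swap 1 2, swap 1 3, swap 1 4, swap 1 5, swap 2 3,
      swap 2 4, swap 2 5, swap 3 4, swap 3 5, swap 4 5]
  | true => [swap 0 1 * swap 2 3 * swap 4 5, swap 0 1 * swap 2 4 * swap 3 5, swap 0 1 * swap 2 5 * swap 3 4,
      swap 0 2 * swap 1 3 * swap 4 5, swap 0 2 * swap 1 4 * swap 3 5, swap 0 2 * swap 1 5 * swap 3 4,
      swap 0 3 * swap 1 2 * swap 4 5, swap 0 3 * swap 1 4 * swap 2 5, swap 0 3 * swap 1 5 * swap 2 4,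
      swap 0 4 * swap 1 2 * swap 3 5, swap 0 4 * swap 1 3 * swap 2 5, swap 0 4 * swap 1 5 * swap 2 3,
      swap 0 5 * swap 1 2 * swap 3 4, swap 0 5 * swap 1 3 * swap 2 4, swap 0 5 * swap 1 4 * swap 2 3]

/-- the words expressing the adjacent transpositions in the chain -/
def wordsT : Fin 5 → List (Fin 5) :=
  ![[0, 2, 4], [1, 0, 3, 2, 1, 4, 3], [0, 2, 3, 2, 4, 3, 2], [1, 0, 2, 1, 4], [0, 3, 2, 4, 3]]

theorem rep_support : ∀ i : Fin 3, invRep i * invRep i = 1 ∧ invRep i ≠ 1 ∧ (invRep i).support.card = ![2, 6, 4] i := by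
  decide +kernel

theorem support_even {y : S6} (hy : y * y = 1) (h1 : y ≠ 1) :
    ∃ n, y.cycleType = Multiset.replicate (n + 1) 2 ∧ y.support.card = 2 * (n + 1) := by
  have ho : orderOf y = 2 := orderOf_eq_prime (by rw [pow_two, hy]) h1
  obtain ⟨n, hn⟩ := Perm.cycleType_prime_order (σ := y) (by rw [ho]; exact Nat.prime_two)
  rw [ho] at hn
  refine ⟨n, hn, ?_⟩
  rw [← Perm.sum_cycleType, hn, Multiset.sum_replicate, smul_eq_mul, mul_comm]

theorem inv_class (y : S6) (hy : y * y = 1) (h1 : y ≠ 1) : ∃ i : Fin 3, ∃ g : S6, g * y = invRep i * g := by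
  obtain ⟨n, hn, hc⟩ := support_even hy h1
  have h6 : y.support.card ≤ 6 := le_trans (Finset.card_le_univ _) (le_of_eq (Fintype.card_fin 6))
  obtain ⟨i, hi⟩ : ∃ i : Fin 3, (![2, 6, 4] : Fin 3 → ℕ) i = 2 * (n + 1) := by
    have : n = 0 ∨ n = 1 ∨ n = 2 := by omega
    rcases this with rfl | rfl | rfl
    exacts [⟨0, rfl⟩, ⟨2, rfl⟩, ⟨1, rfl⟩]
  obtain ⟨h2, h3, h4⟩ := rep_support i
  obtain ⟨m, hm, hmc⟩ := support_even h2 h3
  have hmn : m = n := by omega
  obtain ⟨g, hg⟩ := isConj_iff.1 (Perm.isConj_iff_cycleType_eq.2 (hn.trans (hmn ▸ hm).symm))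
  exact ⟨i, g, mul_inv_eq_iff_eq_mul.1 hg⟩

theorem double_cent : ∀ q : S6, q * (q * q) = 1 → q * invRep 2 = invRep 2 * q → q = 1 := by decide +kernel

theorem rep_chain : invRep 0 = chainA 0 ∧ invRep 1 = chainT 0 := by decide +kernel

theorem cls_closed : ∀ b : Bool, ∀ g : S6, g * chain b 0 * g⁻¹ ∈ cls b := by decide +kernel

theorem pair_comm : ∀ b : Bool, ∀ z ∈ cls b, z ≠ chain b 0 → z * chain b 0 = chain b 0 * z →
    ∀ i j : Fin 5, (i : ℕ) + 1 < j ∨ (j : ℕ) + 1 < i →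
      ∃ h : S6, h * chain b 0 = chain b i * h ∧ h * z = chain b j * h := by decide +kernel

theorem pair_three : ∀ b : Bool, ∀ z ∈ cls b, z ≠ chain b 0 →
    chain b 0 * z * (chain b 0 * z * (chain b 0 * z)) = 1 →
    ∀ i j : Fin 5, ((j : ℕ) + 1 = i ∨ (i : ℕ) + 1 = j) →
      ∃ h : S6, h * chain b 0 = chain b i * h ∧ h * z = chain b j * h := by decide +kernel

theorem chain_facts : (∀ b i, chain b i * chain b i = 1) ∧
    (∀ b, ∀ i j : Fin 5, ((j : ℕ) + 1 = i ∨ (i : ℕ) + 1 = j) → (chain b i * chain b j) ^ 3 = 1) ∧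
    (∀ b, ∀ i j : Fin 5, i ≠ j → ¬ ((j : ℕ) + 1 = i ∨ (i : ℕ) + 1 = j) → (chain b i * chain b j) ^ 2 = 1) ∧
    (∀ b, ∀ i : Fin 5, ∃ h : S6, h * chain b 0 = chain b i * h) ∧
    (∀ i : Fin 5, ((wordsT i).map chainT).prod = chainA i) := by decide +kernel

end Cfsg.Lib.SpCentre
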