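import Cfsg.Agent.LocalThree.SpCentre.SixFrame

/-!
The involutions conjugate to the first sign change in the centraliser of the first basis vector, and
four classes of involutions told apart by their centralised elements of order three.
-/

set_option autoImplicit false
set_option maxRecDepth 8000
set_option linter.unusedSectionVars false
set_option synthInstance.maxSize 2000

namespace Cfsg.Lib.SpCentre

open Subgroup Equiv Cfsg.Lib.HeisSL Cfsg.Lib.AmalgamSpFour Cfsg.Lib.SymNineLocal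
open scoped MatrixGroups

universe u

/-- the double sign change -/
def uW : Op := dg (1, -1, -1)

/-- a representative of the fourth class -/
def qW : Op := cmp e1W sW

theorem class_ops : uW ∈ M48 ∧ qW ∈ M48 ∧ cmp uW uW = idW ∧ cmp qW qW = idW ∧ cW ∈ M48 ∧ sW ∈ M48 ∧
    cmp (dg (1, -1, 1)) (cmp sW (cmp (dg (1, -1, 1)) sW)) = uW ∧ app negW vZ = -vZ ∧ app qW (0, 1, 1) = (0, 1, 1) ∧
    cmp cW (cmp cW cW) = idW ∧ app cW vZ = vZ ∧ app uW (1, 0, 0) = (1, 0, 0) ∧ app sW vZ = vZ ∧ cW ≠ idW ∧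
    cmp negW cW = cmp cW negW ∧ wt (1, 0, 0) = 1 ∧ wt (0, 1, 1) = 2 ∧ wt vZ = 3 := by decide +kernel

theorem qW_fix : ∀ v : V, app qW v = v → ∃ k : ZMod 3, v = sm k (0, 1, 1) := by decide +kernel

theorem plane_one_moves_b : (allV.all fun w => !decide (w.1 = 0) || !decide (wt w = 1) ||
    M48.any fun x => decide (app x w = (1, 0, 0)) &&
      [dg (1, -1, 1), dg (1, 1, -1)].any fun y => decide (cmp x e1W = cmp y x)) = true := by decide +kernel

theorem q_moves_b : (M48.all fun x => !decide (cmp x x = idW) || !decide (app x vZ = -vZ) ||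
    allV.all fun v => !decide (wt v = 2) || !decide (csum v = 0) || !decide (app x v = v) ||
      M48.any fun y => decide (cmp y x = cmp qW y)) = true := by decide +kernel

theorem r_cycle : (∀ v : V, (⟨0, 1, 0, 1⟩ : Mdl) * mv v = mv (app cW v) * ⟨0, 1, 0, 1⟩) ∧
    ∀ v : V, ((⟨0, 1, 0, 1⟩ : Mdl) * mv v) * (((⟨0, 1, 0, 1⟩ : Mdl) * mv v) * ((⟨0, 1, 0, 1⟩ : Mdl) * mv v)) = e0 →
      ((⟨0, 1, 0, 1⟩ : Mdl) * mv v).A = 1 := by decide +kernel

theorem six_facts : (∀ a b : Fin 6, a ≠ b → swap a b ≠ swap (0 : Fin 6) 1 * swap 3 4) ∧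
    (∀ a b : Fin 6, a ≠ b → swap a b ≠ bw) ∧ bw * swap 0 1 * bw⁻¹ = swap 3 4 ∧
    swap (0 : Fin 6) 1 * ca = swap 1 2 ∧ swap (3 : Fin 6) 4 * cb = swap 4 5 ∧
    ∀ h : S6, h * (swap 0 1 * swap 3 4) = swap 0 1 * swap 3 4 * h → h ^ 16 = 1 := by decide +kernel

/-! ### General lemmas -/

section

variable {G : Type u} [Group G] [Finite G]

/-- A cyclic group of order three absorbing the `3`-elements of its centraliser catches all elements of order three. -/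
theorem three_unique {q x : G} (hx : x ^ 3 = 1) (hqx : x * q = q * x)
    (h : ∀ g, g * q = q * g → g * x = x * g → ∀ n, g ^ 3 ^ n = 1 → g ∈ zpowers x)
    {y : G} (hy : y ^ 3 = 1) (hyq : y * q = q * y) : ∃ g, g * q = q * g ∧ g * y * g⁻¹ ∈ zpowers x := by
  classical
  have : Fact (Nat.Prime 3) := ⟨Nat.prime_three⟩
  let C : Subgroup G := centralizer ({q} : Set G)
  have hC : ∀ {z : G}, z ∈ C ↔ z * q = q * z := fun {z} => mem_centralizer_singleton_iff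
  have hp : ∀ z : C, (z : G) ^ 3 = 1 → IsPGroup 3 (zpowers z) := fun z hz w => by
    refine ⟨1, Subtype.ext ?_⟩
    obtain ⟨k, hk⟩ := mem_zpowers_iff.1 w.2
    rw [SubmonoidClass.coe_pow, ← hk, pow_one, ← zpow_natCast, ← zpow_mul, mul_comm, zpow_mul, zpow_natCast,
      show z ^ 3 = 1 from Subtype.ext hz, one_zpow, OneMemClass.coe_one]
  obtain ⟨P, hP⟩ := (hp ⟨x, hC.2 hqx⟩ hx).exists_le_sylow
  have hxP : (⟨x, hC.2 hqx⟩ : C) ∈ (P : Subgroup C) := hP (mem_zpowers _)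
  have hPx : ∀ z ∈ (P : Subgroup C), (z : G) * x = x * z → (z : G) ∈ zpowers x := fun z hz e => by
    obtain ⟨n, hn⟩ := P.2 ⟨z, hz⟩
    exact h z (hC.1 z.2) e n (congrArg (fun a : (P : Subgroup C) => ((a : C) : G)) hn)
  have hall : ∀ z ∈ (P : Subgroup C), (z : G) ∈ zpowers x := by
    intro z hz
    refine hPx z hz ?_
    by_cases hx1 : x = 1
    · rw [hx1, one_mul, mul_one]
    have hnt : Nontrivial (P : Subgroup C) := ⟨⟨⟨_, hxP⟩, 1, fun e => hx1 (congrArg (fun a : (P : Subgroup C) => ((a : C) : G)) e)⟩⟩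
    have := P.2.center_nontrivial
    obtain ⟨c, hc⟩ := exists_ne (1 : center (P : Subgroup C))
    have hcx : ((c : (P : Subgroup C)) : C) * ⟨x, hC.2 hqx⟩ = ⟨x, hC.2 hqx⟩ * ((c : (P : Subgroup C)) : C) :=
      (congrArg Subtype.val (mem_center_iff.1 c.2 ⟨_, hxP⟩)).symm
    have hcz := hPx _ (c : (P : Subgroup C)).2 (congrArg Subtype.val hcx)
    have hord : orderOf x = 3 := orderOf_eq_prime hx hx1
    obtain ⟨k, hk⟩ := mem_zpowers_iff.1 hcz
    have hcne : (((c : (P : Subgroup C)) : C) : G) ≠ 1 := fun e => hc (Subtype.ext (Subtype.ext (Subtype.ext e)))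
    have hxc : x ∈ zpowers (((c : (P : Subgroup C)) : C) : G) := by
      have hle : zpowers (((c : (P : Subgroup C)) : C) : G) ≤ zpowers x := zpowers_le.2 hcz
      have hcard : orderOf (((c : (P : Subgroup C)) : C) : G) = 3 := by
        refine orderOf_eq_prime ?_ hcne
        rw [← hk, ← zpow_natCast, ← zpow_mul, mul_comm, zpow_mul, zpow_natCast, hx, one_zpow]
      have e := Subgroup.eq_of_le_of_card_ge hle (by rw [Nat.card_zpowers, Nat.card_zpowers, hord, hcard])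
      rw [e]; exact mem_zpowers x
    obtain ⟨i, hi⟩ := mem_zpowers_iff.1 hxc
    have hzc : Commute (z : G) (((c : (P : Subgroup C)) : C) : G) :=
      congrArg (fun a : C => (a : G)) (congrArg Subtype.val (mem_center_iff.1 c.2 ⟨z, hz⟩))
    rw [← hi]; exact (hzc.zpow_right i).eq
  obtain ⟨Q, hQ⟩ := (hp ⟨y, hC.2 hyq⟩ hy).exists_le_sylow
  obtain ⟨g, hg⟩ := MulAction.exists_smul_eq C Q P
  refine ⟨g, hC.1 g.2, hall (g * ⟨y, hC.2 hyq⟩ * g⁻¹) ?_⟩
  rw [← hg, Sylow.coe_subgroup_smul]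
  exact Subgroup.smul_mem_pointwise_smul _ (MulAut.conj g) _ (hQ (mem_zpowers _))

theorem conj_wt (E : Full G) {g : G} {a b : V} (h : g * E.ι a * g⁻¹ = E.ι b) : wt a = wt b := by
  obtain ⟨_, x, hx, -, hxa⟩ := E.toLoc.fusion h
  rw [← hxa, wt_inv hx]

theorem wt_pow (E : Full G) {z : G} {v : V} (hz : z ∈ zpowers (E.ι v)) (hz1 : z ≠ 1) :
    ∃ v', z = E.ι v' ∧ wt v' = wt v := by
  obtain ⟨k, hk⟩ := E.toLoc.zpow_mem hz
  refine ⟨sm k v, hk, ?_⟩
  have hne : k ≠ 0 := fun e => hz1 (by rw [hk, e, show sm 0 v = 0 by simp [sm]]; exact E.ι_zero)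
  have key : ∀ k : ZMod 3, k ≠ 0 → ∀ v : V, wt (sm k v) = wt v := by decide +kernel
  exact key k hne v

/-- An involution of the normaliser of `J` is conjugate to the lift of its action. -/
theorem invol_lift (E : Full G) {j : G} {x : Op} (hx : x ∈ M48) (hx2 : cmp x x = idW) (hj2 : j * j = 1)
    (hjx : E.Acts j x) : ∃ z : V, E.ι z * j * (E.ι z)⁻¹ = E.σ x := by
  obtain ⟨v₀, hv₀⟩ := E.toLoc.same_acts (E.σ_acts hx) hjx
  have hje : j = E.ι (app x v₀) * E.σ x := by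
    rw [← E.σ_conj hx, show E.toData.ι v₀ = (E.σ x)⁻¹ * j from hv₀, mul_inv_cancel_left]
  set u := app x v₀
  have h0 : u + app x u = 0 := E.ι_inj (by
    rw [E.ι_zero, ← hj2, hje, E.ι_add]
    calc E.ι u * E.ι (app x u) = E.ι u * E.ι (app x u) * (E.σ x * E.σ x) := by rw [E.σ_sq hx hx2, mul_one]
      _ = E.ι u * (E.σ x * E.ι u) * E.σ x := by rw [E.σ_conj hx]; group
      _ = _ := by group)
  refine ⟨u, ?_⟩
  rw [hje, ← E.ι_neg]
  calc E.ι u * (E.ι u * E.σ x) * E.ι (-u) = E.ι u * E.ι u * (E.σ x * E.ι (-u)) := by group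
    _ = E.ι (u + u + app x (-u)) * E.σ x := by rw [E.σ_conj hx, ← E.ι_add, ← mul_assoc, ← E.ι_add]
    _ = _ := by
      have e : app x (-u) = u := by
        have key : ∀ (y : Op) (a : V), app y (-a) = -app y a := fun y a => by
          simp [app, sm, Prod.ext_iff]
          refine ⟨?_, ?_, ?_⟩ <;> ring
        rw [key, eq_neg_of_add_eq_zero_right h0, neg_neg]
      have key : ∀ a : V, a + a + a = 0 := by decide +kernel
      rw [e, key, E.ι_zero, one_mul]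

end

namespace Sx

variable {G : Type u} [Group G] [Finite G] (S : Sx G)

theorem f_swap34 : S.f (swap 3 4) = S.σ (cmp sW (cmp (dg (1, -1, 1)) sW)) := by
  rw [← six_facts.2.2.1, map_mul, map_mul, map_inv, S.f_w, S.f_u, S.σ_inv class_ops.2.2.2.2.2.1 class_ops.2.2.2.2.2.1
    op_frame.2.2.2.1, mul_assoc, S.σ_mul op_frame.1 op_frame.2.1,
    S.σ_mul op_frame.2.1 (S.cmp_mem op_frame.1 op_frame.2.1)]

theorem f_u2 : S.f (swap 0 1 * swap 3 4) = S.σ uW := by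
  rw [map_mul, S.f_u, S.f_swap34, S.σ_mul op_frame.1 (S.cmp_mem op_frame.2.1 (S.cmp_mem op_frame.1 op_frame.2.1)),
    class_ops.2.2.2.2.2.2.1]

theorem f12 : S.f (swap 1 2) = S.σ (dg (1, -1, 1)) * S.ι (0, 1, 0) := by
  rw [← six_facts.2.2.2.1, map_mul, S.f_u, S.f_ca]

theorem f45 : S.f (swap 4 5) = S.σ (cmp sW (cmp (dg (1, -1, 1)) sW)) * S.ι (0, 0, 1) := by
  rw [← six_facts.2.2.2.2.1, map_mul, S.f_swap34, S.f_cb]

/-- The conjugates of `t` in the centraliser of the first basis vector are the transpositions. -/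
theorem refl_e {j : G} (hj : IsConj S.t j) (hje : j * S.ι (1, 0, 0) = S.ι (1, 0, 0) * j) :
    ∃ a b : Fin 6, a ≠ b ∧ j = S.f (swap a b) := by
  obtain ⟨h, w, hh, hw, he⟩ := S.conj_plane hj hje
  have hwt : wt w = 1 := by rw [← conj_wt S.toFull he]; exact class_ops.2.2.2.2.2.2.2.2.2.2.2.2.2.2.2.1
  have hb := List.all_eq_true.1 plane_one_moves_b w (allV_mem w)
  simp only [hw, hwt, decide_true, Bool.not_true, Bool.false_or, List.any_eq_true, Bool.and_eq_true,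
    decide_eq_true_eq] at hb
  obtain ⟨x, hx, hxw, y, hy, hxy⟩ := hb
  have hg : (S.σ x * h) * S.ι (1, 0, 0) = S.ι (1, 0, 0) * (S.σ x * h) := by
    refine mul_inv_eq_iff_eq_mul.1 ?_
    calc S.σ x * h * S.ι (1, 0, 0) * (S.σ x * h)⁻¹ = S.σ x * (h * S.ι (1, 0, 0) * h⁻¹) * (S.σ x)⁻¹ := by group
      _ = _ := by rw [he, S.σ_acts hx, hxw]
  have hyM : y ∈ M48 ∧ ∃ a b : Fin 6, a ≠ b ∧ S.σ y = S.f (swap a b) := by
    simp only [List.mem_cons, List.not_mem_nil, or_false] at hy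
    rcases hy with rfl | rfl
    · exact ⟨op_frame.1, 0, 1, by decide, S.f_u.symm⟩
    · refine ⟨sign_ops.2.1, 3, 4, by decide, ?_⟩
      rw [S.f_swap34, sign_ops.2.2.2.2.2.2.2.1]
  have hgj : S.σ x * h * j * (S.σ x * h)⁻¹ = S.σ y := by
    calc S.σ x * h * j * (S.σ x * h)⁻¹ = S.σ x * (h * j * h⁻¹) * (S.σ x)⁻¹ := by group
      _ = _ := by
        rw [hh, mul_inv_eq_iff_eq_mul]
        show S.σ x * S.σ e1W = _
        rw [S.σ_mul hx e1W_mem.1, hxy, S.σ_mul hyM.1 hx]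
  obtain ⟨k, q, hkq⟩ := S.cent_e _ hg
  obtain ⟨-, a, b, hab, hyab⟩ := hyM
  refine ⟨q⁻¹ a, q⁻¹ b, q⁻¹.injective.ne hab, ?_⟩
  have e1 : j = (S.σ x * h)⁻¹ * S.σ y * (S.σ x * h) := by rw [← hgj]; group
  have hc : ∀ p : S6, S.ι (k, 0, 0) * S.f p = S.f p * S.ι (k, 0, 0) := fun p => by
    rw [← frame_vec.2.2.2.2.1 k]
    rcases sm_cases' k (1, 0, 0) with ⟨-, e⟩ | ⟨-, e⟩ | ⟨-, e⟩ <;> rw [e]
    · rw [show S.toData.ι 0 = 1 from S.ι_zero, one_mul, mul_one]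
    · exact (S.f_e p).symm
    · rw [S.ι_add]
      exact ((show Commute (S.ι (1, 0, 0)) (S.f p) from (S.f_e p).symm).mul_left (S.f_e p).symm).eq
  rw [e1, hkq, hyab]
  calc (S.ι (k, 0, 0) * S.f q)⁻¹ * S.f (swap a b) * (S.ι (k, 0, 0) * S.f q)
      = (S.f q)⁻¹ * ((S.ι (k, 0, 0))⁻¹ * (S.f (swap a b) * S.ι (k, 0, 0))) * S.f q := by group
    _ = _ := by
      rw [← hc, inv_mul_cancel_left, ← map_inv, ← map_mul, ← map_mul]
      congr 1
      have := (Equiv.mul_swap_eq_swap_mul q⁻¹ a b)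
      rw [this, inv_mul_cancel_right]

theorem conj_swap {a b : Fin 6} (h : a ≠ b) : IsConj S.t (S.f (swap a b)) := by
  have h1 : IsConj (swap (0 : Fin 6) 1) (swap a b) := Equiv.Perm.isConj_swap (by decide) h
  refine IsConj.trans ?_ (MonoidHom.map_isConj S.f h1)
  rw [S.f_u]
  exact S.a2_conj

theorem not_u : ¬ IsConj S.t (S.σ uW) := fun h => by
  obtain ⟨a, b, hab, e⟩ := S.refl_e h (((S.σ_acts class_ops.1).fix_iff _).2 class_ops.2.2.2.2.2.2.2.2.2.2.2.1)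
  exact six_facts.1 a b hab (S.f_inj (e.symm.trans S.f_u2.symm))

theorem not_u0 : ¬ IsConj S.t (S.σ sW) := fun h => by
  obtain ⟨a, b, hab, e⟩ := S.refl_e h (((S.σ_acts class_ops.2.2.2.2.2.1).fix_iff _).2 frame_vec.2.2.2.2.2.2.2.2.2.1)
  exact six_facts.2.1 a b hab (S.f_inj (e.symm.trans S.f_w.symm))

theorem not_w : ¬ IsConj S.t (S.σ negW) := fun h => S.no_inv_three h (by
  rw [S.σ_acts negW_facts.1, class_ops.2.2.2.2.2.2.2.1, S.ι_neg])

theorem q_three {y : G} (hy : y * (y * y) = 1) (hy1 : y ≠ 1) (h : y * S.σ qW = S.σ qW * y) :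
    ∃ g v, g * y * g⁻¹ = S.ι v ∧ wt v = 2 := by
  have hv0 : S.σ qW * S.ι (0, 1, 1) = S.ι (0, 1, 1) * S.σ qW :=
    ((S.σ_acts class_ops.2.1).fix_iff _).2 class_ops.2.2.2.2.2.2.2.2.1
  obtain ⟨g, -, hg⟩ := three_unique (q := S.σ qW) (x := S.ι (0, 1, 1)) (by rw [pow_three, S.ι_cube]) hv0.symm
    (fun g hgq hgv n hn => by
      have hgN := S.cent_two class_ops.2.2.2.2.2.2.2.2.2.2.2.2.2.2.2.2.1 hgv
      obtain ⟨x, hx, hgx⟩ := S.toLoc.exists_acts hgN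
      have hb := List.all_eq_true.1 (List.all_eq_true.1 stab_cube_b x hx) (0, 1, 1) (allV_mem _)
      simp only [S.toLoc.cube_mem hgx (S.toLoc.cube_of_three hgN hn), (hgx.fix_iff _).1 hgv, decide_true, Bool.not_true,
        Bool.false_or, Bool.or_eq_true, decide_eq_true_eq] at hb
      obtain rfl : x = idW := by
        rcases hb with (hb | hb) | hb
        · rw [class_ops.2.2.2.2.2.2.2.2.2.2.2.2.2.2.2.2.1] at hb; omega
        · exact absurd hb wt_ne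
        · exact hb
      obtain ⟨v, hv⟩ := hgx.mem_J
      obtain ⟨k, rfl⟩ := qW_fix v (((S.σ_acts class_ops.2.1).fix_iff v).1 (by
        rw [show S.toData.ι v = g from hv, hgq]))
      exact hv ▸ S.toLoc.sm_mem _ k) (by rw [pow_three, hy]) h
  obtain ⟨v, hv, hwt⟩ := wt_pow S.toFull hg (fun e => hy1 (by simpa using e))
  exact ⟨g, v, hv, hwt.trans class_ops.2.2.2.2.2.2.2.2.2.2.2.2.2.2.2.2.1⟩

theorem u_three {y : G} (hy : y * (y * y) = 1) (hy1 : y ≠ 1) (h : y * S.σ uW = S.σ uW * y) :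
    ∃ g v, g * y * g⁻¹ = S.ι v ∧ wt v = 1 := by
  obtain ⟨g, -, hg⟩ := three_unique (q := S.σ uW) (x := S.ι (1, 0, 0)) (by rw [pow_three, S.ι_cube])
    (((S.σ_acts class_ops.1).fix_iff _).2 class_ops.2.2.2.2.2.2.2.2.2.2.2.1).symm
    (fun g hgu hge n hn => by
      obtain ⟨k, p, rfl⟩ := S.cent_e g hge
      have hp : p ^ 16 = 1 := six_facts.2.2.2.2.2 p (S.f_inj (by
        rw [map_mul S.f p, map_mul S.f _ p, S.f_u2]
        have hk : S.ι (k, 0, 0) * S.σ uW = S.σ uW * S.ι (k, 0, 0) :=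
          (((S.σ_acts class_ops.1).fix_iff _).2 ((show ∀ k : ZMod 3, app uW (k, 0, 0) = (k, 0, 0) by decide +kernel) k)).symm
        refine mul_left_cancel (a := S.ι (k, 0, 0)) ?_
        calc S.ι (k, 0, 0) * (S.f p * S.σ uW) = S.ι (k, 0, 0) * S.f p * S.σ uW := by group
          _ = _ := by rw [hgu, ← mul_assoc, ← mul_assoc, hk]))
      have hc : Commute (S.ι (k, 0, 0)) (S.f p) := by
        rw [← frame_vec.2.2.2.2.1 k]
        rcases sm_cases' k (1, 0, 0) with ⟨-, e⟩ | ⟨-, e⟩ | ⟨-, e⟩ <;> rw [e]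
        · rw [show S.toData.ι 0 = 1 from S.ι_zero]; exact Commute.one_left _
        · exact (S.f_e p).symm
        · rw [S.ι_add]; exact (show Commute (S.ι (1, 0, 0)) (S.f p) from (S.f_e p).symm).mul_left (S.f_e p).symm
      have hk3 : S.ι (k, 0, 0) ^ 3 ^ (n + 1) = 1 := by
        rw [pow_succ', pow_mul, pow_three, S.ι_cube, one_pow]
      have hp3 : S.f p ^ 3 ^ (n + 1) = 1 := by
        have h1 : (S.ι (k, 0, 0) * S.f p) ^ 3 ^ (n + 1) = 1 := by rw [pow_succ, pow_mul, hn, one_pow]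
        rwa [hc.mul_pow, hk3, one_mul] at h1
      have hcop : Nat.gcd 16 (3 ^ (n + 1)) = 1 := Nat.Coprime.pow_right _ (by norm_num)
      have hp1 : p = 1 := orderOf_eq_one_iff.1 (Nat.dvd_one.1 (hcop ▸ Nat.dvd_gcd (orderOf_dvd_of_pow_eq_one hp)
        (orderOf_dvd_of_pow_eq_one (S.f_inj (by rw [map_pow, hp3, map_one])))))
      rw [hp1, map_one, mul_one, ← frame_vec.2.2.2.2.1 k]
      exact S.toLoc.sm_mem _ k) (by rw [pow_three, hy]) h
  obtain ⟨v, hv, hwt⟩ := wt_pow S.toFull hg (fun e => hy1 (by simpa using e))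
  exact ⟨g, v, hv, hwt.trans class_ops.2.2.2.2.2.2.2.2.2.2.2.2.2.2.2.1⟩

theorem u_q : ¬ IsConj (S.σ uW) (S.σ qW) := fun h => by
  obtain ⟨c, hc⟩ := isConj_iff.1 h
  obtain ⟨g, v, hv, hwt⟩ := S.q_three (y := c * S.ι (1, 0, 0) * c⁻¹)
    (by
      calc _ = c * (S.ι (1, 0, 0) * (S.ι (1, 0, 0) * S.ι (1, 0, 0))) * c⁻¹ := by group
        _ = 1 := by rw [S.ι_cube]; group)
    (fun e => S.ι_ne_one frame_vec.2.2.2.2.2.1 (conj_eq_one_iff.1 e))
    (by
      rw [← hc]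
      calc c * S.ι (1, 0, 0) * c⁻¹ * (c * S.σ uW * c⁻¹) = c * (S.ι (1, 0, 0) * S.σ uW) * c⁻¹ := by group
        _ = _ := by rw [← ((S.σ_acts class_ops.1).fix_iff _).2 class_ops.2.2.2.2.2.2.2.2.2.2.2.1]; group)
  have h1 := conj_wt S.toFull (g := g * c) (a := (1, 0, 0)) (b := v) (by rw [← hv]; group)
  rw [hwt, class_ops.2.2.2.2.2.2.2.2.2.2.2.2.2.2.2.1] at h1
  omega

theorem u0_three {x : Op} (hx : x ∈ M48) {d : ℕ} (hd : d ≠ 3)
    (hall : ∀ y, y * (y * y) = 1 → y ≠ 1 → y * S.σ x = S.σ x * y → ∃ g v, g * y * g⁻¹ = S.ι v ∧ wt v = d) :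
    ¬ IsConj (S.σ sW) (S.σ x) := fun h => by
  obtain ⟨c, hc⟩ := isConj_iff.1 h
  obtain ⟨g, v, hv, hwt⟩ := hall (c * S.ι vZ * c⁻¹)
    (by
      calc _ = c * (S.ι vZ * (S.ι vZ * S.ι vZ)) * c⁻¹ := by group
        _ = 1 := by rw [S.ι_cube]; group)
    (fun e => S.ι_ne_one vZ_nz (conj_eq_one_iff.1 e))
    (by
      rw [← hc]
      calc c * S.ι vZ * c⁻¹ * (c * S.σ sW * c⁻¹) = c * (S.ι vZ * S.σ sW) * c⁻¹ := by group
        _ = _ := by rw [← ((S.σ_acts class_ops.2.2.2.2.2.1).fix_iff _).2 class_ops.2.2.2.2.2.2.2.2.2.2.2.2.1]; group)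
  have h1 := conj_wt S.toFull (g := g * c) (a := vZ) (b := v) (by rw [← hv]; group)
  rw [hwt, class_ops.2.2.2.2.2.2.2.2.2.2.2.2.2.2.2.2.2] at h1
  exact hd h1.symm

theorem u0_q : ¬ IsConj (S.σ sW) (S.σ qW) := S.u0_three class_ops.2.1 (by omega) fun _ h1 h2 h3 => S.q_three h1 h2 h3

theorem u_u0 : ¬ IsConj (S.σ sW) (S.σ uW) := S.u0_three class_ops.1 (by omega) fun _ h1 h2 h3 => S.u_three h1 h2 h3

/-- The lift of the cycle is conjugate to a vector of weight two. -/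
theorem cycle_two : ∃ g v, g * S.ι vZ = S.ι vZ * g ∧ g * S.σ cW * g⁻¹ = S.ι v ∧ wt v = 2 ∧ csum v = 0 := by
  obtain ⟨-, -, -, -, hc, -, -, -, -, hc3, hcv, -, -, hcne, -⟩ := class_ops
  obtain ⟨m, hm⟩ := S.cent _ (((S.σ_acts hc).fix_iff vZ).2 hcv)
  have hr : S.Acts (S.Ψ ⟨0, 1, 0, 1⟩) cW := fun v => mul_inv_eq_iff_eq_mul.2 (by
    show S.Ψ _ * S.Ψ (mv v) = S.Ψ (mv (app cW v)) * S.Ψ _
    rw [← S.hmul, ← S.hmul, r_cycle.1])
  obtain ⟨v₀, hv₀⟩ := S.toLoc.same_acts hr (S.σ_acts hc)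
  have hm' : m = (⟨0, 1, 0, 1⟩ : Mdl) * mv v₀ := S.inj (by
    rw [hm, S.hmul]
    exact (mul_inv_cancel_left _ _).symm.trans (congrArg (S.Ψ ⟨0, 1, 0, 1⟩ * ·) hv₀.symm))
  have hm3 : m * (m * m) = e0 := S.inj (by
    rw [S.hmul, S.hmul, hm, S.σ_mul hc hc, S.σ_mul hc (S.cmp_mem hc hc), hc3, S.σ_id, S.toData.Ψ_one])
  have hA : m.A = 1 := by rw [hm']; exact r_cycle.2 v₀ (hm' ▸ hm3)
  obtain ⟨k, -, v, hv⟩ := cube_cover m hm3
  have e := congrArg (fun x : Mdl => x.A) hv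
  simp only [mul_A, hA, one_mul] at e
  have hcs : csum v = 0 := (mv_csum v).1 (mul_eq_left.1 e.symm)
  have hconj : (S.Ψ k)⁻¹ * S.σ cW * S.Ψ k = S.ι v := by
    rw [← hm, mul_assoc, ← S.hmul, hv, S.hmul, inv_mul_cancel_left]; rfl
  have hcomm : Commute (S.Ψ k) (S.ι vZ) := S.toLoc.Ψ_comm_a k
  have hJ : ∀ z ∈ zpowers (S.ι vZ), S.ι v ≠ z := by
    intro z hz hvz
    obtain ⟨n, hn⟩ := mem_zpowers_iff.1 hz
    have e2 : S.σ cW = S.ι v := by
      rw [← hconj]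
      have hc2 : Commute (S.Ψ k) (S.ι v) := by rw [hvz, ← hn]; exact hcomm.zpow_right n
      calc S.σ cW = S.Ψ k * ((S.Ψ k)⁻¹ * S.σ cW * S.Ψ k) * (S.Ψ k)⁻¹ := by group
        _ = _ := by rw [hconj, hc2.eq, mul_inv_cancel_right]
    exact hcne (Data.Acts.unique (S.σ_acts hc) (e2 ▸ Data.acts_ι v))
  refine ⟨(S.Ψ k)⁻¹, v, hcomm.inv_left.eq, by rw [inv_inv]; exact hconj, eps_facts.2 v hcs ?_ ?_ ?_, hcs⟩
  · exact fun e => hJ 1 (one_mem _) (by rw [e]; exact S.ι_zero)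
  · exact fun e => hJ _ (mem_zpowers _) (by rw [e])
  · exact fun e => hJ _ (inv_mem (mem_zpowers _)) (by rw [e]; exact S.ι_neg _)

/-- The product of the three sign changes is conjugate to the fourth representative. -/
theorem w_q : IsConj (S.σ negW) (S.σ qW) := by
  obtain ⟨g, v, hga, hgv, hwt, hcs⟩ := S.cycle_two
  obtain ⟨-, hq, -, -, hc, -, -, hneg, -, -, -, -, -, -, hnc, -⟩ := class_ops
  have hj2 : g * S.σ negW * g⁻¹ * (g * S.σ negW * g⁻¹) = 1 := by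
    calc _ = g * (S.σ negW * S.σ negW) * g⁻¹ := by group
      _ = 1 := by rw [S.σ_sq negW_facts.1 negW_facts.2.2.1]; group
  have hjv : g * S.σ negW * g⁻¹ * S.ι v = S.ι v * (g * S.σ negW * g⁻¹) := by
    rw [← hgv]
    calc g * S.σ negW * g⁻¹ * (g * S.σ cW * g⁻¹) = g * (S.σ negW * S.σ cW) * g⁻¹ := by group
      _ = _ := by rw [S.σ_commute negW_facts.1 hc hnc]; group
  obtain ⟨x, hx, hjx⟩ := S.toLoc.exists_acts (S.cent_two hwt hjv)
  have hx2 : cmp x x = idW := Data.Acts.unique (hjx.mul hjx) (by rw [hj2]; exact Data.acts_one)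
  have hxa : app x vZ = -vZ := S.ι_inj (by
    rw [← hjx vZ, S.ι_neg]
    calc g * S.σ negW * g⁻¹ * S.ι vZ * (g * S.σ negW * g⁻¹)⁻¹
        = g * (S.σ negW * (g⁻¹ * (S.ι vZ * g)) * (S.σ negW)⁻¹) * g⁻¹ := by group
      _ = g * (S.ι vZ)⁻¹ * g⁻¹ := by rw [← hga, inv_mul_cancel_left, S.σ_acts negW_facts.1, hneg, S.ι_neg]
      _ = _ := by rw [show g * (S.ι vZ)⁻¹ = (S.ι vZ)⁻¹ * g from (show Commute g (S.ι vZ) from hga).inv_right.eq,
            mul_inv_cancel_right])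
  have hb0 := List.all_eq_true.1 q_moves_b x hx
  simp only [hx2, hxa, decide_true, Bool.not_true, Bool.false_or] at hb0
  have hb := List.all_eq_true.1 hb0 v (allV_mem v)
  simp only [hwt, hcs, (hjx.fix_iff v).1 hjv, decide_true, Bool.not_true, Bool.false_or, List.any_eq_true,
    decide_eq_true_eq] at hb
  obtain ⟨y, hy, hyx⟩ := hb
  obtain ⟨z, hz⟩ := invol_lift S.toFull hx hx2 hj2 hjx
  refine isConj_iff.2 ⟨S.σ y * S.ι z * g, ?_⟩
  calc S.σ y * S.ι z * g * S.σ negW * (S.σ y * S.ι z * g)⁻¹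
      = S.σ y * (S.ι z * (g * S.σ negW * g⁻¹) * (S.ι z)⁻¹) * (S.σ y)⁻¹ := by group
    _ = _ := by rw [hz, mul_inv_eq_iff_eq_mul, S.σ_mul hy hx, hyx, S.σ_mul hq hy]

theorem u_w : ¬ IsConj (S.σ uW) (S.σ negW) := fun h => S.u_q (h.trans S.w_q)

theorem u0_w : ¬ IsConj (S.σ sW) (S.σ negW) := fun h => S.u0_q (h.trans S.w_q)

end Sx

end Cfsg.Lib.SpCentre
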