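import Cfsg.Agent.LocalThree.SpCentre.CodeData

/-!
Computations in the symplectic group of degree six over two elements, with matrices packed into natural
numbers by the images of the six unit vectors.
-/

set_option autoImplicit false
set_option maxRecDepth 100000
set_option maxHeartbeats 2000000

namespace Cfsg.Lib.SpCentre.Code

/-- the symplectic form on codes -/
def bform (a b : ℕ) : Bool :=
  ((a.testBit 0 && b.testBit 3) ^^ (a.testBit 3 && b.testBit 0)) ^^
    (((a.testBit 1 && b.testBit 4) ^^ (a.testBit 4 && b.testBit 1)) ^^
      ((a.testBit 2 && b.testBit 5) ^^ (a.testBit 5 && b.testBit 2)))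

/-- the transvection on vectors -/
def tvA (c x : ℕ) : ℕ := x ^^^ (bif bform c x then c else 0)

/-- one term of the action -/
def term (g x i : ℕ) : ℕ := bif x.testBit i then (g >>> (6 * i)) % 64 else 0

/-- the action -/
def ap (g x : ℕ) : ℕ := term g x 0 ^^^ (term g x 1 ^^^ (term g x 2 ^^^ (term g x 3 ^^^ (term g x 4 ^^^ term g x 5))))

/-- packing of the images of the unit vectors -/
def pk (f : ℕ → ℕ) : ℕ := f 1 + 64 * (f 2 + 64 * (f 4 + 64 * (f 8 + 64 * (f 16 + 64 * f 32))))

/-- the product -/
def mul (g h : ℕ) : ℕ := pk fun x => ap g (ap h x)

/-- the unit -/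
def one : ℕ := pk id

/-- the transvection -/
def tvC (c : ℕ) : ℕ := pk (tvA c)

/-- a product of transvections -/
def prodC (l : List ℕ) : ℕ := l.foldr (fun c g => mul (tvC c) g) one

/-- the centres of the seven generators -/
def cent (i : ℕ) : ℕ := [32, 1, 5, 8, 3, 16, 2].getD i 0

/-- the value of a word -/
def wordC (w : List ℕ) : ℕ := prodC (w.map cent)

/-- subsets of the six transvections generating the group fixing the standard Lagrangian -/
def spanSets : List (List ℕ) :=
  (List.range 64).map fun n => ((List.range 6).filter fun i => n.testBit i).map fun i => [1, 2, 4, 3, 5, 6].getD i 0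

/-- the class representatives -/
def repSet (j : ℕ) : List ℕ := [[], [1], [2, 4], [2, 4, 6], [1, 2, 4]].getD j []

/-- reduction of a vector against a list -/
def red (B : List ℕ) (v : ℕ) : ℕ := B.foldl (fun v b => bif Nat.blt (v ^^^ b) v then v ^^^ b else v) v

/-- the dimension of the span of a list of vectors -/
def rk (l : List ℕ) : ℕ :=
  (l.foldl (fun B v => let r := red B v; bif r == 0 then B else B ++ [r]) []).length

/-- the unit vectors -/
def units : List ℕ := [1, 2, 4, 8, 16, 32]

/-- whether the involution is alternating -/
def alt (g : ℕ) : Bool := units.all fun x => !bform x (ap g x)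

/-- the class of an involution -/
def cl (g : ℕ) : ℕ :=
  let r := rk (units.map fun x => x ^^^ ap g x)
  bif r == 2 then (bif alt g then 3 else 2) else bif r == 3 then 4 else r

/-- commuting elements -/
def cm (g h : ℕ) : Bool := mul g h == mul h g

/-- the conjugate of an element fixing the standard Lagrangian -/
def conjC (i n : ℕ) : ℕ := mul (lagCodes.getD i 0) (mul (spanCodes.getD n 0) (lagInvs.getD i 0))

/-- the transvections -/
def tvs : List ℕ := (List.range 63).map fun i => i + 1

/-- good elements for the centraliser of a reflection and the third representative -/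
def okB (e : ℕ) : Bool :=
  let u0 := prodC [2, 4, 6]
  let t := tvC 1
  let E := [one, t, u0, mul t u0]
  !E.elem e && E.any fun x => cl (mul e x) == 2 || (cl (mul e x) == 1 && mul e x != t)

/-- good elements for the centraliser of a reflection -/
def okM (e : ℕ) : Bool :=
  let t := tvC 1
  let c := cl e
  let d := cl (mul e t)
  e != t && (c == 2 || d == 2 || c == 1 || d == 1 || (c == 3 && d == 4) || (c == 4 && d == 3))

/-- the condition on an involution in the proof for a reflection and the third representative -/
def critB (e : ℕ) : Bool :=
  let u0 := prodC [2, 4, 6]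
  let t := tvC 1
  let z := prodC [2, 3]
  e == one || !(cm e t) || !(cm e z) || !(cm e u0) ||
    !([one, t, u0, mul t u0].all fun x => cl (mul (mul z e) x) == cl (mul z x)) || okB e

/-- the condition on an involution in the proof for a reflection -/
def critM (e : ℕ) : Bool :=
  let t := tvC 1
  let z := prodC [2, 4, 6]
  e == one || !(cm e t) || !(cm e z) ||
    !(cl (mul z e) == cl z && cl (mul (mul z e) t) == cl (mul z t)) || okM e

/-- the three checks for the conjugates by nine consecutive words -/
def chunk (k : ℕ) : Bool :=
  (List.range 9).all fun j => (List.range 64).all fun n =>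
    let e := conjC (9 * k + j) n
    cl e == cl (spanCodes.getD n 0) && critB e && critM e

/-- the masks of the halves -/
def half (i : ℕ) : ℕ :=
  [6148914691236517205, 3689348814741910323, 1085102592571150095, 71777214294589695, 281470681808895,
    4294967295].getD i 0

/-- translation of a set of vectors by a unit vector -/
def flip1 (U i : ℕ) : ℕ := ((U &&& half i) <<< (2 ^ i)) ||| ((U >>> (2 ^ i)) &&& half i)

/-- translation of a set of vectors -/
def shiftV (S v : ℕ) : ℕ := (List.range 6).foldl (fun U i => bif v.testBit i then flip1 U i else U) S

theorem ap_bound : ∀ c x : Fin 64, ap (tvC c.val) x.val = tvA c.val x.val ∧ tvA c.val x.val < 64 := by decide +kernel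

theorem iso_top : (isoTree.toList.all fun S => lagList.any fun L => S &&& L == S) = true := by decide +kernel

theorem non_perp : ((List.range 64).all fun v => (List.range 64).all fun x =>
    (nonPerp.getD v 0).testBit x == bform x v) = true := by decide +kernel

theorem iso_step : (isoTree.toList.all fun S => (List.range 64).all fun v => S.testBit v ||
    (S &&& nonPerp.getD v 0) != 0 || isoTree.mem (S ||| shiftV S v)) = true := by decide +kernel

theorem shift_spec : ((List.range 6).all fun i => (List.range 64).all fun x =>
    flip1 (2 ^ x) i == 2 ^ (x ^^^ 2 ^ i)) = true := by decide +kernel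

theorem lag_word : ((List.range 135).all fun i => (List.range 64).all fun x =>
    (lagList.getD i 0).testBit x == Nat.blt (ap (lagInvs.getD i 0) x) 8) = true := by decide +kernel

theorem code_values : ((List.range 135).all fun i => lagCodes.getD i 0 == wordC (lagWords.getD i []) &&
    lagInvs.getD i 0 == wordC (lagWords.getD i []).reverse) = true ∧
    (spanCodes == spanSets.map prodC) = true := by decide +kernel

theorem iso_zero : isoTree.mem 1 = true := by decide +kernel

theorem fix_eight : ((List.range 64).all fun a => !(bform 1 a && !bform 2 a && !bform 4 a) ||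
    (List.range 64).all fun b => !(!bform 1 b && bform 2 b && !bform 4 b && !bform a b) ||
      (List.range 64).all fun c => !(!bform 1 c && !bform 2 c && bform 4 c && !bform a c && !bform b c) ||
        spanCodes.elem (1 + 64 * (2 + 64 * (4 + 64 * (a + 64 * (b + 64 * c)))))) = true := by decide +kernel

theorem span_class : ((List.range 64).all fun n =>
    mul (wordC (spanWit.getD n [])) (mul (spanCodes.getD n 0) (wordC (spanWit.getD n []).reverse)) ==
      prodC (repSet (cl (spanCodes.getD n 0))) && Nat.blt (cl (spanCodes.getD n 0)) 5 &&
        (cl (spanCodes.getD n 0) != 0 || spanCodes.getD n 0 == one)) = true := by decide +kernel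

theorem tv_class : (tvs.all fun v => cl (tvC v) == 1) = true := by decide +kernel

theorem refl_tv : (spanCodes.all fun h => cl h != 1 || (tvs.map tvC).elem h) = true := by decide +kernel

theorem conj_tv : ((List.range 7).all fun i => tvs.all fun v =>
    tvC (ap (tvC (cent i)) v) == mul (tvC (cent i)) (mul (tvC v) (tvC (cent i)))) = true := by decide +kernel

/-- two commuting transvections with a product conjugate to `[2, 4]` -/
theorem pair_u : (tvs.all fun a => tvs.all fun b => !(cm (tvC a) (tvC b)) || a == b ||
      cl (mul (tvC a) (tvC b)) == 2) = true ∧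
    (tvs.all fun a => tvs.all fun b => mul (tvC a) (tvC b) != prodC [2, 4] || (a == 2 && b == 4) || (a == 4 && b == 2))
      = true ∧
    (tvs.all fun a => !(cm (tvC a) (prodC [2, 4])) || cl (mul (tvC a) (prodC [2, 4])) != 1 || a == 2 || a == 4) = true ∧
    (tvs.all fun a => !(cm (tvC a) (prodC [2, 4])) || cl (mul (tvC a) (prodC [2, 4])) != 3 || a == 6) = true := by
  decide +kernel

/-- a transvection whose product with the fourth representative is alternating is determined -/
theorem pair_w : (tvs.all fun a => !(cm (tvC a) (prodC [1, 2, 4])) || cl (mul (tvC a) (prodC [1, 2, 4])) != 3 || a == 7)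
    = true := by decide +kernel

/-- the third transvection of an isotropic line -/
theorem line_unique : (tvs.all fun a => !(cm (tvC a) (tvC 2)) || !(cm (tvC a) (tvC 4)) ||
    cl (mul (tvC 2) (mul (tvC 4) (tvC a))) != 3 || a == 6) = true := by decide +kernel

/-- the three involutions used for the odd core -/
theorem three_r : ([[1, 2, 3], [1, 4, 5], [1, 6, 7]].all fun l => cl (prodC l) == 3 && cm (prodC l) (prodC [2, 4]) &&
      cm (prodC l) (tvC 1) && cl (mul (tvC 1) (prodC l)) == 2) = true ∧
    mul (prodC [1, 2, 3]) (mul (prodC [1, 4, 5]) (prodC [1, 6, 7])) = one := by decide +kernel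

/-- the involutions used for the last two classes -/
theorem criterion_Y : ([([1, 3], [1, 2, 4]), ([1, 2], [2, 4, 6])].all fun p =>
    let z := prodC p.1
    let c := prodC p.2
    cl z == 2 && cm z c && mul z z == one && tvs.all fun a =>
      !(cm (tvC a) z && cm (tvC a) c) || cl (mul (tvC a) c) != 2 ||
        (let e := mul z (tvC a)
         cl e == 1 || cl e == 2 || cl (mul e c) == 1 || cl (mul e c) == 2)) = true := by decide +kernel

/-- the exceptional elements of the centraliser of the second representative -/
theorem criterion_U : (tvs.all fun a => !(cm (tvC a) (prodC [2, 4])) || a == 2 || a == 4 ||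
    (let e := mul (prodC [2, 4]) (tvC a)
     cl e == 3 || cl e == 4)) = true := by decide +kernel

theorem criterion_B :
    let u0 := prodC [2, 4, 6]
    let t := tvC 1
    let z := prodC [2, 3]
    (tvs.all fun a => !(cm (tvC a) z && cm (tvC a) t && cm (tvC a) u0) || okB (mul z (tvC a))) = true ∧
    cm z t = true ∧ cm z u0 = true ∧ cl z = 2 ∧ mul z z = one ∧ cl (mul t u0) = 4 ∧
    (tvs.all fun a => !(cm (tvC a) t && cm (tvC a) u0) || a == 1 || cl (mul (tvC a) u0) == 2 || cl (mul (tvC a) u0) == 4)
      = true := by decide +kernel

theorem criterion_M :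
    let t := tvC 1
    let z := prodC [2, 4, 6]
    (tvs.all fun a => !(cm (tvC a) z && cm (tvC a) t) || okM (mul z (tvC a))) = true := by decide +kernel

end Cfsg.Lib.SpCentre.Code
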