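import Mathlib

/-!
Two commuting fixed-point-free automorphisms of order three of a nilpotent group of order prime to three.
-/

set_option autoImplicit false
set_option linter.unusedSectionVars false

namespace Cfsg.Lib.SpCentre

open Subgroup

universe u

section Coset

variable {G : Type u} [Group G] [Finite G]

/-- An invariant coset of a subgroup of order prime to three contains a fixed element. -/
theorem coset_fixed (N : Subgroup G) (hN : (Nat.card N).Coprime 3) {v : G} (hv : v * (v * v) = 1)
    (hvN : ∀ n ∈ N, v * n * v⁻¹ ∈ N) {g : G} (hg : g⁻¹ * (v * g * v⁻¹) ∈ N) :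
    ∃ n ∈ N, v * (g * n) = g * n * v := by
  classical
  have : Fact (Nat.Prime 3) := ⟨Nat.prime_three⟩
  let := Fintype.ofFinite N
  let f : N → N := fun n => ⟨g⁻¹ * (v * g * v⁻¹) * (v * n * v⁻¹), mul_mem hg (hvN n n.2)⟩
  have hf : ∀ n : N, g * (f n : G) = v * (g * n) * v⁻¹ := fun n => by
    show g * (g⁻¹ * (v * g * v⁻¹) * (v * n * v⁻¹)) = _
    group
  have h3 : ∀ n : N, f (f (f n)) = n := fun n => Subtype.ext (mul_left_cancel (a := g) (by
    rw [hf, hf, hf]
    calc v * (v * (v * (g * n) * v⁻¹) * v⁻¹) * v⁻¹ = v * (v * v) * (g * n) * (v * (v * v))⁻¹ := by group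
      _ = _ := by rw [hv, one_mul, inv_one, mul_one]))
  let σ : Equiv.Perm N := ⟨f, fun n => f (f n), h3, h3⟩
  obtain ⟨n, hn⟩ := Equiv.Perm.exists_fixed_point_of_prime (p := 3) (n := 1) (σ := σ) (fun h => by
    rw [← Nat.card_eq_fintype_card] at h
    exact absurd (Nat.dvd_one.1 (hN.gcd_eq_one ▸ Nat.dvd_gcd h dvd_rfl)) (by norm_num))
    (Equiv.ext fun n => by rw [pow_one, pow_succ, pow_two]; exact h3 n)
  refine ⟨n, n.2, ?_⟩
  have := hf n
  rw [show f n = n from hn] at this
  exact (mul_inv_eq_iff_eq_mul.1 this.symm)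

end Coset

section Auto

variable {M : Type u} [Group M] [Finite M]

theorem cube_root {N : Subgroup M} (hco : (Nat.card N).Coprime 3) {m : M} (hm : m ∈ N) :
    ∃ k : ℕ, (m ^ 3) ^ k = m := by
  have h1 : orderOf m ∣ Nat.card N := orderOf_mk m hm ▸ orderOf_dvd_natCard _
  obtain ⟨k, hk⟩ := exists_pow_eq_self_of_coprime (x := m) (n := 3) ((hco.coprime_dvd_left h1).symm)
  exact ⟨k, hk⟩

/-- Decomposition of the centre. -/
theorem center_decomp (hco : (Nat.card M).Coprime 3) (α β : MulAut M) (hα3 : ∀ m, α (α (α m)) = m)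
    (hβ3 : ∀ m, β (β (β m)) = m) (hc : ∀ m, α (β m) = β (α m)) (hα : ∀ m, α m = m → m = 1)
    (hβ : ∀ m, β m = m → m = 1) {m : M} (hm : m ∈ center M) :
    ∃ p ∈ center M, ∃ q ∈ center M, α (β p) = p ∧ α (β (β q)) = q ∧ m = p * q := by
  classical
  have hmem : ∀ (φ : MulAut M) {x : M}, x ∈ center M → φ x ∈ center M := fun φ x hx =>
    mem_center_iff.2 fun y => by
      obtain ⟨z, rfl⟩ := φ.surjective y
      rw [← map_mul, ← map_mul, mem_center_iff.1 hx z]
  let Z := center M
  letI : CommGroup Z := { (inferInstance : Group Z) with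
    mul_comm := fun a b => Subtype.ext (mem_center_iff.1 b.2 a) }
  obtain ⟨k, hk⟩ := cube_root (N := Z) (hco.coprime_dvd_left (card_subgroup_dvd_card Z)) hm
  let a : Z → Z := fun x => ⟨α x, hmem α x.2⟩
  let b : Z → Z := fun x => ⟨β x, hmem β x.2⟩
  have ha : ∀ x y, a (x * y) = a x * a y := fun x y => Subtype.ext (map_mul α (x : M) y)
  have hb : ∀ x y, b (x * y) = b x * b y := fun x y => Subtype.ext (map_mul β (x : M) y)
  have ha3 : ∀ x, a (a (a x)) = x := fun x => Subtype.ext (hα3 x)
  have hb3 : ∀ x, b (b (b x)) = x := fun x => Subtype.ext (hβ3 x)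
  have hab : ∀ x, a (b x) = b (a x) := fun x => Subtype.ext (hc x)
  let x : Z := ⟨m, hm⟩
  let g : Z → Z := fun y => a (b y)
  let d : Z → Z := fun y => a (b (b y))
  let p : Z := x * g x * g (g x)
  let q : Z := x * d x * d (d x)
  have hNa : ∀ y : Z, y * a y * a (a y) = 1 := fun y => Subtype.ext (hα _ (by
    show ((a (y * a y * a (a y)) : Z) : M) = ((y * a y * a (a y) : Z) : M)
    congr 1
    rw [ha, ha, ha3, mul_comm (a y * a (a y)) y, mul_assoc]))
  have hNb : ∀ y : Z, y * b y * b (b y) = 1 := fun y => Subtype.ext (hβ _ (by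
    show ((b (y * b y * b (b y)) : Z) : M) = ((y * b y * b (b y) : Z) : M)
    congr 1
    rw [hb, hb, hb3, mul_comm (b y * b (b y)) y, mul_assoc]))
  have hg3 : g (g (g x)) = x := by
    simp only [g, hab, hb3, ha3]
  have hd3 : d (d (d x)) = x := by
    simp only [d, hab, hb3, ha3]
  have hgm : ∀ y z, g (y * z) = g y * g z := fun y z => by simp only [g, hb, ha]
  have hdm : ∀ y z, d (y * z) = d y * d z := fun y z => by simp only [d, hb, ha]
  have hp : g p = p := by
    simp only [p, hgm, hg3]
    rw [mul_comm (g x * g (g x)) x, mul_assoc]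
  have hq : d q = q := by
    simp only [q, hdm, hd3]
    rw [mul_comm (d x * d (d x)) x, mul_assoc]
  have hnine : p * q = x * x * x := by
    have h1 : (x * a x * a (a x)) * (x * b x * b (b x)) * (p * q) =
        (x * x * x) * ((x * b x * b (b x)) * a (x * b x * b (b x)) * a (a (x * b x * b (b x)))) := by
      simp only [p, q, g, d, ha, hb, hab, hb3]
      ac_rfl
    rwa [hNa, hNb, hNa, one_mul, one_mul, mul_one] at h1
  refine ⟨((p ^ k : Z) : M), (p ^ k).2, ((q ^ k : Z) : M), (q ^ k).2, ?_, ?_, ?_⟩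
  · rw [SubmonoidClass.coe_pow, map_pow, map_pow, show α (β (p : M)) = p from congrArg Subtype.val hp]
  · rw [SubmonoidClass.coe_pow, map_pow, map_pow, map_pow, show α (β (β (q : M))) = q from congrArg Subtype.val hq]
  · rw [← Subgroup.coe_mul, ← mul_pow, hnine, SubmonoidClass.coe_pow, Subgroup.coe_mul, Subgroup.coe_mul]
    rw [show (x : M) * x * x = m ^ 3 by rw [pow_three, mul_assoc]]
    exact hk.symm

theorem lift_fixed {Z : Subgroup M} [Z.Normal] (hco : (Nat.card Z).Coprime 3) (φ : MulAut M)
    (hφ3 : ∀ m, φ (φ (φ m)) = m) (hφZ : ∀ z ∈ Z, φ z ∈ Z) {m : M} (hm : m⁻¹ * φ m ∈ Z) :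
    ∃ z ∈ Z, φ (m * z) = m * z := by
  classical
  have : Fact (Nat.Prime 3) := ⟨Nat.prime_three⟩
  let := Fintype.ofFinite Z
  let f : Z → Z := fun n => ⟨m⁻¹ * φ m * φ n, mul_mem hm (hφZ n n.2)⟩
  have hf : ∀ n : Z, m * (f n : M) = φ (m * n) := fun n => by
    show m * (m⁻¹ * φ m * φ n) = _
    rw [map_mul]; group
  have h3 : ∀ n : Z, f (f (f n)) = n := fun n => Subtype.ext (mul_left_cancel (a := m) (by
    rw [hf, hf, hf, hφ3]))
  let σ : Equiv.Perm Z := ⟨f, fun n => f (f n), h3, h3⟩
  obtain ⟨n, hn⟩ := Equiv.Perm.exists_fixed_point_of_prime (p := 3) (n := 1) (σ := σ) (fun h => by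
    rw [← Nat.card_eq_fintype_card] at h
    exact absurd (Nat.dvd_one.1 (hco.gcd_eq_one ▸ Nat.dvd_gcd h dvd_rfl)) (by norm_num))
    (Equiv.ext fun n => by rw [pow_one, pow_succ, pow_two]; exact h3 n)
  refine ⟨n, n.2, ?_⟩
  have := hf n
  rw [show f n = n from hn] at this
  exact this.symm

/-- Two fixed-point-free automorphisms: the group is abelian and generated by the fixed points of the products. -/
theorem two_fix [Group.IsNilpotent M] (hco : (Nat.card M).Coprime 3) (α β : MulAut M) (hα3 : ∀ m, α (α (α m)) = m)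
    (hβ3 : ∀ m, β (β (β m)) = m) (hc : ∀ m, α (β m) = β (α m)) (hα : ∀ m, α m = m → m = 1)
    (hβ : ∀ m, β m = m → m = 1)
    (hsym : ∀ z ∈ center M, z ≠ 1 → (α (β z) = z ∨ α (β (β z)) = z) →
      ∀ y, (α (β y) = y ∨ α (β (β y)) = y) → y ∈ center M) :
    (∀ m n : M, m * n = n * m) ∧ ∀ m : M, ∃ p q, α (β p) = p ∧ α (β (β q)) = q ∧ m = p * q := by
  classical
  have hcenter : center M = ⊤ := by
    by_contra htop
    have hnt : Nontrivial M := by
      by_contra h
      rw [not_nontrivial_iff_subsingleton] at h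
      exact htop (eq_top_iff.2 fun x _ => by rw [Subsingleton.elim x 1]; exact one_mem _)
    -- every fixed point is central
    have hall : ∀ y, (α (β y) = y ∨ α (β (β y)) = y) → y ∈ center M := by
      haveI : Nontrivial (center M) := (Subgroup.nontrivial_iff_ne_bot _).2 ((Group.IsNilpotent.center_ne_bot M))
      obtain ⟨z, hz⟩ := exists_ne (1 : center M)
      obtain ⟨p, hp, q, hq, hpf, hqf, e⟩ := center_decomp hco α β hα3 hβ3 hc hα hβ z.2
      by_cases hp1 : p = 1
      · refine hsym q hq (fun hq1 => hz (Subtype.ext (by rw [e, hp1, hq1, one_mul]; rfl))) (Or.inr hqf)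
      · exact hsym p hp hp1 (Or.inl hpf)
    have hcZ : (Nat.card (center M)).Coprime 3 := hco.coprime_dvd_left (card_subgroup_dvd_card _)
    have hmem : ∀ (φ : MulAut M), ∀ x ∈ center M, φ x ∈ center M := fun φ x hx => mem_center_iff.2 fun y => by
      obtain ⟨z, rfl⟩ := φ.surjective y
      rw [← map_mul, ← map_mul, mem_center_iff.1 hx z]
    have hmap : ∀ φ : MulAut M, (center M).map φ.toMonoidHom = center M := fun φ =>
      Subgroup.eq_of_le_of_card_ge (by rintro _ ⟨x, hx, rfl⟩; exact hmem φ x hx)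
        (by rw [card_map_of_injective φ.injective])
    let Q := M ⧸ center M
    let ind : MulAut M → MulAut Q := fun φ => QuotientGroup.congr (center M) (center M) φ (hmap φ)
    have hind : ∀ (φ : MulAut M) (x : M), ind φ (x : Q) = ((φ x : M) : Q) := fun φ x => rfl
    have hi3 : ∀ φ : MulAut M, (∀ x, φ (φ (φ x)) = x) → ∀ y : Q, ind φ (ind φ (ind φ y)) = y := fun φ h y => by
      induction y using QuotientGroup.induction_on with
      | _ x => rw [hind, hind, hind, h]
    have hfree : ∀ φ : MulAut M, (∀ x, φ (φ (φ x)) = x) → (∀ x, φ x = x → x = 1) →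
        ∀ y : Q, ind φ y = y → y = 1 := fun φ h3 hf y => by
      induction y using QuotientGroup.induction_on with
      | _ x =>
        intro e
        rw [hind] at e
        obtain ⟨z, hz, he⟩ := lift_fixed hcZ φ h3 (hmem φ) (QuotientGroup.eq.1 e.symm)
        rw [QuotientGroup.eq_one_iff, eq_inv_of_mul_eq_one_left (hf _ he)]
        exact inv_mem hz
    have hQco : (Nat.card Q).Coprime 3 := by
      refine hco.coprime_dvd_left ?_
      rw [Subgroup.card_eq_card_quotient_mul_card_subgroup (center M)]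
      exact dvd_mul_right _ _
    have hQc : center Q = ⊥ := by
      refine (Subgroup.eq_bot_iff_forall _).2 fun y hy => ?_
      obtain ⟨p, -, q, -, hp, hq, e⟩ := center_decomp hQco (ind α) (ind β) (hi3 α hα3) (hi3 β hβ3)
        (fun y => by
          induction y using QuotientGroup.induction_on with
          | _ x => rw [hind, hind, hind, hind, hc])
        (hfree α hα3 hα) (hfree β hβ3 hβ) hy
      have key : ∀ φ : MulAut M, (∀ x, φ (φ (φ x)) = x) → (∀ x, φ x = x → x ∈ center M) →
          ∀ r : Q, ind φ r = r → r = 1 := fun φ h3 hf r => by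
        induction r using QuotientGroup.induction_on with
        | _ x =>
          intro e
          rw [hind] at e
          obtain ⟨z, hz, he⟩ := lift_fixed hcZ φ h3 (hmem φ) (QuotientGroup.eq.1 e.symm)
          rw [QuotientGroup.eq_one_iff]
          have := mul_mem (hf _ he) (inv_mem hz)
          rwa [mul_inv_cancel_right] at this
      have hp1 : p = 1 := by
        refine key (α * β) (fun x => ?_) (fun x h => hall x (Or.inl h)) p ?_
        · simp only [MulAut.mul_apply, hc, hβ3, hα3]
        · induction p using QuotientGroup.induction_on with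
          | _ x => rw [hind, hind] at hp; rw [hind, MulAut.mul_apply]; exact hp
      have hq1 : q = 1 := by
        refine key (α * (β * β)) (fun x => ?_) (fun x h => hall x (Or.inr h)) q ?_
        · simp only [MulAut.mul_apply, hc, hβ3, hα3]
        · induction q using QuotientGroup.induction_on with
          | _ x => rw [hind, hind, hind] at hq; rw [hind, MulAut.mul_apply, MulAut.mul_apply]; exact hq
      rw [e, hp1, hq1, one_mul]
    have : Nontrivial Q := by
      rw [← Finite.one_lt_card_iff_nontrivial]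
      have h0 : (center M).index ≠ 1 := fun h => htop (index_eq_one.1 h)
      have h1 : (center M).index ≠ 0 := index_ne_zero_of_finite
      show 1 < (center M).index
      omega
    haveI : Group.IsNilpotent Q := inferInstance
    exact Group.IsNilpotent.center_ne_bot Q hQc
  refine ⟨fun m n => (mem_center_iff.1 (hcenter ▸ mem_top n) m), fun m => ?_⟩
  obtain ⟨p, -, q, -, h⟩ := center_decomp hco α β hα3 hβ3 hc hα hβ (hcenter ▸ mem_top m)
  exact ⟨p, q, h⟩

end Auto

end Cfsg.Lib.SpCentre
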