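import Cfsg.Agent.LocalThree.SpCentre.SixCent

/-!
The embedded symplectic group contains every reflection, hence is the whole group.
-/

set_option autoImplicit false
set_option maxRecDepth 8000
set_option linter.unusedSectionVars false
set_option linter.style.haveILetI false
set_option synthInstance.maxSize 2000
set_option maxHeartbeats 1000000

namespace Cfsg.Lib.SpCentre

open Subgroup Equiv Cfsg.Lib.HeisSL Cfsg.Lib.AmalgamSpFour Cfsg.Lib.SymNineLocal
open Code (τ prodS rep tvC cm cx repSet prodC cl okB okM)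
open scoped MatrixGroups

universe u

section Generic

variable {G : Type u} [Group G] [Finite G]

theorem sq_mul {a b : G} (ha : a * a = 1) (hb : b * b = 1) (h : Commute a b) : a * b * (a * b) = 1 := by
  calc a * b * (a * b) = a * (b * a) * b := by group
    _ = 1 := by rw [← h.eq, ← mul_assoc, ha, one_mul, hb]

/-- Two nonconjugate involutions commute with an involution fusing them with products. -/
theorem master {C : Subgroup G} {r z : G} (hr : r ∈ C) (hz : z ∈ C) (hr2 : r * r = 1) (hz2 : z * z = 1)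
    (hn : ∀ g ∈ C, g * r * g⁻¹ ≠ z) :
    ∃ e ∈ C, e * e = 1 ∧ e ≠ 1 ∧ Commute e r ∧ Commute e z ∧
      ((∃ g ∈ C, g * z * g⁻¹ = z * e) ∧ (∃ g ∈ C, g * r * g⁻¹ = r * e) ∨
        (∃ g ∈ C, g * r * g⁻¹ = z * e) ∧ ∃ g ∈ C, g * z * g⁻¹ = r * e) := by
  obtain ⟨w, hw⟩ : ∃ w, w = r * z := ⟨_, rfl⟩
  have hwC : w ∈ C := hw ▸ mul_mem hr hz
  have ri := inv_eq_of_mul_eq_one_right hr2
  have zi := inv_eq_of_mul_eq_one_right hz2
  have hrw : r * w * r⁻¹ = w⁻¹ := by rw [hw, mul_inv_rev, zi, ri, ← mul_assoc r r z, hr2, one_mul]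
  have hzw : z * w * z⁻¹ = w⁻¹ := by
    rw [hw, mul_inv_rev, zi, ri]
    calc z * (r * z) * z = z * r * (z * z) := by group
      _ = z * r := by rw [hz2, mul_one]
  have hxw : r * z * r * w * (r * z * r)⁻¹ = w⁻¹ := by
    calc r * z * r * w * (r * z * r)⁻¹ = r * (z * (r * w * r⁻¹) * z⁻¹) * r⁻¹ := by group
      _ = r * (z * w * z⁻¹)⁻¹ * r⁻¹ := by rw [hrw]; group
      _ = r * w * r⁻¹ := by rw [hzw, inv_inv]
      _ = _ := hrw
  have key : ∀ x, x * w * x⁻¹ = w⁻¹ → ∀ l : ℕ, w ^ l * x * (w ^ l)⁻¹ = w ^ (l + l) * x := by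
    intro x hx l
    have h : x * (w ^ l)⁻¹ * x⁻¹ = w ^ l := by
      rw [← inv_pow, ← conj_pow]
      congr 1
      calc x * w⁻¹ * x⁻¹ = (x * w * x⁻¹)⁻¹ := by group
        _ = w := by rw [hx, inv_inv]
    calc w ^ l * x * (w ^ l)⁻¹ = w ^ l * (x * (w ^ l)⁻¹ * x⁻¹) * x := by group
      _ = _ := by rw [h, pow_add]
  have hwr : w * r = r * z * r := by rw [hw]
  have hwz : w * z = r := by rw [hw, mul_assoc, hz2, mul_one]
  obtain ⟨m, hm | hm⟩ := Nat.even_or_odd' (orderOf w)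
  · have hpos := orderOf_pos w
    obtain ⟨e, he⟩ : ∃ e, e = w ^ m := ⟨_, rfl⟩
    have hwe : w ^ (m + m) = 1 := by rw [← two_mul, ← hm, pow_orderOf_eq_one]
    have he2 : e * e = 1 := by rw [he, ← pow_add, hwe]
    have he1 : e ≠ 1 := fun h => by
      have := orderOf_le_of_pow_eq_one (by omega : 0 < m) (he ▸ h)
      omega
    have ei := inv_eq_of_mul_eq_one_right he2
    have hcomm : ∀ {x : G}, x * w * x⁻¹ = w⁻¹ → Commute e x := fun {x} hx => by
      have h : x * e * x⁻¹ = e⁻¹ := by rw [he, ← conj_pow, hx, inv_pow]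
      rw [ei] at h
      exact (mul_inv_eq_iff_eq_mul.1 h).symm
    refine ⟨e, he ▸ pow_mem hwC m, he2, he1, hcomm hrw, hcomm hzw, ?_⟩
    obtain ⟨l, rfl | rfl⟩ := Nat.even_or_odd' m
    · refine Or.inl ⟨⟨w ^ l, pow_mem hwC l, ?_⟩, w ^ l, pow_mem hwC l, ?_⟩
      · rw [key z hzw l, ← two_mul, ← he, (hcomm hzw).eq]
      · rw [key r hrw l, ← two_mul, ← he, (hcomm hrw).eq]
    · refine Or.inr ⟨⟨w ^ l, pow_mem hwC l, ?_⟩, w ^ l * r, mul_mem (pow_mem hwC l) hr, ?_⟩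
      · rw [key r hrw l, ← (hcomm hzw).eq, he, pow_succ, mul_assoc, hwz, two_mul]
      · rw [show w ^ l * r * z * (w ^ l * r)⁻¹ = w ^ l * (r * z * r⁻¹) * (w ^ l)⁻¹ by group, ri, key _ hxw l,
          ← (hcomm hrw).eq, he, pow_succ, mul_assoc (w ^ (2 * l)), hwr, two_mul]
  · exfalso
    refine hn (w ^ m) (pow_mem hwC m) ?_
    rw [key r hrw m]
    have h1 : w ^ (m + m) = w⁻¹ := eq_inv_of_mul_eq_one_left (by
      rw [← pow_succ, ← two_mul, ← hm, pow_orderOf_eq_one])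
    rw [h1, hw, mul_inv_rev, zi, ri, mul_assoc, hr2, mul_one]

end Generic

/-- the third representative -/
noncomputable def u0S : Code.Sp6' := prodS [2, 4, 6]

theorem end_codes :
    Code.mul (prodC [2, 4, 6]) (prodC [2, 4, 6]) = Code.one ∧ cm (tvC 1) (prodC [2, 4, 6]) = true ∧
    (∀ a ∈ Code.tvs, cm (tvC a) (tvC 1) = true → cm (tvC a) (prodC [2, 4, 6]) = true →
      cl (Code.mul (tvC a) (prodC [2, 4, 6])) = 2 → a = 2 ∨ a = 4 ∨ a = 6) ∧
    cl (prodC [2, 4, 6]) = 3 ∧ cl (Code.mul (tvC 2) (prodC [2, 4, 6])) = 2 ∧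
    cm (tvC 2) (prodC [2, 4, 6]) = true ∧ cm (tvC 1) (tvC 2) = true ∧
    Code.mul (prodC [2, 3]) (prodC [2, 3]) = Code.one ∧ cm (prodC [2, 4, 6]) (tvC 1) = true := by decide +kernel

theorem end_six :
    (swap (0 : Fin 6) 3 * swap 1 4) * swap 3 4 * (swap 0 3 * swap 1 4)⁻¹ = swap 0 1 ∧
    (swap (0 : Fin 6) 3 * swap 1 4) * (swap 0 1 * swap 3 4 * swap 2 5) * (swap 0 3 * swap 1 4)⁻¹ = swap 0 1 * swap 3 4 * swap 2 5 ∧
    (swap (0 : Fin 6) 2 * swap 1 5) * swap 2 5 * (swap 0 2 * swap 1 5)⁻¹ = swap 0 1 ∧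
    (swap (0 : Fin 6) 2 * swap 1 5) * (swap 0 1 * swap 3 4 * swap 2 5) * (swap 0 2 * swap 1 5)⁻¹ = swap 0 1 * swap 3 4 * swap 2 5 ∧
    (swap (0 : Fin 6) 3 * swap 1 4) * swap 0 1 * (swap 0 3 * swap 1 4)⁻¹ = swap 3 4 ∧
    swap (0 : Fin 6) 1 ≠ swap 3 4 := by decide +kernel

namespace Sx.Emb

variable {G : Type u} [Group G] [Finite G] {S : Sx G} (M : S.Emb)

theorem θ_sq {x : Sp6} (h : x * x = 1) : M.θ x * M.θ x = 1 := by rw [← map_mul, h, map_one]

include M in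
theorem sq_of_θ {x : Sp6} (h : M.θ x * M.θ x = 1) : x * x = 1 := M.inj (by rw [map_mul, h, map_one])

theorem θ_comm {x y : Sp6} (h : M.θ x * M.θ y = M.θ y * M.θ x) : x * y = y * x :=
  M.inj (by rw [map_mul, map_mul, h])

theorem refl_sq {r : G} (hr : IsConj S.t r) : r * r = 1 := by
  obtain ⟨g, rfl⟩ := isConj_iff.1 hr
  calc g * S.t * g⁻¹ * (g * S.t * g⁻¹) = g * (S.t * S.t) * g⁻¹ := by group
    _ = 1 := by rw [S.t_sq]; group

include M in
theorem cx_one {x : Sp6} (hx : x * x = 1) (h : cx x = 1) : ∃ a ∈ Code.tvs, x = τ a := by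
  obtain ⟨a, ha, e⟩ := M.refl_tv ((M.cx_eq hx (by norm_num : 1 < 5)).2 h) (M.θ_mem x)
  exact ⟨a, ha, (M.inj e).symm⟩

include M in
theorem tv_move {a : ℕ} (ha : a ∈ Code.tvs) (k : Sp6) : ∃ a' ∈ Code.tvs, k * τ a * k⁻¹ = τ a' := by
  obtain ⟨g, hg⟩ := isConj_iff.1 (M.tv_conj ha)
  obtain ⟨a', ha', e⟩ := M.refl_tv (r := M.θ (k * τ a * k⁻¹))
    (isConj_iff.2 ⟨M.θ k * g, by rw [map_mul, map_mul, map_inv, ← hg]; group⟩) (M.θ_mem _)
  exact ⟨a', ha', (M.inj e).symm⟩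

theorem rep_u0 : rep u0S = prodC [2, 4, 6] := Code.rep_prod (by decide)

theorem u0_sq : u0S * u0S = 1 := Code.rep_inj (by rw [Code.rep_mul, rep_u0, Code.rep_one]; exact end_codes.1)

theorem θu0 : M.θ u0S = S.f (swap 0 1 * swap 3 4 * swap 2 5) := M.repG_eq 3 (by norm_num)

theorem one_u0 : τ 1 * u0S = u0S * τ 1 :=
  code_mul_comm (by rw [Code.rep_τ (by norm_num), rep_u0]; exact end_codes.2.1)

theorem cin_conj {k x : G} (hk : k ∈ M.K) (h : M.Cin x) : M.Cin (k * x * k⁻¹) := fun g hg => by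
  have h' := h _ (comm_back hg)
  have := mul_mem (mul_mem hk h') (inv_mem hk)
  rwa [show k * (k⁻¹ * g * k) * k⁻¹ = g by group] at this

theorem cin2_conj {k x y : G} (hk : k ∈ M.K) (h : M.Cin2 x y) : M.Cin2 (k * x * k⁻¹) (k * y * k⁻¹) := fun g hx hy => by
  have h' := h _ (comm_back hx) (comm_back hy)
  have := mul_mem (mul_mem hk h') (inv_mem hk)
  rwa [show k * (k⁻¹ * g * k) * k⁻¹ = g by group] at this

theorem cin_two {x : Sp6} (hx : x * x = 1) (h : cx x = 2) : M.Cin (M.θ x) := by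
  obtain ⟨-, -, ⟨k, hk⟩, -⟩ := Code.classify hx
  rw [h, show repSet 2 = [2, 4] from rfl] at hk
  have e : M.θ x = (M.θ k)⁻¹ * S.σ uW * ((M.θ k)⁻¹)⁻¹ := by
    rw [← M.θ24, ← hk, map_mul, map_mul, map_inv]; group
  rw [e]
  exact M.cin_conj (inv_mem (M.θ_mem k)) M.cent_u

include M in
theorem pair_to {a b : ℕ} (ha : a ∈ Code.tvs) (hb : b ∈ Code.tvs) (hne : a ≠ b) (hc : τ a * τ b = τ b * τ a) :
    cx (τ a * τ b) = 2 ∧ ∃ k, k * τ a * k⁻¹ = τ 2 ∧ k * τ b * k⁻¹ = τ 4 := by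
  have hcm : cm (tvC a) (tvC b) = true := by
    rw [← Code.rep_τ (tvs_lt ha), ← Code.rep_τ (tvs_lt hb)]
    exact M.code_comm (by rw [← map_mul, ← map_mul, hc])
  have hp := List.all_eq_true.1 (List.all_eq_true.1 Code.pair_u.1 a ha) b hb
  simp only [hcm, Bool.not_true, Bool.false_or, Bool.or_eq_true, beq_iff_eq, hne, false_or] at hp
  have hcx : cx (τ a * τ b) = 2 := by
    rw [cx, Code.rep_mul, Code.rep_τ (tvs_lt ha), Code.rep_τ (tvs_lt hb)]; exact hp
  obtain ⟨-, -, ⟨k, hk⟩, -⟩ := Code.classify (sq_mul (Code.τ_sq a) (Code.τ_sq b) hc)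
  rw [hcx, show repSet 2 = [2, 4] from rfl] at hk
  obtain ⟨a', ha', ea⟩ := M.tv_move ha k
  obtain ⟨b', hb', eb⟩ := M.tv_move hb k
  have he : τ a' * τ b' = prodS [2, 4] := by
    rw [← ea, ← eb, ← hk]; group
  have he' := congrArg rep he
  rw [Code.rep_mul, Code.rep_τ (tvs_lt ha'), Code.rep_τ (tvs_lt hb'), Code.rep_prod (by decide)] at he'
  have hp2 := List.all_eq_true.1 (List.all_eq_true.1 Code.pair_u.2.1 a' ha') b' hb'
  simp only [he', bne_self_eq_false, Bool.false_or, Bool.or_eq_true, Bool.and_eq_true, beq_iff_eq] at hp2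
  refine ⟨hcx, ?_⟩
  rcases hp2 with ⟨rfl, rfl⟩ | ⟨rfl, rfl⟩
  · exact ⟨k, ea, eb⟩
  · obtain ⟨q, hq⟩ := M.f_mem (swap 0 3 * swap 1 4)
    have e24 : q * τ 2 * q⁻¹ = τ 4 := M.inj (by
      rw [map_mul, map_mul, map_inv, hq, M.T2, M.T4, ← map_inv, ← map_mul, ← map_mul, end_six.2.2.2.2.1])
    have e42 : q * τ 4 * q⁻¹ = τ 2 := M.inj (by
      rw [map_mul, map_mul, map_inv, hq, M.T2, M.T4, ← map_inv, ← map_mul, ← map_mul, end_six.1])
    refine ⟨q * k, ?_, ?_⟩
    · rw [← e42, ← ea]; group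
    · rw [← e24, ← eb]; group

theorem cin2_tv {a b : ℕ} (ha : a ∈ Code.tvs) (hb : b ∈ Code.tvs) (hne : a ≠ b) (hc : τ a * τ b = τ b * τ a) :
    M.Cin2 (M.θ (τ a)) (M.θ (τ b)) := by
  obtain ⟨-, k, e2, e4⟩ := M.pair_to ha hb hne hc
  have ea : M.θ (τ a) = (M.θ k)⁻¹ * S.f (swap 0 1) * ((M.θ k)⁻¹)⁻¹ := by
    rw [← M.T2, ← e2, map_mul, map_mul, map_inv]; group
  have eb : M.θ (τ b) = (M.θ k)⁻¹ * S.f (swap 3 4) * ((M.θ k)⁻¹)⁻¹ := by
    rw [← M.T4, ← e4, map_mul, map_mul, map_inv]; group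
  rw [ea, eb]
  exact M.cin2_conj (inv_mem (M.θ_mem k)) M.cent_pair

theorem not_conj_of_cx {r : G} {x : Sp6} (hr : IsConj S.t r) (hx : x * x = 1) (h : cx x ≠ 1) (g : G) :
    g * r * g⁻¹ ≠ M.θ x := fun e =>
  h ((M.cx_eq hx (by norm_num : 1 < 5)).1 (hr.trans (isConj_iff.2 ⟨g, e⟩)))

/-- The centraliser of a reflection and the third representative. -/
theorem refl_B {r : G} (hr : IsConj S.t r) (hrt : r * S.t = S.t * r) (hru : r * M.θ u0S = M.θ u0S * r) : r ∈ M.K := by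
  have h := Code.criterion_B
  simp only [] at h
  obtain ⟨hB, hz1, hz2, hz3, hz4, hz5, -⟩ := h
  set zS := prodS [2, 3] with hzS
  have hrz : rep zS = prodC [2, 3] := Code.rep_prod (by decide)
  have hz : zS * zS = 1 := Code.rep_inj (by rw [Code.rep_mul, hrz, Code.rep_one]; exact hz4)
  have hz2x : cx zS = 2 := by rw [cx, hrz]; exact hz3
  have hzt : zS * τ 1 = τ 1 * zS := code_mul_comm (by rw [hrz, Code.rep_τ (by norm_num)]; exact hz1)
  have hzu : zS * u0S = u0S * zS := code_mul_comm (by rw [hrz, rep_u0]; exact hz2)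
  set C : Subgroup G := centralizer ({S.t, M.θ u0S} : Set G) with hC
  have hCm : ∀ {x : G}, x ∈ C ↔ x * S.t = S.t * x ∧ x * M.θ u0S = M.θ u0S * x := fun {x} => by
    rw [hC, mem_centralizer_iff]
    exact ⟨fun h => ⟨(h _ (Or.inl rfl)).symm, (h _ (Or.inr rfl)).symm⟩,
      fun h z hz => by rcases hz with rfl | rfl <;> [exact h.1.symm; exact h.2.symm]⟩
  have hzC : M.θ zS ∈ C := hCm.2 ⟨by rw [← M.T1, ← map_mul, ← map_mul, hzt], by rw [← map_mul, ← map_mul, hzu]⟩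
  obtain ⟨e, heC, he2, he1, her, hez, hcase⟩ := master (hCm.2 ⟨hrt, hru⟩) hzC (refl_sq hr) (M.θ_sq hz)
    fun g _ => M.not_conj_of_cx hr hz (by omega) g
  obtain ⟨y, rfl⟩ := M.cin_two hz hz2x e hez.eq
  obtain ⟨het, heu⟩ := hCm.1 heC
  have hy2 := M.sq_of_θ he2
  have hy1 : y ≠ 1 := fun h => he1 (by rw [h, map_one])
  have hyt : y * τ 1 = τ 1 * y := M.θ_comm (by rw [M.T1]; exact het)
  have hyu : y * u0S = u0S * y := M.θ_comm heu
  have hyz : y * zS = zS * y := M.θ_comm hez.eq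
  have hE : [Code.one, tvC 1, prodC [2, 4, 6], Code.mul (tvC 1) (prodC [2, 4, 6])] =
      [1, τ 1, u0S, τ 1 * u0S].map rep := by
    simp only [List.map_cons, List.map_nil, Code.rep_one, Code.rep_mul, rep_u0, Code.rep_τ (by norm_num : 1 < 64)]
  have hx2 : ∀ x ∈ [1, τ 1, u0S, τ 1 * u0S], x * x = 1 ∧ Commute y x ∧ Commute zS x ∧ Commute r (M.θ x) ∧
      ∀ g ∈ C, Commute g (M.θ x) := by
    intro x hx
    have hg : ∀ g ∈ C, Commute g (M.θ (τ 1)) ∧ Commute g (M.θ u0S) := fun g hg => by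
      obtain ⟨h1, h2⟩ := hCm.1 hg
      rw [← M.T1] at h1
      exact ⟨h1, h2⟩
    have hgr := hg r (hCm.2 ⟨hrt, hru⟩)
    simp only [List.mem_cons, List.not_mem_nil, or_false] at hx
    rcases hx with rfl | rfl | rfl | rfl
    · exact ⟨one_mul 1, Commute.one_right _, Commute.one_right _, by rw [map_one]; exact Commute.one_right _,
        fun g _ => by rw [map_one]; exact Commute.one_right _⟩
    · exact ⟨Code.τ_sq 1, hyt, hzt, hgr.1, fun g h => (hg g h).1⟩
    · exact ⟨u0_sq, hyu, hzu, hgr.2, fun g h => (hg g h).2⟩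
    · exact ⟨sq_mul (Code.τ_sq 1) u0_sq one_u0, Commute.mul_right hyt hyu, Commute.mul_right hzt hzu,
        by rw [map_mul]; exact hgr.1.mul_right hgr.2, fun g h => by rw [map_mul]; exact (hg g h).1.mul_right (hg g h).2⟩
  have hok : okB (rep y) = true := by
    rcases hcase with ⟨⟨g, hg, hgz⟩, -⟩ | ⟨⟨g, hg, hgr⟩, -⟩
    · obtain ⟨-, -, -, hcrit, -⟩ := Code.classify hy2
      simp only [Code.critB, Bool.or_eq_true, beq_iff_eq, Bool.not_eq_true', or_assoc] at hcrit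
      rcases hcrit with h | h | h | h | h | h
      · exact absurd (Code.rep_inj (h.trans Code.rep_one.symm)) hy1
      · rw [← Code.rep_τ (by norm_num : 1 < 64), M.code_comm (by rw [← map_mul, ← map_mul, hyt])] at h
        cases h
      · rw [← hrz, M.code_comm (by rw [← map_mul, ← map_mul, hyz])] at h
        cases h
      · rw [← rep_u0, M.code_comm (by rw [← map_mul, ← map_mul, hyu])] at h
        cases h
      · exfalso
        refine Bool.false_ne_true (h.symm.trans ?_)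
        rw [hE, List.all_eq_true]
        intro v hv
        obtain ⟨x, hx, rfl⟩ := List.mem_map.1 hv
        obtain ⟨hxx, hyx, hzx, -, hgx⟩ := hx2 x hx
        rw [beq_iff_eq, ← hrz, ← Code.rep_mul, ← Code.rep_mul, ← Code.rep_mul]
        refine ((M.conj_of_conj (sq_mul hz hxx hzx) (sq_mul (sq_mul hz hy2 hyz.symm) hxx (hzx.mul_left hyx)) ?_).1).symm
        refine isConj_iff.2 ⟨g, ?_⟩
        rw [map_mul, map_mul, map_mul]
        calc g * (M.θ zS * M.θ x) * g⁻¹ = g * M.θ zS * g⁻¹ * (g * M.θ x * g⁻¹) := by group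
          _ = _ := by rw [hgz, (hgx g hg).eq, mul_inv_cancel_right]
      · exact h
    · obtain ⟨a, ha, hae⟩ := M.refl_tv (r := M.θ (zS * y)) (hr.trans (isConj_iff.2 ⟨g, by rw [hgr, map_mul]⟩)) (M.θ_mem _)
      have hay : τ a = zS * y := M.inj hae
      have hy : y = zS * τ a := by rw [hay, ← mul_assoc, hz, one_mul]
      have h := List.all_eq_true.1 hB a ha
      have hc1 : cm (tvC a) (tvC 1) = true := by
        rw [← Code.rep_τ (tvs_lt ha), ← Code.rep_τ (by norm_num : 1 < 64)]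
        exact M.code_comm (by rw [← map_mul, ← map_mul, hay, (Commute.mul_left hzt hyt).eq])
      have hc2 : cm (tvC a) (prodC [2, 4, 6]) = true := by
        rw [← Code.rep_τ (tvs_lt ha), ← rep_u0]
        exact M.code_comm (by rw [← map_mul, ← map_mul, hay, (Commute.mul_left hzu hyu).eq])
      have hc3 : cm (tvC a) (prodC [2, 3]) = true := by
        rw [← Code.rep_τ (tvs_lt ha), ← hrz]
        exact M.code_comm (by rw [← map_mul, ← map_mul, hay, (Commute.mul_left (Commute.refl zS) hyz).eq])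
      simp only [hc1, hc2, hc3, Bool.and_self, Bool.not_true, Bool.false_or] at h
      rw [hy, Code.rep_mul, hrz, Code.rep_τ (tvs_lt ha)]
      exact h
  simp only [okB, Bool.and_eq_true, List.any_eq_true, Bool.or_eq_true, beq_iff_eq, bne_iff_ne] at hok
  obtain ⟨-, v, hv, hcl⟩ := hok
  rw [hE] at hv
  obtain ⟨x, hx, rfl⟩ := List.mem_map.1 hv
  obtain ⟨hxx, hyx, -, hrx, -⟩ := hx2 x hx
  have hyx2 := sq_mul hy2 hxx hyx
  have hryx : r * M.θ (y * x) = M.θ (y * x) * r := by rw [map_mul]; exact (her.symm.mul_right hrx).eq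
  rw [← Code.rep_mul] at hcl
  rcases hcl with h | ⟨h, hne⟩
  · exact M.cin_two hyx2 h r hryx
  · obtain ⟨a, ha, hax⟩ := M.cx_one hyx2 h
    rw [hax] at hryx hne
    have ha1 : a ≠ 1 := fun e => hne (by rw [e, Code.rep_τ (by norm_num)])
    refine M.cin2_tv ha (List.mem_map.2 ⟨0, by decide, rfl⟩) ha1 ?_ r hryx (by rw [M.T1]; exact hrt)
    rw [← hax]; exact (Commute.mul_left hyt (M.θ_comm (by rw [M.T1]; exact ((hx2 x hx).2.2.2.2 S.t (hCm.2 ⟨rfl, by rw [← M.T1, ← map_mul, ← map_mul, one_u0]⟩)).symm.eq))).eq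

theorem cent_B : M.Cin2 S.t (M.θ u0S) := by
  intro g hgt hgu
  have h2u : τ 2 * u0S = u0S * τ 2 := code_mul_comm (by rw [Code.rep_τ (by norm_num), rep_u0]; exact end_codes.2.2.2.2.2.1)
  have h12 : τ 1 * τ 2 = τ 2 * τ 1 := code_mul_comm (by
    rw [Code.rep_τ (by norm_num), Code.rep_τ (by norm_num)]; exact end_codes.2.2.2.2.2.2.1)
  set r := g * M.θ (τ 2) * g⁻¹ with hr_def
  have hr : IsConj S.t r := (M.tv_conj (a := 2) (by decide)).trans (isConj_iff.2 ⟨g, rfl⟩)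
  have hmove : ∀ {v : G}, g * v = v * g → M.θ (τ 2) * v = v * M.θ (τ 2) → r * v = v * r := fun {v} h1 h2 =>
    (((show Commute g v from h1).mul_left h2).mul_left (show Commute g v from h1).inv_left).eq
  have hrt : r * S.t = S.t * r := hmove hgt (by rw [← M.T1, ← map_mul, ← map_mul, h12])
  have hru : r * M.θ u0S = M.θ u0S * r := hmove hgu (by rw [← map_mul, ← map_mul, h2u])
  obtain ⟨c, hc, hcr⟩ := M.refl_tv hr (M.refl_B hr hrt hru)
  have hcu : τ c * u0S = u0S * τ c := M.θ_comm (by rw [hcr]; exact hru)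
  have hct : τ c * τ 1 = τ 1 * τ c := M.θ_comm (by rw [hcr, M.T1]; exact hrt)
  have hcx : cx (τ c * u0S) = cx (τ 2 * u0S) := ((M.conj_of_conj (sq_mul (Code.τ_sq 2) u0_sq h2u)
    (sq_mul (Code.τ_sq c) u0_sq hcu) (isConj_iff.2 ⟨g, by
      rw [map_mul, map_mul, hcr, hr_def]
      calc g * (M.θ (τ 2) * M.θ u0S) * g⁻¹ = g * M.θ (τ 2) * g⁻¹ * (g * M.θ u0S * g⁻¹) := by group
        _ = _ := by rw [hgu, mul_inv_cancel_right]⟩)).1).symm
  rw [cx, cx, Code.rep_mul, Code.rep_mul, rep_u0, Code.rep_τ (tvs_lt hc), Code.rep_τ (by norm_num),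
    end_codes.2.2.2.2.1] at hcx
  have hc3 := end_codes.2.2.1 c hc
    (by rw [← Code.rep_τ (tvs_lt hc), ← Code.rep_τ (by norm_num : 1 < 64)]; exact M.code_comm (by rw [← map_mul, ← map_mul, hct]))
    (by rw [← Code.rep_τ (tvs_lt hc), ← rep_u0]; exact M.code_comm (by rw [← map_mul, ← map_mul, hcu])) hcx
  obtain ⟨h, hh2, hh1⟩ : ∃ h : S6, S.f h * r * (S.f h)⁻¹ = S.f (swap 0 1) ∧
      S.f h * M.θ u0S * (S.f h)⁻¹ = M.θ u0S := by
    rw [← hcr, M.θu0]
    rcases hc3 with rfl | rfl | rfl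
    · exact ⟨1, by rw [M.T2, map_one]; group, by rw [map_one]; group⟩
    · exact ⟨swap 0 3 * swap 1 4, by rw [M.T4, ← map_inv, ← map_mul, ← map_mul, end_six.1],
        by rw [← map_inv, ← map_mul, ← map_mul, end_six.2.1]⟩
    · exact ⟨swap 0 2 * swap 1 5, by rw [M.T6, ← map_inv, ← map_mul, ← map_mul, end_six.2.2.1],
        by rw [← map_inv, ← map_mul, ← map_mul, end_six.2.2.2.1]⟩
  have hkg : S.f h * g ∈ M.K := by
    refine M.cin2_tv (a := 1) (b := 2) (by decide) (by decide) (by decide) h12 _ ?_ ?_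
    · rw [M.T1]; exact ((show Commute (S.f h) S.t from S.f_t h).mul_left hgt).eq
    · refine mul_inv_eq_iff_eq_mul.1 ?_
      calc S.f h * g * M.θ (τ 2) * (S.f h * g)⁻¹ = S.f h * r * (S.f h)⁻¹ := by rw [hr_def]; group
        _ = _ := by rw [hh2, M.T2]
  simpa using mul_mem (inv_mem (M.f_mem h)) hkg

include M in
theorem to_w {a : ℕ} {y : Sp6} (ha : a ∈ Code.tvs) (hy : y * y = 1) (hc : τ a * y = y * τ a) (h3 : cx y = 3)
    (h4 : cx (τ a * y) = 4) : ∃ k, k * τ a * k⁻¹ = τ 7 ∧ k * (τ a * y) * k⁻¹ = prodS [1, 2, 4] := by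
  have hw := sq_mul (Code.τ_sq a) hy hc
  obtain ⟨-, -, ⟨k, hk⟩, -⟩ := Code.classify hw
  rw [h4, show repSet 4 = [1, 2, 4] from rfl] at hk
  obtain ⟨c, hcm, ec⟩ := M.tv_move ha k
  refine ⟨k, ?_, hk⟩
  have e1 : τ c * prodS [1, 2, 4] = k * y * k⁻¹ := by
    rw [← ec, ← hk]
    calc k * τ a * k⁻¹ * (k * (τ a * y) * k⁻¹) = k * (τ a * τ a * y) * k⁻¹ := by group
      _ = _ := by rw [Code.τ_sq, one_mul]
  have hcom : cm (tvC c) (prodC [1, 2, 4]) = true := by
    rw [← Code.rep_τ (tvs_lt hcm), ← Code.rep_prod (l := [1, 2, 4]) (by decide)]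
    refine M.code_comm ?_
    rw [← map_mul, ← map_mul, ← ec, ← hk]
    refine congrArg M.θ ?_
    calc k * τ a * k⁻¹ * (k * (τ a * y) * k⁻¹) = k * (τ a * (τ a * y)) * k⁻¹ := by group
      _ = k * (τ a * (y * τ a)) * k⁻¹ := by rw [hc]
      _ = _ := by group
  have hcl : cl (Code.mul (tvC c) (prodC [1, 2, 4])) = 3 := by
    rw [← Code.rep_τ (tvs_lt hcm), ← Code.rep_prod (l := [1, 2, 4]) (by decide), ← Code.rep_mul, e1]
    exact (M.cx_conj hy k).trans h3
  have hl := List.all_eq_true.1 Code.pair_w c hcm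
  have h7 : c = 7 := by simpa [hcom, hcl] using hl
  rw [ec, h7]

theorem cin2_four {a : ℕ} {y : Sp6} (ha : a ∈ Code.tvs) (hy : y * y = 1) (hc : τ a * y = y * τ a) (h3 : cx y = 3)
    (h4 : cx (τ a * y) = 4) : M.Cin2 (M.θ (τ a)) (M.θ y) := by
  have hB := Code.criterion_B
  simp only [] at hB
  obtain ⟨k, ek, ekw⟩ := M.to_w ha hy hc h3 h4
  obtain ⟨k₀, e0, e0w⟩ := M.to_w (a := 1) (y := u0S) (by decide) u0_sq one_u0
    (by rw [cx, rep_u0]; exact end_codes.2.2.2.1)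
    (by rw [cx, Code.rep_mul, rep_u0, Code.rep_τ (by norm_num)]; exact hB.2.2.2.2.2.1)
  have e1 : τ a = k⁻¹ * k₀ * τ 1 * (k⁻¹ * k₀)⁻¹ := by
    calc τ a = k⁻¹ * (k * τ a * k⁻¹) * k := by group
      _ = k⁻¹ * (k₀ * τ 1 * k₀⁻¹) * k := by rw [ek, e0]
      _ = _ := by group
  have e2 : y = k⁻¹ * k₀ * u0S * (k⁻¹ * k₀)⁻¹ := by
    calc y = τ a * (τ a * y) := by rw [← mul_assoc, Code.τ_sq, one_mul]
      _ = τ a * (k⁻¹ * (k * (τ a * y) * k⁻¹) * k) := by group
      _ = k⁻¹ * k₀ * τ 1 * (k⁻¹ * k₀)⁻¹ * (k⁻¹ * (k₀ * (τ 1 * u0S) * k₀⁻¹) * k) := by rw [ekw, ← e0w, ← e1]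
      _ = k⁻¹ * k₀ * (τ 1 * τ 1 * u0S) * (k⁻¹ * k₀)⁻¹ := by group
      _ = _ := by rw [Code.τ_sq, one_mul]
  rw [e1, e2, map_mul M.θ (k⁻¹ * k₀ * τ 1), map_mul M.θ (k⁻¹ * k₀), map_mul M.θ (k⁻¹ * k₀ * u0S),
    map_mul M.θ (k⁻¹ * k₀), map_inv, M.T1]
  exact M.cin2_conj (M.θ_mem _) M.cent_B

/-- The centraliser of a reflection. -/
theorem refl_M {r : G} (hr : IsConj S.t r) (hrt : r * S.t = S.t * r) : r ∈ M.K := by
  have h0 : cx u0S = 3 := by rw [cx, rep_u0]; exact end_codes.2.2.2.1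
  set C : Subgroup G := centralizer ({S.t} : Set G) with hC
  have hCm : ∀ {x : G}, x ∈ C ↔ x * S.t = S.t * x := fun {x} => mem_centralizer_singleton_iff
  have hzC : M.θ u0S ∈ C := hCm.2 (by rw [← M.T1, ← map_mul, ← map_mul, one_u0])
  obtain ⟨e, heC, he2, he1, her, hez, hcase⟩ := master (hCm.2 hrt) hzC (refl_sq hr) (M.θ_sq u0_sq)
    fun g _ => M.not_conj_of_cx hr u0_sq (by omega) g
  obtain ⟨y, rfl⟩ := M.cent_B e (hCm.1 heC) hez.eq
  have het := hCm.1 heC
  have hy2 := M.sq_of_θ he2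
  have hy1 : y ≠ 1 := fun h => he1 (by rw [h, map_one])
  have hyt : y * τ 1 = τ 1 * y := M.θ_comm (by rw [M.T1]; exact het)
  have hyz : y * u0S = u0S * y := M.θ_comm hez.eq
  have hok : okM (rep y) = true := by
    rcases hcase with ⟨⟨g, hg, hgz⟩, -⟩ | ⟨⟨g, hg, hgr⟩, -⟩
    · obtain ⟨-, -, -, -, hcrit⟩ := Code.classify hy2
      simp only [Code.critM, Bool.or_eq_true, beq_iff_eq, Bool.not_eq_true', or_assoc] at hcrit
      rcases hcrit with h | h | h | h | h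
      · exact absurd (Code.rep_inj (h.trans Code.rep_one.symm)) hy1
      · rw [← Code.rep_τ (by norm_num : 1 < 64), M.code_comm (by rw [← map_mul, ← map_mul, hyt])] at h
        cases h
      · rw [← rep_u0, M.code_comm (by rw [← map_mul, ← map_mul, hyz])] at h
        cases h
      · exfalso
        refine Bool.false_ne_true (h.symm.trans ?_)
        rw [Bool.and_eq_true, beq_iff_eq, beq_iff_eq, ← rep_u0, ← Code.rep_τ (by norm_num : 1 < 64), ← Code.rep_mul,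
          ← Code.rep_mul, ← Code.rep_mul]
        refine ⟨((M.conj_of_conj u0_sq (sq_mul u0_sq hy2 hyz.symm) (isConj_iff.2 ⟨g, by rw [hgz, map_mul]⟩)).1).symm,
          ((M.conj_of_conj (sq_mul u0_sq (Code.τ_sq 1) one_u0.symm)
            (sq_mul (sq_mul u0_sq hy2 hyz.symm) (Code.τ_sq 1) (Commute.mul_left one_u0.symm hyt)) ?_).1).symm⟩
        refine isConj_iff.2 ⟨g, ?_⟩
        rw [map_mul, map_mul, map_mul, M.T1]
        calc g * (M.θ u0S * S.t) * g⁻¹ = g * M.θ u0S * g⁻¹ * (g * S.t * g⁻¹) := by group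
          _ = _ := by rw [hgz, hCm.1 hg, mul_inv_cancel_right]
      · exact h
    · obtain ⟨a, ha, hae⟩ := M.refl_tv (r := M.θ (u0S * y)) (hr.trans (isConj_iff.2 ⟨g, by rw [hgr, map_mul]⟩)) (M.θ_mem _)
      have hay : τ a = u0S * y := M.inj hae
      have hy : y = u0S * τ a := by rw [hay, ← mul_assoc, u0_sq, one_mul]
      have h := List.all_eq_true.1 Code.criterion_M a ha
      have hc1 : cm (tvC a) (tvC 1) = true := by
        rw [← Code.rep_τ (tvs_lt ha), ← Code.rep_τ (by norm_num : 1 < 64)]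
        exact M.code_comm (by rw [← map_mul, ← map_mul, hay, (Commute.mul_left one_u0.symm hyt).eq])
      have hc2 : cm (tvC a) (prodC [2, 4, 6]) = true := by
        rw [← Code.rep_τ (tvs_lt ha), ← rep_u0]
        exact M.code_comm (by rw [← map_mul, ← map_mul, hay, (Commute.mul_left (Commute.refl u0S) hyz).eq])
      simp only [hc1, hc2, Bool.and_self, Bool.not_true, Bool.false_or] at h
      rw [hy, Code.rep_mul, rep_u0, Code.rep_τ (tvs_lt ha)]
      exact h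
  simp only [okM, Bool.and_eq_true, Bool.or_eq_true, beq_iff_eq, bne_iff_ne, or_assoc] at hok
  obtain ⟨hne, hor⟩ := hok
  rw [← Code.rep_τ (by norm_num : 1 < 64), ← Code.rep_mul] at hor
  rw [← Code.rep_τ (by norm_num : 1 < 64)] at hne
  set y' := y * τ 1 with hy'
  have hy'2 : y' * y' = 1 := sq_mul hy2 (Code.τ_sq 1) hyt
  have hry : r * M.θ y = M.θ y * r := her.symm.eq
  have hrt1 : r * M.θ (τ 1) = M.θ (τ 1) * r := by rw [M.T1]; exact hrt
  have hry' : r * M.θ y' = M.θ y' * r := by rw [hy', map_mul]; exact (her.symm.mul_right hrt1).eq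
  have h1 : (1 : ℕ) ∈ Code.tvs := List.mem_map.2 ⟨0, by decide, rfl⟩
  have hy't : τ 1 * y' = y' * τ 1 := by rw [hy', ← mul_assoc, ← hyt]
  rcases hor with h | h | h | h | ⟨h, h'⟩ | ⟨h, h'⟩
  · exact M.cin_two hy2 h r hry
  · exact M.cin_two hy'2 h r hry'
  · obtain ⟨a, ha, hax⟩ := M.cx_one hy2 h
    refine M.cin2_tv ha h1 (fun e => hne (by rw [hax, e])) (by rw [← hax]; exact hyt) r (by rw [← hax]; exact hry) hrt1
  · obtain ⟨a, ha, hax⟩ := M.cx_one hy'2 h
    refine M.cin2_tv ha h1 (fun e => hy1 ?_) (by rw [← hax, hy't]) r (by rw [← hax]; exact hry') hrt1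
    rw [e] at hax
    exact mul_right_cancel (hax.trans (one_mul _).symm)
  · exact M.cin2_four h1 hy2 hyt.symm h (by rw [← hyt]; exact h') r hrt1 hry
  · refine M.cin2_four h1 hy'2 hy't h' ?_ r hrt1 hry'
    rw [hy', ← mul_assoc, ← hyt, mul_assoc, Code.τ_sq, mul_one]; exact h

theorem cent_t : M.Cin S.t := by
  intro g hg
  set r := g * M.θ (τ 2) * g⁻¹ with hr_def
  have h12 : τ 1 * τ 2 = τ 2 * τ 1 := code_mul_comm (by
    rw [Code.rep_τ (by norm_num), Code.rep_τ (by norm_num)]; exact end_codes.2.2.2.2.2.2.1)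
  have hr : IsConj S.t r := (M.tv_conj (a := 2) (by decide)).trans (isConj_iff.2 ⟨g, rfl⟩)
  have hrt : r * S.t = S.t * r :=
    (((show Commute g S.t from hg).mul_left (show Commute (M.θ (τ 2)) S.t by
      rw [← M.T1]; show _ = _; rw [← map_mul, ← map_mul, h12])).mul_left (show Commute g S.t from hg).inv_left).eq
  obtain ⟨c, hc, hcr⟩ := M.refl_tv hr (M.refl_M hr hrt)
  have hct : τ 1 * τ c = τ c * τ 1 := (M.θ_comm (by rw [hcr, M.T1]; exact hrt)).symm
  have h1 : (1 : ℕ) ∈ Code.tvs := List.mem_map.2 ⟨0, by decide, rfl⟩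
  have hc1 : 1 ≠ c := fun e => by
    have e' : M.θ (τ 2) = S.t := by
      have h' : r = S.t := by rw [← hcr, ← e, M.T1]
      calc M.θ (τ 2) = g⁻¹ * r * g := by rw [hr_def]; group
        _ = _ := by rw [h', mul_assoc, ← hg, inv_mul_cancel_left]
    rw [← M.T1] at e'
    have e'' := congrArg rep (M.inj e')
    rw [Code.rep_τ (by norm_num), Code.rep_τ (by norm_num)] at e''
    exact absurd e'' (by decide +kernel)
  obtain ⟨-, k, ek1, ek2⟩ := M.pair_to h1 hc hc1 hct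
  obtain ⟨-, k₀, e01, e02⟩ := M.pair_to h1 (b := 2) (by decide) (by decide) h12
  set q := k₀⁻¹ * k
  have q1 : q * τ 1 * q⁻¹ = τ 1 := by
    calc q * τ 1 * q⁻¹ = k₀⁻¹ * (k * τ 1 * k⁻¹) * k₀ := by simp only [q]; group
      _ = _ := by rw [ek1, ← e01]; group
  have q2 : q * τ c * q⁻¹ = τ 2 := by
    calc q * τ c * q⁻¹ = k₀⁻¹ * (k * τ c * k⁻¹) * k₀ := by simp only [q]; group
      _ = _ := by rw [ek2, ← e02]; group
  have hqg : M.θ q * g ∈ M.K := by
    refine M.cin2_tv (a := 1) (b := 2) h1 (by decide) (by decide) h12 _ ?_ ?_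
    · rw [M.T1]
      refine ((show Commute (M.θ q) S.t from mul_inv_eq_iff_eq_mul.1 ?_).mul_left hg).eq
      rw [← M.T1, ← map_inv, ← map_mul, ← map_mul, q1]
    · refine mul_inv_eq_iff_eq_mul.1 ?_
      calc M.θ q * g * M.θ (τ 2) * (M.θ q * g)⁻¹ = M.θ q * r * (M.θ q)⁻¹ := by rw [hr_def]; group
        _ = _ := by rw [← hcr, ← map_inv, ← map_mul, ← map_mul, q2]
  simpa using mul_mem (inv_mem (M.θ_mem q)) hqg

theorem cin_small {x : Sp6} (hx : x * x = 1) (h : cx x = 1 ∨ cx x = 2) : M.Cin (M.θ x) := by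
  rcases h with h | h
  · obtain ⟨-, -, ⟨k, hk⟩, -⟩ := Code.classify hx
    rw [h, show prodS (repSet 1) = τ 1 by simp [repSet, prodS]] at hk
    have e : M.θ x = (M.θ k)⁻¹ * S.t * ((M.θ k)⁻¹)⁻¹ := by rw [← M.T1, ← hk, map_mul, map_mul, map_inv]; group
    rw [e]
    exact M.cin_conj (inv_mem (M.θ_mem k)) M.cent_t
  · exact M.cin_two hx h

include M in
/-- Two commuting reflections have a product of the second class. -/
theorem refl_pair {r r' : G} (hr : IsConj S.t r) (hr' : IsConj S.t r') (hne : r ≠ r') (hc : r * r' = r' * r) :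
    IsConj (S.σ uW) (r * r') := by
  obtain ⟨g, rfl⟩ := isConj_iff.1 hr
  set v := g⁻¹ * r' * g with hv_def
  have hv : IsConj S.t v := hr'.trans (isConj_iff.2 ⟨g⁻¹, by rw [inv_inv]⟩)
  have hvt : v * S.t = S.t * v := by
    calc v * S.t = g⁻¹ * (r' * (g * S.t * g⁻¹)) * g := by rw [hv_def]; group
      _ = _ := by rw [← hc, hv_def]; group
  obtain ⟨c, hc', hcv⟩ := M.refl_tv hv (M.cent_t v hvt)
  have h1 : (1 : ℕ) ∈ Code.tvs := List.mem_map.2 ⟨0, by decide, rfl⟩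
  have hne' : (1 : ℕ) ≠ c := fun e => hne (by
    rw [← e, M.T1] at hcv
    rw [hcv, hv_def]; group)
  have hcc : τ 1 * τ c = τ c * τ 1 := M.θ_comm (by rw [hcv, M.T1]; exact hvt.symm)
  obtain ⟨hcx, -⟩ := M.pair_to h1 hc' hne' hcc
  have h := (M.cx_eq (sq_mul (Code.τ_sq 1) (Code.τ_sq c) hcc) (by norm_num : 2 < 5)).2 hcx
  refine IsConj.trans h (isConj_iff.2 ⟨g, ?_⟩)
  rw [map_mul, M.T1, hcv, hv_def]; group

/-- The reflections centralising the last two representatives. -/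
theorem refl_Y {p : List ℕ × List ℕ} (hp : p ∈ [([1, 3], [1, 2, 4]), ([1, 2], [2, 4, 6])]) {r : G} (hr : IsConj S.t r)
    (hrc : r * M.θ (prodS p.2) = M.θ (prodS p.2) * r) (hu : IsConj (S.σ uW) (r * M.θ (prodS p.2))) : r ∈ M.K := by
  have hcr := List.all_eq_true.1 Code.criterion_Y p hp
  simp only [Bool.and_eq_true, beq_iff_eq] at hcr
  obtain ⟨⟨⟨hz3, hzc'⟩, hz4⟩, hY⟩ := hcr
  obtain ⟨hp1, hp2⟩ : (∀ c ∈ p.1, c < 64) ∧ ∀ c ∈ p.2, c < 64 := by
    simp only [List.mem_cons, List.not_mem_nil, or_false] at hp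
    rcases hp with rfl | rfl <;> exact ⟨by decide, by decide⟩
  set zS := prodS p.1
  set cS := prodS p.2
  have hrz : rep zS = prodC p.1 := Code.rep_prod hp1
  have hrC : rep cS = prodC p.2 := Code.rep_prod hp2
  have hz : zS * zS = 1 := Code.rep_inj (by rw [Code.rep_mul, hrz, Code.rep_one]; exact hz4)
  have hz2x : cx zS = 2 := by rw [cx, hrz]; exact hz3
  have hzc : zS * cS = cS * zS := code_mul_comm (by rw [hrz, hrC]; exact hzc')
  set C : Subgroup G := centralizer ({M.θ cS} : Set G) with hC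
  have hCm : ∀ {x : G}, x ∈ C ↔ x * M.θ cS = M.θ cS * x := fun {x} => mem_centralizer_singleton_iff
  obtain ⟨e, heC, he2, he1, her, hez, hcase⟩ := master (hCm.2 hrc) (hCm.2 (by rw [← map_mul, ← map_mul, hzc]))
    (refl_sq hr) (M.θ_sq hz) fun g _ => M.not_conj_of_cx hr hz (by omega) g
  obtain ⟨y, rfl⟩ := M.cin_two hz hz2x e hez.eq
  have hy2 := M.sq_of_θ he2
  have hyc : y * cS = cS * y := M.θ_comm (hCm.1 heC)
  have hyz : y * zS = zS * y := M.θ_comm hez.eq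
  rcases hcase with ⟨-, g, hg, hgr⟩ | ⟨⟨g, hg, hgr⟩, -⟩
  · have h2 := M.refl_pair hr (hr.trans (isConj_iff.2 ⟨g, hgr⟩)) (fun e => he1 (by
      nth_rw 1 [← mul_one r] at e
      exact (mul_left_cancel e).symm))
      (((Commute.refl r).mul_right her.symm).eq)
    rw [← mul_assoc, refl_sq hr, one_mul] at h2
    exact M.cin_two hy2 ((M.cx_eq hy2 (by norm_num : 2 < 5)).1 h2) r her.symm.eq
  · obtain ⟨a, ha, hae⟩ := M.refl_tv (r := M.θ (zS * y)) (hr.trans (isConj_iff.2 ⟨g, by rw [hgr, map_mul]⟩)) (M.θ_mem _)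
    have hay : τ a = zS * y := M.inj hae
    have hy : y = zS * τ a := by rw [hay, ← mul_assoc, hz, one_mul]
    have hac : τ a * cS = cS * τ a := by rw [hay]; exact (Commute.mul_left hzc hyc).eq
    have hc1 : cm (tvC a) (prodC p.1) = true := by
      rw [← Code.rep_τ (tvs_lt ha), ← hrz]
      exact M.code_comm (by rw [← map_mul, ← map_mul, hay, (Commute.mul_left (Commute.refl zS) hyz).eq])
    have hc2 : cm (tvC a) (prodC p.2) = true := by
      rw [← Code.rep_τ (tvs_lt ha), ← hrC]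
      exact M.code_comm (by rw [← map_mul, ← map_mul, hac])
    have hcS2 : cS * cS = 1 := Code.rep_inj (by
      rw [Code.rep_mul, hrC, Code.rep_one]
      simp only [List.mem_cons, List.not_mem_nil, or_false] at hp
      rcases hp with rfl | rfl <;> decide +kernel)
    have hcl : cx (τ a * cS) = 2 := by
      refine (M.cx_eq (sq_mul (Code.τ_sq a) hcS2 hac) (by norm_num : 2 < 5)).1 (IsConj.trans hu (isConj_iff.2 ⟨g, ?_⟩))
      rw [map_mul, hae, map_mul, ← hgr]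
      calc g * (r * M.θ cS) * g⁻¹ = g * r * g⁻¹ * (g * M.θ cS * g⁻¹) := by group
        _ = _ := by rw [hCm.1 hg, mul_inv_cancel_right]
    rw [cx, Code.rep_mul, hrC, Code.rep_τ (tvs_lt ha)] at hcl
    have h := List.all_eq_true.1 hY a ha
    simp only [hc1, hc2, hcl, Bool.and_self, Bool.not_true, Bool.false_or, bne_self_eq_false, Bool.or_eq_true,
      beq_iff_eq, or_assoc] at h
    rw [← hrz, ← hrC, ← Code.rep_τ (tvs_lt ha), ← Code.rep_mul, ← hy, ← Code.rep_mul] at h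
    have hry : r * M.θ y = M.θ y * r := her.symm.eq
    have hryc : r * M.θ (y * cS) = M.θ (y * cS) * r := by rw [map_mul]; exact (her.symm.mul_right hrc).eq
    rcases h with h | h | h | h
    · exact M.cin_small hy2 (Or.inl h) r hry
    · exact M.cin_small hy2 (Or.inr h) r hry
    · exact M.cin_small (sq_mul hy2 hcS2 hyc) (Or.inl h) r hryc
    · exact M.cin_small (sq_mul hy2 hcS2 hyc) (Or.inr h) r hryc

/-- Every reflection lies in the image. -/
theorem refl_mem {r : G} (hr : IsConj S.t r) : r ∈ M.K := by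
  have h24 : prodS [2, 4] * prodS [2, 4] = 1 :=
    Code.rep_inj (by rw [Code.rep_mul, Code.rep_prod (by decide), Code.rep_one]; decide +kernel)
  have hcx : cx (prodS [2, 4]) = 2 := by rw [prod_tv (by decide)]; decide +kernel
  obtain ⟨e, -, he2, he1, her, hez, hcase⟩ := master (C := ⊤) (r := r) (z := M.θ (prodS [2, 4])) (mem_top _) (mem_top _)
    (refl_sq hr) (M.θ_sq h24) fun g _ => M.not_conj_of_cx hr h24 (by omega) g
  obtain ⟨y, rfl⟩ := M.cin_two h24 hcx e hez.eq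
  have hy2 := M.sq_of_θ he2
  have hry : r * M.θ y = M.θ y * r := her.symm.eq
  obtain ⟨hlt, hy0, ⟨k, hk⟩, -⟩ := Code.classify hy2
  rcases hcase with ⟨-, g, -, hgr⟩ | ⟨-, g, -, hgz⟩
  · have h2 := M.refl_pair hr (hr.trans (isConj_iff.2 ⟨g, hgr⟩)) (fun e => he1 (by
      nth_rw 1 [← mul_one r] at e
      exact (mul_left_cancel e).symm))
      (((Commute.refl r).mul_right her.symm).eq)
    rw [← mul_assoc, refl_sq hr, one_mul] at h2
    exact M.cin_two hy2 ((M.cx_eq hy2 (by norm_num : 2 < 5)).1 h2) r hry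
  · have hu : IsConj (S.σ uW) (r * M.θ y) := isConj_iff.2 ⟨g, by rw [← M.θ24]; exact hgz⟩
    by_cases hs : cx y = 1 ∨ cx y = 2
    · exact M.cin_small hy2 hs r hry
    have h34 : cx y = 3 ∨ cx y = 4 := by
      have : cx y ≠ 0 := fun h => he1 (by rw [hy0 h, map_one])
      omega
    obtain ⟨p, hp, hpe⟩ : ∃ p : List ℕ × List ℕ, p ∈ [([1, 3], [1, 2, 4]), ([1, 2], [2, 4, 6])] ∧
        k * y * k⁻¹ = prodS p.2 := by
      rcases h34 with h | h <;> rw [h] at hk
      · exact ⟨([1, 2], [2, 4, 6]), by simp, hk⟩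
      · exact ⟨([1, 3], [1, 2, 4]), by simp, hk⟩
    have e1 : M.θ (prodS p.2) = M.θ k * M.θ y * (M.θ k)⁻¹ := by rw [← hpe, map_mul, map_mul, map_inv]
    have h := M.refl_Y hp (r := M.θ k * r * (M.θ k)⁻¹) (hr.trans (isConj_iff.2 ⟨M.θ k, rfl⟩))
      (by
        rw [e1]
        calc _ = M.θ k * (r * M.θ y) * (M.θ k)⁻¹ := by group
          _ = _ := by rw [hry]; group)
      (hu.trans (isConj_iff.2 ⟨M.θ k, by rw [e1]; group⟩))
    have := mul_mem (mul_mem (inv_mem (M.θ_mem k)) h) (M.θ_mem k)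
    rwa [show (M.θ k)⁻¹ * (M.θ k * r * (M.θ k)⁻¹) * M.θ k = r by group] at this

theorem θ_surjective : Function.Surjective M.θ := by
  intro g
  obtain ⟨x, hx⟩ := M.refl_mem (r := g * S.t * g⁻¹) (isConj_iff.2 ⟨g, rfl⟩)
  have hx2 : x * x = 1 := M.sq_of_θ (by rw [hx]; exact refl_sq (isConj_iff.2 ⟨g, rfl⟩))
  have hcx := (M.cx_eq hx2 (by norm_num : 1 < 5)).1 (show IsConj S.t (M.θ x) from hx ▸ isConj_iff.2 ⟨g, rfl⟩)
  obtain ⟨-, -, ⟨k, hk⟩, -⟩ := Code.classify hx2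
  rw [hcx, show prodS (repSet 1) = τ 1 by simp [repSet, prodS]] at hk
  have h : M.θ k * g ∈ M.K := M.cent_t _ (mul_inv_eq_iff_eq_mul.1 (by
    calc M.θ k * g * S.t * (M.θ k * g)⁻¹ = M.θ k * (g * S.t * g⁻¹) * (M.θ k)⁻¹ := by group
      _ = S.t := by rw [← hx, ← map_inv, ← map_mul, ← map_mul, hk, M.T1]))
  have h' := mul_mem (inv_mem (M.θ_mem k)) h
  rwa [inv_mul_cancel_left] at h'

end Sx.Emb

/-- The symplectic groups over isomorphic fields. -/
def fieldMap {K L : Type*} [Field K] [Field L] (e : K ≃+* L) :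
    Matrix.symplecticGroup (Fin 3) K →* Matrix.symplecticGroup (Fin 3) L where
  toFun A := ⟨(A : Matrix _ _ K).map e, by
    have h := SetLike.coe_mem A
    rw [SymplecticGroup.mem_iff] at h ⊢
    have hJ : (Matrix.J (Fin 3) K).map e = Matrix.J (Fin 3) L := by
      ext i j; rcases i with i | i <;> rcases j with j | j <;>
        simp [Matrix.J, Matrix.fromBlocks, Matrix.one_apply, apply_ite e]
    have := congrArg (fun M => M.map e) h
    simp only [Matrix.map_mul, Matrix.transpose_map] at this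
    rwa [hJ] at this⟩
  map_one' := Subtype.ext (Matrix.map_one e (map_zero e) (map_one e))
  map_mul' A B := Subtype.ext (Matrix.map_mul (f := e.toRingHom))

theorem fieldMap_bijective {K L : Type*} [Field K] [Field L] (e : K ≃+* L) : Function.Bijective (fieldMap e) :=
  ⟨fun A B h => Subtype.ext (Matrix.ext fun i j => e.injective (congrFun (congrFun (congrArg Subtype.val h) i) j)),
    fun A => ⟨fieldMap e.symm A, Subtype.ext (Matrix.ext fun _ _ => e.apply_symm_apply _)⟩⟩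

/-- The case of the symplectic group. -/
theorem Sx.six_image {G : Type u} [Group G] [Finite G] (S : Sx G) {F : Type*} [Field F] [Fintype F]
    (hF : Fintype.card F = 2) : Nonempty (G ≃* Matrix.symplecticGroup (Fin 3) F) := by
  obtain ⟨M⟩ := S.exists_emb
  have e : ZMod 2 ≃+* F := ZMod.ringEquivOfPrime F Nat.prime_two hF
  exact ⟨(MulEquiv.ofBijective M.θ ⟨M.inj, M.θ_surjective⟩).symm.trans
    (MulEquiv.ofBijective (fieldMap e) (fieldMap_bijective e))⟩

end Cfsg.Lib.SpCentre
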