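import Cfsg.Agent.LocalThree.SpCentre.CentT
import Cfsg.Agent.LocalThree.SymNineLocal.SixIso

/-!
When the centraliser of the first basis vector does not normalise `J`, it is the product of that
vector with a symmetric group of degree six centralised by the first sign change.
-/

set_option autoImplicit false
set_option maxRecDepth 8000
set_option linter.unusedSectionVars false
set_option synthInstance.maxSize 2000
set_option maxHeartbeats 2000000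

namespace Cfsg.Lib.SpCentre

open Subgroup Equiv Cfsg.Lib.HeisSL Cfsg.Lib.AmalgamSpFour Cfsg.Lib.SymNineLocal
open scoped MatrixGroups

universe u

theorem opD_fix : ∀ q, app (opD q) (1, 0, 0) = (1, 0, 0) := by decide +kernel

theorem opD_fix_all_b : (M48.all fun x => !decide (app x (1, 0, 0) = (1, 0, 0)) ||
    ([.r 0, .r 1, .r 2, .r 3, .sr 0, .sr 1, .sr 2, .sr 3] : List (DihedralGroup 4)).any
      fun q => decide (x = opD q)) = true := by decide +kernel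

theorem wt_one_cube_b : (M48.all fun x => !decide (app x (1, 0, 0) = (1, 0, 0)) || !decide (cmp x (cmp x x) = idW) ||
    decide (x = idW)) = true := by decide +kernel

theorem frame_vec : (∀ k : ZMod 3, sm k (1, 0, 0) ≠ (0, 1, 0)) ∧ (∀ k : ZMod 3, sm k (1, 0, 0) ≠ (0, 0, 1)) ∧
    (∀ k : ZMod 3, sm k (1, 0, 0) ≠ (0, 1, -1)) ∧ (∀ k : ZMod 3, sm k (1, 0, 0) ≠ (0, 1, 1)) ∧
    (∀ k : ZMod 3, sm k (1, 0, 0) = (k, 0, 0)) ∧ ((1, 0, 0) : V) ≠ 0 ∧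
    app (dg (1, -1, 1)) (0, 1, 0) = -(0, 1, 0) ∧ app (dg (1, -1, 1)) (0, 0, 1) = (0, 0, 1) ∧
    app sW (0, 1, 0) = (0, 0, 1) ∧ app sW (1, 0, 0) = (1, 0, 0) ∧ app (dg (1, -1, 1)) (1, 0, 0) = (1, 0, 0) ∧
    app e1W (1, 0, 0) = -(1, 0, 0) := by decide +kernel

theorem op_frame : dg (1, -1, 1) ∈ M48 ∧ sW ∈ M48 ∧ cmp (dg (1, -1, 1)) (dg (1, -1, 1)) = idW ∧ cmp sW sW = idW ∧
    cmp (dg (1, -1, 1)) e1W = cmp e1W (dg (1, -1, 1)) ∧ cmp sW e1W = cmp e1W sW := by decide +kernel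

theorem first_neg : ∀ k : ZMod 3, app e1W (k, 0, 0) = sm (-k) (1, 0, 0) := by decide +kernel

theorem first_flip : ∀ k : ZMod 3, app e1W (-k, 0, 0) = (k, 0, 0) := by decide +kernel

theorem first_two : ∀ k : ZMod 3, ((-k, 0, 0) : V) = (k, 0, 0) + (k, 0, 0) := by decide +kernel

/-- The centraliser of the first basis vector is a product. -/
structure Sx (G : Type u) [Group G] [Finite G] extends Full G where
  f : S6 →* G
  f_inj : Function.Injective f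
  f_e : ∀ h, f h * toFull.ι (1, 0, 0) = toFull.ι (1, 0, 0) * f h
  f_t : ∀ h, f h * toFull.t = toFull.t * f h
  cent_e : ∀ g, g * toFull.ι (1, 0, 0) = toFull.ι (1, 0, 0) * g → ∃ (k : ZMod 3) (h : S6), g = toFull.ι (k, 0, 0) * f h
  f_ca : f ca = toFull.ι (0, 1, 0)
  f_cb : f cb = toFull.ι (0, 0, 1)
  f_u : f (swap 0 1) = toFull.σ (dg (1, -1, 1))
  f_w : f bw = toFull.σ sW

namespace Full

variable {G : Type u} [Group G] [Finite G] (E : Full G)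

theorem exists_sx (hS : ∃ g : G, g * E.ι (1, 0, 0) = E.ι (1, 0, 0) * g ∧ g ∉ normalizer (E.J : Set G)) :
    ∃ S : Sx G, S.toFull = E := by
  classical
  obtain ⟨g₀, hg₀, hg₀N⟩ := hS
  obtain ⟨f1, f2, f3, f4, f5, f6, f7, f8, f9, f10, f11, f12⟩ := frame_vec
  obtain ⟨o1, o2, o3, o4, o5, o6⟩ := op_frame
  obtain ⟨D⟩ := (E.toLoc.ctx).exists_pointData (v := E.ι (1, 0, 0)) (E.mem_J _) (E.ι_ne_one f6) (fun x hx hxv hx3 => by
    obtain ⟨w, hw, hxw⟩ := E.toLoc.exists_acts hx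
    have hb := List.all_eq_true.1 wt_one_cube_b w hw
    simp only [(hxw.fix_iff _).1 hxv, E.toLoc.cube_mem hxw hx3, decide_true, Bool.not_true, Bool.false_or,
      decide_eq_true_eq] at hb
    exact (hb ▸ hxw).mem_J)
  let C : Subgroup G := centralizer ({E.ι (1, 0, 0)} : Set G)
  have hmemC : ∀ {g : G}, g ∈ C ↔ g * E.ι (1, 0, 0) = E.ι (1, 0, 0) * g := fun {g} => mem_centralizer_singleton_iff
  have hιC : ∀ v, E.ι v ∈ C := fun v => hmemC.2 (E.ι_comm _ _)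
  have hσC : ∀ {x : Op}, x ∈ M48 → app x (1, 0, 0) = (1, 0, 0) → E.σ x ∈ C := fun hx e =>
    hmemC.2 (((E.σ_acts hx).fix_iff _).2 e)
  have hDC : ∀ q, E.σ (opD q) ∈ C := fun q => hσC (opD_facts.1 q).1 (opD_fix q)
  have hker : ∀ {x : C}, D.π x = 1 → ∃ k : ZMod 3, (x : G) = E.ι (k, 0, 0) := fun {x} h => by
    obtain ⟨k, hk⟩ := E.toLoc.zpow_mem ((D.ker x).1 h)
    exact ⟨k, by rw [hk, f5]⟩
  let Sg : Subgroup D.M := (D.P : Subgroup D.M)
  have hPn : ∀ q, D.π ⟨_, hDC q⟩ ∈ normalizer (Sg : Set D.M) := fun q =>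
    (D.memN _).2 (E.σ_acts (opD_facts.1 q).1).mem_N
  let Δ : DihedralGroup 4 →* normalizer (Sg : Set D.M) ⧸ Sg.subgroupOf (normalizer (Sg : Set D.M)) :=
    (QuotientGroup.mk' _).comp (MonoidHom.mk' (fun q => (⟨_, hPn q⟩ : normalizer (Sg : Set D.M))) fun p q => Subtype.ext (by
      show D.π ⟨_, hDC (p * q)⟩ = D.π ⟨_, hDC p⟩ * D.π ⟨_, hDC q⟩
      rw [← map_mul]
      congr 1
      exact Subtype.ext (by
        show E.σ (opD (p * q)) = E.σ (opD p) * E.σ (opD q)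
        rw [opD_facts.2.1, E.σ_mul (opD_facts.1 p).1 (opD_facts.1 q).1])))
  have hΔ : Function.Bijective Δ := by
    refine ⟨(injective_iff_map_eq_one Δ).2 fun q hq => ?_, fun y => ?_⟩
    · obtain ⟨w, hw⟩ := (D.memP _).1 (mem_subgroupOf.1 ((QuotientGroup.eq_one_iff _).1 hq))
      exact opD_facts.2.2.1 q (Data.Acts.unique (E.σ_acts (opD_facts.1 q).1) (by
        show E.Acts (E.σ (opD q)) _
        rw [show E.σ (opD q) = E.ι w from hw.symm]; exact Data.acts_ι w))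
    · obtain ⟨⟨m, hm⟩, rfl⟩ := QuotientGroup.mk_surjective y
      obtain ⟨g, rfl⟩ := D.surj m
      obtain ⟨x, hx, hgx⟩ := E.toLoc.exists_acts ((D.memN g).1 hm)
      have hb := List.all_eq_true.1 opD_fix_all_b x hx
      simp only [(hgx.fix_iff _).1 (hmemC.1 g.2), decide_true, Bool.not_true, Bool.false_or, List.any_eq_true,
        decide_eq_true_eq] at hb
      obtain ⟨q, -, rfl⟩ := hb
      refine ⟨q, QuotientGroup.eq.2 ?_⟩
      rw [mem_subgroupOf]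
      show (D.π ⟨_, hDC q⟩)⁻¹ * D.π g ∈ Sg
      rw [← map_inv, ← map_mul]
      exact (D.memP _).2 (E.toLoc.same_acts (E.σ_acts (opD_facts.1 q).1) hgx)
  rcases Cfsg.Agent.S3333.result D.P Sg rfl D.card9 D.self (MulEquiv.ofBijective Δ hΔ).symm D.cent with h | ⟨⟨e⟩⟩
  · exact absurd ((D.memN ⟨g₀, hmemC.2 hg₀⟩).1 ((Subgroup.normalizer_eq_top_iff.2 h).symm ▸ mem_top _)) hg₀N
  -- the frame
  have ne : ∀ {v : V}, (∀ k : ZMod 3, sm k (1, 0, 0) ≠ v) → D.π ⟨_, hιC v⟩ ≠ 1 := fun {v} hv h => by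
    obtain ⟨k, hk⟩ := hker h
    exact hv k (by rw [f5]; exact (E.ι_inj hk).symm)
  have hmulι : ∀ v w, D.π ⟨_, hιC v⟩ * D.π ⟨_, hιC w⟩ = D.π ⟨_, hιC (v + w)⟩ := fun v w => by
    rw [← map_mul]; exact congrArg D.π (Subtype.ext (E.ι_add v w).symm)
  have hU := hσC o1 f11
  have hW := hσC o2 f10
  have hconjι : ∀ {x : Op} (hx : x ∈ M48) (hxC : E.σ x ∈ C) {v w : V}, app x v = w →
      D.π ⟨_, hxC⟩ * D.π ⟨_, hιC v⟩ * (D.π ⟨_, hxC⟩)⁻¹ = D.π ⟨_, hιC w⟩ := fun {x} hx hxC {v w} e => by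
    rw [← map_inv, ← map_mul, ← map_mul]
    exact congrArg D.π (Subtype.ext (by rw [← e]; exact E.σ_acts hx v))
  have hinvι : ∀ v, D.π ⟨_, hιC (-v)⟩ = (D.π ⟨_, hιC v⟩)⁻¹ := fun v => by
    rw [← map_inv]; exact congrArg D.π (Subtype.ext (E.ι_neg v))
  obtain ⟨φ, p1, p2, p3, p4⟩ := SymNineLocal.exists_iso e (D.π ⟨_, hιC (0, 1, 0)⟩) (D.π ⟨_, hιC (0, 0, 1)⟩)
    (D.π ⟨_, hU⟩) (D.π ⟨_, hW⟩)
    (by rw [← map_mul, ← map_mul, show (⟨_, hιC (0, 1, 0)⟩ : C) * (⟨_, hιC (0, 1, 0)⟩ * ⟨_, hιC (0, 1, 0)⟩) = 1 from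
      Subtype.ext (E.ι_cube _), map_one])
    (ne f1)
    (by rw [← map_mul, ← map_mul, show (⟨_, hιC (0, 0, 1)⟩ : C) * (⟨_, hιC (0, 0, 1)⟩ * ⟨_, hιC (0, 0, 1)⟩) = 1 from
      Subtype.ext (E.ι_cube _), map_one])
    (ne f2)
    (fun h => ne f3 (by
      rw [show ((0, 1, -1) : V) = (0, 1, 0) + -(0, 0, 1) by decide, ← hmulι, hinvι, h, mul_inv_cancel]))
    (fun h => ne f4 (by
      rw [show ((0, 1, 1) : V) = (0, 1, 0) + (0, 0, 1) by decide, ← hmulι, h, hmulι, hmulι,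
        ← map_one D.π]
      exact congrArg D.π (Subtype.ext (by
        show E.ι ((0, 1, 0) + ((0, 1, 0) + (0, 1, 0))) = 1
        rw [E.ι_add, E.ι_add, E.ι_cube]))))
    (by rw [hmulι, hmulι]; exact congrArg (fun v => D.π ⟨_, hιC v⟩) (add_comm _ _))
    (by rw [← map_mul, show (⟨_, hU⟩ : C) * ⟨_, hU⟩ = 1 from Subtype.ext (E.σ_sq o1 o3), map_one])
    (by rw [hconjι o1 hU f7, hinvι])
    (hconjι o1 hU f8)
    (by rw [← map_mul, show (⟨_, hW⟩ : C) * ⟨_, hW⟩ = 1 from Subtype.ext (E.σ_sq o2 o4), map_one])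
    (hconjι o2 hW f9)
  -- the action of the sign change
  have hte : E.t * E.ι (1, 0, 0) * E.t⁻¹ = (E.ι (1, 0, 0))⁻¹ := by
    show E.σ e1W * _ * (E.σ e1W)⁻¹ = _
    rw [E.σ_acts e1W_mem.1, f12, E.ι_neg]
  have hTC : ∀ g : C, E.t * g * E.t⁻¹ ∈ C := fun g => hmemC.2 (by
    have h : Commute (g : G) (E.ι (1, 0, 0))⁻¹ := (show Commute _ _ from hmemC.1 g.2).inv_right
    have h2 : Commute (E.t * (g : G) * E.t⁻¹) (E.t * (E.ι (1, 0, 0))⁻¹ * E.t⁻¹) := by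
      show _ = _
      calc _ = E.t * ((g : G) * (E.ι (1, 0, 0))⁻¹) * E.t⁻¹ := by group
        _ = _ := by rw [h.eq]; group
    rw [show E.t * (E.ι (1, 0, 0))⁻¹ * E.t⁻¹ = E.ι (1, 0, 0) by
      rw [show E.t * (E.ι (1, 0, 0))⁻¹ * E.t⁻¹ = (E.t * E.ι (1, 0, 0) * E.t⁻¹)⁻¹ by group, hte, inv_inv]] at h2
    exact h2.eq)
  let T : C →* C := MonoidHom.mk' (fun g => ⟨_, hTC g⟩) fun g h => Subtype.ext (by
    show E.t * ((g : G) * (h : G)) * E.t⁻¹ = E.t * g * E.t⁻¹ * (E.t * h * E.t⁻¹)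
    group)
  let τ : D.M →* D.M := MonoidHom.liftOfSurjective D.π D.surj ⟨D.π.comp T, fun x hx => by
    obtain ⟨k, hk⟩ := hker (MonoidHom.mem_ker.1 hx)
    refine MonoidHom.mem_ker.2 ((D.ker _).2 ?_)
    show E.t * (x : G) * E.t⁻¹ ∈ _
    rw [hk]
    show E.σ e1W * E.ι (k, 0, 0) * (E.σ e1W)⁻¹ ∈ _
    rw [E.σ_acts e1W_mem.1, first_neg k]
    exact E.toLoc.sm_mem _ _⟩
  have hτ : ∀ g, τ (D.π g) = D.π (T g) := fun g => MonoidHom.liftOfRightInverse_comp_apply _ _ _ _ g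
  have hfix : ∀ {g : C}, (g : G) * E.t = E.t * g → τ (D.π g) = D.π g := fun {g} h => by
    rw [hτ]
    exact congrArg D.π (Subtype.ext (by
      show E.t * (g : G) * E.t⁻¹ = g
      rw [← h, mul_inv_cancel_right]))
  let α : S6 →* S6 := φ.symm.toMonoidHom.comp (τ.comp φ.toMonoidHom)
  have hα : ∀ {h : S6} {g : C}, φ h = D.π g → (g : G) * E.t = E.t * g → α h = h := fun {h g} e c => by
    show φ.symm (τ (φ h)) = h
    rw [e, hfix c, ← e, MulEquiv.symm_apply_apply]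
  have hid : ∀ h, α h = h := SymNineLocal.aut_trivial α
    (hα p1 ((E.t_fix _).2 rfl)) (hα p2 ((E.t_fix _).2 rfl)) (hα p3 (E.σ_commute o1 e1W_mem.1 o5))
    (hα p4 (E.σ_commute o2 e1W_mem.1 o6))
  have htriv : ∀ g : C, D.π (T g) = D.π g := fun g => by
    rw [← hτ]
    obtain ⟨h, hh⟩ := φ.surjective (D.π g)
    have := hid h
    rw [← hh]
    exact φ.symm.injective (by rw [MulEquiv.symm_apply_apply]; exact this)
  -- the centraliser of both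
  let K : Subgroup G := C ⊓ E.Ct
  let r : K →* S6 := φ.symm.toMonoidHom.comp (D.π.comp (Subgroup.inclusion (inf_le_left : K ≤ C)))
  have hr : Function.Bijective r := by
    refine ⟨(injective_iff_map_eq_one r).2 fun g hg => Subtype.ext ?_, fun h => ?_⟩
    · obtain ⟨k, hk⟩ := hker (show D.π ⟨g, g.2.1⟩ = 1 from φ.symm.injective (hg.trans (map_one _).symm))
      have hk0 : ((k, 0, 0) : V).1 = 0 := (E.t_fix _).1 (by
        rw [show E.toData.ι (k, 0, 0) = (g : G) from hk.symm]; exact E.mem_Ct.1 g.2.2)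
      obtain rfl : k = 0 := hk0
      show (g : G) = 1
      rw [show (g : G) = _ from hk]; exact E.ι_zero
    · obtain ⟨g, hg⟩ := D.surj (φ h)
      obtain ⟨k, hk⟩ := hker (x := g⁻¹ * T g) (by rw [map_mul, map_inv, htriv, inv_mul_cancel])
      have hk' : E.t * (g : G) * E.t⁻¹ = (g : G) * E.ι (k, 0, 0) := by
        rw [← show (g : G)⁻¹ * (E.t * (g : G) * E.t⁻¹) = E.ι (k, 0, 0) from hk, mul_inv_cancel_left]
      have hj : E.t * E.ι (-k, 0, 0) * E.t⁻¹ = E.ι (k, 0, 0) := by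
        show E.σ e1W * _ * (E.σ e1W)⁻¹ = _
        rw [E.σ_acts e1W_mem.1, first_flip k]
      refine ⟨⟨(g : G) * E.ι (-k, 0, 0), mem_inf.2 ⟨mul_mem g.2 (hιC _), E.mem_Ct.2 (mul_inv_eq_iff_eq_mul.1 ?_).symm⟩⟩, ?_⟩
      · calc E.t * ((g : G) * E.ι (-k, 0, 0)) * E.t⁻¹ = E.t * (g : G) * E.t⁻¹ * (E.t * E.ι (-k, 0, 0) * E.t⁻¹) := by group
          _ = (g : G) * (E.ι (k, 0, 0) * E.ι (k, 0, 0)) := by rw [hk', hj, mul_assoc]
          _ = _ := by rw [← E.ι_add, ← first_two k]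
      · show φ.symm (D.π (g * ⟨_, hιC _⟩)) = h
        rw [map_mul, hg, show D.π ⟨_, hιC (-k, 0, 0)⟩ = 1 from (D.ker _).2 (by
          show E.ι (-k, 0, 0) ∈ _
          rw [show ((-k, 0, 0) : V) = sm (-k) (1, 0, 0) from (f5 _).symm]; exact E.toLoc.sm_mem _ _), mul_one, MulEquiv.symm_apply_apply]
  obtain ⟨ρ, hρ⟩ : ∃ ρ : S6 →* K, ∀ h, r (ρ h) = h :=
    ⟨(MulEquiv.ofBijective r hr).symm.toMonoidHom, fun h => (MulEquiv.ofBijective r hr).apply_symm_apply h⟩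
  have hrπ : ∀ x : K, r x = φ.symm (D.π ⟨(x : G), x.2.1⟩) := fun _ => rfl
  have hfπ : ∀ h, D.π ⟨(ρ h : G), (ρ h).2.1⟩ = φ h := fun h => by
    rw [← φ.symm.injective.eq_iff, ← hrπ, hρ, MulEquiv.symm_apply_apply]
  have hfval : ∀ {h : S6} {g : G} (hgC : g ∈ C), g * E.t = E.t * g → φ h = D.π ⟨g, hgC⟩ → (ρ h : G) = g := by
    intro h g hgC hgt e
    have h1 : r (ρ h) = r ⟨g, hgC, E.mem_Ct.2 hgt⟩ := by
      rw [hρ, hrπ ⟨g, hgC, E.mem_Ct.2 hgt⟩, ← e, MulEquiv.symm_apply_apply]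
    exact congrArg Subtype.val (hr.1 h1)
  refine ⟨{
    toFull := E
    f := K.subtype.comp ρ
    f_inj := fun a b e => by
      have e' : ρ a = ρ b := Subtype.ext e
      rw [← hρ a, e', hρ b]
    f_e := fun h => hmemC.1 (ρ h).2.1
    f_t := fun h => E.mem_Ct.1 (ρ h).2.2
    cent_e := fun g hg => ?_
    f_ca := hfval _ ((E.t_fix _).2 rfl) p1
    f_cb := hfval _ ((E.t_fix _).2 rfl) p2
    f_u := hfval hU (E.σ_commute o1 e1W_mem.1 o5) p3
    f_w := hfval hW (E.σ_commute o2 e1W_mem.1 o6) p4 }, rfl⟩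
  obtain ⟨k, hk⟩ := hker (x := (⟨g, hmemC.2 hg⟩ : C) * (⟨(ρ (φ.symm (D.π ⟨g, hmemC.2 hg⟩)) : G),
    (ρ _).2.1⟩ : C)⁻¹) (by rw [map_mul, map_inv, hfπ, MulEquiv.apply_symm_apply, mul_inv_cancel])
  exact ⟨k, φ.symm (D.π ⟨g, hmemC.2 hg⟩), mul_inv_eq_iff_eq_mul.1 hk⟩

end Full

end Cfsg.Lib.SpCentre
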