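import Cfsg.Agent.LocalThree.SpCentre.SixCox
import Cfsg.Agent.LocalThree.SpCentre.SixModel

/-!
The embedded symplectic group: identification of transvections, classes of involutions, and the
centraliser of three commuting transpositions.
-/

set_option autoImplicit false
set_option maxRecDepth 8000
set_option linter.unusedSectionVars false
set_option linter.style.haveILetI false
set_option synthInstance.maxSize 2000
set_option maxHeartbeats 1000000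

namespace Cfsg.Lib.SpCentre

open Subgroup Equiv Cfsg.Lib.HeisSL Cfsg.Lib.AmalgamSpFour Cfsg.Lib.SymNineLocal
open Code (τ prodS rep tvC cm cx repSet prodC)
open scoped MatrixGroups

universe u

theorem model_facts :
    (∀ p ∈ [(4, 1), (4, 8), (4, 2), (4, 16), (4, 5), (6, 1), (6, 8), (6, 2), (6, 4)], cm (tvC p.1) (tvC p.2) = true) ∧
    (∀ p ∈ [(4, 32), (6, 16), (6, 32)],
      Code.mul (tvC p.1) (Code.mul (tvC p.2) (tvC p.1)) = Code.mul (tvC p.2) (Code.mul (tvC p.1) (tvC p.2))) ∧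
    tvC 6 ≠ tvC 2 ∧ tvC 6 ≠ tvC 4 ∧
    Code.mul (tvC 5) (Code.mul (prodC [1, 8]) (tvC 5)) ≠ prodC [1, 8] ∧
    Code.mul (tvC 5) (Code.mul (prodC [1, 8]) (tvC 5)) ≠ prodC [8, 1] ∧
    Code.ap (Code.wordC [4, 5, 6, 3, 4, 5, 1, 3, 4, 1, 3, 1]) 1 = 2 ∧
    Code.ap (Code.wordC [4, 5, 6, 3, 4, 5, 1, 3, 4, 1, 3, 1]) 8 = 16 := by decide +kernel

theorem four_cand : ∀ h : S6, h * h = 1 → h ≠ 1 → h ≠ swap 4 5 → h * swap 0 1 = swap 0 1 * h → h * swap 1 2 = swap 1 2 * h →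
    h * swap 4 5 * h = swap 4 5 * h * swap 4 5 → h = swap 3 4 ∨ h = swap 3 5 := by decide +kernel

theorem six_cand : ∀ h : S6, h * h = 1 → h ≠ 1 → h ≠ swap 0 1 → h ≠ swap 3 4 → h * swap 0 1 = swap 0 1 * h →
    h * swap 3 4 = swap 3 4 * h → h * swap 1 2 * h = swap 1 2 * h * swap 1 2 →
      h * swap 4 5 * h = swap 4 5 * h * swap 4 5 → h = swap 2 5 := by decide +kernel

theorem four_six : swap (4 : Fin 6) 5 * swap 3 4 * swap 4 5 = swap 3 5 ∧
    swap (1 : Fin 6) 2 * swap 0 1 * swap 1 2 * swap 2 5 ≠ swap 2 5 * (swap 1 2 * swap 0 1 * swap 1 2) ∧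
    ca = swap (0 : Fin 6) 1 * swap 1 2 ∧ swap (2 : Fin 6) 5 * swap 4 5 * swap 2 5 = swap 2 4 ∧
    swap (3 : Fin 6) 4 * swap 2 4 * swap 3 4 = swap 2 3 := by decide +kernel

theorem repSet_ne : ∀ j : Fin 5, j.val ≠ 0 → prodC (repSet j.val) ≠ Code.one := by decide +kernel

theorem quat_gen : ∀ A : SL(2, ZMod 3), A ^ 4 = 1 → ∃ Y : SL(2, ZMod 3), Y ^ 4 = 1 ∧ (cv Y)⁻¹ ^ 4 = 1 ∧
    (cv (cv Y)) ^ 4 = 1 ∧ (cv Y) ^ 4 = 1 ∧ ((cv Y)⁻¹ * cv (cv Y) = A ∨ (cv Y)⁻¹ * cv (cv Y) = A * i0.A) := by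
  decide +kernel

theorem τ_comm {a b : ℕ} (ha : a < 64) (hb : b < 64) (h : cm (tvC a) (tvC b) = true) : τ a * τ b = τ b * τ a :=
  Code.rep_inj (by rw [Code.rep_mul, Code.rep_mul, Code.rep_τ ha, Code.rep_τ hb]; exact eq_of_beq h)

theorem conj_solve {H : Type*} [Group H] {a b x y : H} (e : a * x * a⁻¹ = b * y * b⁻¹) :
    b⁻¹ * a * x * (b⁻¹ * a)⁻¹ = y := by
  calc b⁻¹ * a * x * (b⁻¹ * a)⁻¹ = b⁻¹ * (a * x * a⁻¹) * b := by group
    _ = y := by rw [e]; group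

namespace Sx

variable {G : Type u} [Group G] [Finite G]

/-- An embedding of the symplectic group extending the seven reflections. -/
structure Emb (S : Sx G) where
  θ : Sp6 →* G
  inj : Function.Injective θ
  gen : ∀ i, θ (spGen i) = S.vv i

variable {S : Sx G}

theorem exists_emb (S : Sx G) : Nonempty S.Emb := by
  obtain ⟨θ, h1, h2⟩ := S.exists_theta
  exact ⟨⟨θ, h1, h2⟩⟩

namespace Emb

variable (M : S.Emb)

/-- the image -/
def K : Subgroup G := M.θ.range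

theorem θ_mem (x : Sp6) : M.θ x ∈ M.K := ⟨x, rfl⟩

theorem T1 : M.θ (τ 1) = S.t := M.gen 1
theorem T2 : M.θ (τ 2) = S.f (swap 0 1) := M.gen 6
theorem T8 : M.θ (τ 8) = S.t * S.ι (1, 0, 0) := M.gen 3
theorem T16 : M.θ (τ 16) = S.f (swap 1 2) := M.gen 5
theorem T32 : M.θ (τ 32) = S.f (swap 4 5) := M.gen 0
theorem T5 : M.θ (τ 5) = S.s 1 := M.gen 2

theorem comm_T {a b : ℕ} {x y : G} (ha : a < 64) (hb : b < 64) (h : cm (tvC a) (tvC b) = true) (hx : M.θ (τ a) = x)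
    (hy : M.θ (τ b) = y) : x * y = y * x := by rw [← hx, ← hy, ← map_mul, ← map_mul, τ_comm ha hb h]

theorem braid_T {a b : ℕ} {x y : G} (ha : a < 64) (hb : b < 64)
    (h : Code.mul (tvC a) (Code.mul (tvC b) (tvC a)) = Code.mul (tvC b) (Code.mul (tvC a) (tvC b)))
    (hx : M.θ (τ a) = x) (hy : M.θ (τ b) = y) : x * y * x = y * x * y := by
  rw [← hx, ← hy, ← map_mul, ← map_mul, ← map_mul, ← map_mul]
  congr 1
  refine Code.rep_inj ?_
  rw [mul_assoc, mul_assoc, Code.rep_mul, Code.rep_mul, Code.rep_mul, Code.rep_mul, Code.rep_τ ha, Code.rep_τ hb, h]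

theorem eι : M.θ (τ 1 * τ 8) = S.ι (1, 0, 0) := by rw [map_mul, M.T1, M.T8, ← mul_assoc, S.t_sq, one_mul]

/-- an element commuting with `t` and `e₁` -/
theorem mem_f {y : G} (h1 : y * S.t = S.t * y) (h8 : y * (S.t * S.ι (1, 0, 0)) = S.t * S.ι (1, 0, 0) * y) :
    ∃ h, y = S.f h := by
  have he : y * S.ι (1, 0, 0) = S.ι (1, 0, 0) * y := by
    have h := (show Commute y S.t from h1).mul_right (show Commute y (S.t * S.ι (1, 0, 0)) from h8)
    rwa [← mul_assoc, S.t_sq, one_mul] at h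
  obtain ⟨k, h, hyk⟩ := S.cent_e y he
  refine ⟨h, ?_⟩
  have e1 : S.ι (k, 0, 0) * S.t = S.t * S.ι (k, 0, 0) := by
    have e : S.ι (k, 0, 0) = y * (S.f h)⁻¹ := by rw [hyk, mul_inv_cancel_right]
    rw [e]
    exact ((show Commute y S.t from h1).mul_left (show Commute (S.f h) S.t from S.f_t h).inv_left).eq
  have hk0 : k = 0 := (S.t_fix (k, 0, 0)).1 e1
  rw [hyk, hk0, show ((0 : ZMod 3), (0 : ZMod 3), (0 : ZMod 3)) = (0 : V) from rfl, S.ι_zero, one_mul]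

theorem τ_image {c : ℕ} (hc : c < 64) (hc0 : Code.cl (tvC c) = 1) {h : S6} (e : M.θ (τ c) = S.f h) : h * h = 1 ∧ h ≠ 1 := by
  refine ⟨S.f_inj (by rw [map_mul, ← e, ← map_mul, Code.τ_sq, map_one, map_one]), fun h1 => ?_⟩
  rw [h1, map_one, ← map_one M.θ] at e
  have := congrArg rep (M.inj e)
  rw [Code.rep_τ hc, Code.rep_one] at this
  rw [this] at hc0
  revert hc0; decide +kernel

theorem T4 : M.θ (τ 4) = S.f (swap 3 4) := by
  obtain ⟨hc, hb, -⟩ := model_facts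
  obtain ⟨h, hh⟩ := mem_f (S := S) (M.comm_T (a := 4) (b := 1) (by norm_num) (by norm_num) (hc (4, 1) (by decide)) rfl M.T1)
    (M.comm_T (a := 4) (b := 8) (by norm_num) (by norm_num) (hc (4, 8) (by decide)) rfl M.T8)
  obtain ⟨h2, h1⟩ := M.τ_image (c := 4) (by norm_num) (by decide +kernel) hh
  have c01 := M.comm_T (a := 4) (b := 2) (by norm_num) (by norm_num) (hc (4, 2) (by decide)) hh M.T2
  have c12 := M.comm_T (a := 4) (b := 16) (by norm_num) (by norm_num) (hc (4, 16) (by decide)) hh M.T16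
  have b45 := M.braid_T (a := 4) (b := 32) (by norm_num) (by norm_num) (hb (4, 32) (by decide)) hh M.T32
  rw [← map_mul, ← map_mul] at c01 c12
  rw [← map_mul, ← map_mul, ← map_mul, ← map_mul] at b45
  have h45 : h ≠ swap 4 5 := fun e => by
    have e' := congrArg rep (M.inj (hh.trans ((congrArg S.f e).trans M.T32.symm)))
    rw [Code.rep_τ (by norm_num : 4 < 64), Code.rep_τ (by norm_num : 32 < 64)] at e'
    exact absurd e' (by decide +kernel)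
  rcases four_cand h h2 h1 h45 (S.f_inj c01) (S.f_inj c12) (S.f_inj b45) with rfl | rfl
  · exact hh
  · exfalso
    have e := M.comm_T (a := 4) (b := 5) (by norm_num) (by norm_num) (hc (4, 5) (by decide)) hh M.T5
    have e35 : S.f (swap 3 5) = S.γ * S.f (swap 1 2 * swap 0 1 * swap 1 2) * S.γ⁻¹ := by
      rw [← four_six.1, map_mul, map_mul, map_mul, map_mul, ← S.γ_b2,
        show S.γ * (S.f (swap 1 2) * S.f (swap 0 1) * S.f (swap 1 2)) * S.γ⁻¹ = (S.γ * S.f (swap 1 2) * S.γ⁻¹) *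
          (S.γ * S.f (swap 0 1) * S.γ⁻¹) * (S.γ * S.f (swap 1 2) * S.γ⁻¹) by group]
      congr 2
      rw [S.f_u, S.γ_σ op_frame.1 cox_ops.2.2.1, S.f_swap34']
    rw [e35, S.s_one] at e
    refine four_six.2.1 (S.f_inj ?_)
    rw [map_mul S.f (swap 1 2 * swap 0 1 * swap 1 2), map_mul S.f (swap 2 5)]
    refine mul_left_cancel (a := S.γ) (mul_right_cancel (b := S.γ⁻¹) ?_)
    calc S.γ * (S.f (swap 1 2 * swap 0 1 * swap 1 2) * S.f (swap 2 5)) * S.γ⁻¹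
        = S.γ * S.f (swap 1 2 * swap 0 1 * swap 1 2) * S.γ⁻¹ * (S.γ * S.f (swap 2 5) * S.γ⁻¹) := by group
      _ = _ := by rw [e]; group

theorem T6 : M.θ (τ 6) = S.f (swap 2 5) := by
  obtain ⟨hc, hb, n2, n4, -⟩ := model_facts
  obtain ⟨h, hh⟩ := mem_f (S := S) (M.comm_T (a := 6) (b := 1) (by norm_num) (by norm_num) (hc (6, 1) (by decide)) rfl M.T1)
    (M.comm_T (a := 6) (b := 8) (by norm_num) (by norm_num) (hc (6, 8) (by decide)) rfl M.T8)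
  obtain ⟨h2, h1⟩ := M.τ_image (c := 6) (by norm_num) (by decide +kernel) hh
  have c01 := M.comm_T (a := 6) (b := 2) (by norm_num) (by norm_num) (hc (6, 2) (by decide)) hh M.T2
  have c34 := M.comm_T (a := 6) (b := 4) (by norm_num) (by norm_num) (hc (6, 4) (by decide)) hh M.T4
  have b12 := M.braid_T (a := 6) (b := 16) (by norm_num) (by norm_num) (hb (6, 16) (by decide)) hh M.T16
  have b45 := M.braid_T (a := 6) (b := 32) (by norm_num) (by norm_num) (hb (6, 32) (by decide)) hh M.T32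
  rw [← map_mul, ← map_mul] at c01 c34
  rw [← map_mul, ← map_mul, ← map_mul, ← map_mul] at b12 b45
  have hne : ∀ {c : ℕ} {x : S6}, c < 64 → tvC 6 ≠ tvC c → M.θ (τ c) = S.f x → h ≠ x := fun {c x} hc' hn he e => hn (by
    rw [← Code.rep_τ (by norm_num : 6 < 64), ← Code.rep_τ hc', M.inj (hh.trans ((congrArg S.f e).trans he.symm))])
  rw [six_cand h h2 h1 (hne (by norm_num) n2 M.T2) (hne (by norm_num) n4 M.T4) (S.f_inj c01) (S.f_inj c34)
    (S.f_inj b12) (S.f_inj b45)] at hh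
  exact hh

theorem f_mem (h : S6) : S.f h ∈ M.K := by
  let P : Submonoid S6 := (M.K.comap S.f).toSubmonoid
  suffices hP : ⊤ ≤ P from hP (Submonoid.mem_top h)
  rw [← Equiv.Perm.mclosure_swap_castSucc_succ 5, Submonoid.closure_le]
  rintro _ ⟨i, rfl⟩
  show S.f (swap i.castSucc i.succ) ∈ M.K
  fin_cases i
  · exact ⟨_, M.T2⟩
  · exact ⟨_, M.T16⟩
  · show S.f (swap 2 3) ∈ M.K
    rw [← four_six.2.2.2.2, ← four_six.2.2.2.1, map_mul, map_mul, map_mul, map_mul]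
    exact mul_mem (mul_mem ⟨_, M.T4⟩ (mul_mem (mul_mem ⟨_, M.T6⟩ ⟨_, M.T32⟩) ⟨_, M.T6⟩)) ⟨_, M.T4⟩
  · exact ⟨_, M.T4⟩
  · exact ⟨_, M.T32⟩

theorem t_mem : S.t ∈ M.K := ⟨_, M.T1⟩

theorem e_mem (k : ZMod 3) : S.ι (k, 0, 0) ∈ M.K := by
  rw [first_smul k, S.ι_nsmul]
  exact pow_mem (show S.ι (1, 0, 0) ∈ M.K from ⟨_, M.eι⟩) _

theorem cent_e_mem {g : G} (hg : g * S.ι (1, 0, 0) = S.ι (1, 0, 0) * g) : g ∈ M.K := by
  obtain ⟨k, h, rfl⟩ := S.cent_e g hg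
  exact mul_mem (M.e_mem k) (M.f_mem h)

theorem v_mem : S.ι (0, 1, 1) ∈ M.K := S.v_eq ▸ M.f_mem _

theorem γ_mem : S.γ ∈ M.K := by
  obtain ⟨-, -, -, -, -, -, a1, a8⟩ := model_facts
  set k := Code.wordS [4, 5, 6, 3, 4, 5, 1, 3, 4, 1, 3, 1]
  have hk : ∀ {c d : ℕ}, c < 64 → Code.ap (Code.wordC [4, 5, 6, 3, 4, 5, 1, 3, 4, 1, 3, 1]) c = d →
      k * τ c * k⁻¹ = τ d := fun {c d} hc e => by
    rw [Code.τ_conj, ← Code.ap_rep _ hc, Code.rep_word, e]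
  have h1 : k * (τ 1 * τ 8) * k⁻¹ = τ 2 * τ 16 := by
    rw [← hk (by norm_num) a1, ← hk (by norm_num) a8]; group
  have h2 : M.θ k * S.ι (1, 0, 0) * (M.θ k)⁻¹ = S.γ * S.ι (1, 0, 0) * S.γ⁻¹ := by
    rw [← M.eι, ← map_inv, ← map_mul, ← map_mul, h1, map_mul, M.T2, M.T16, ← map_mul, ← four_six.2.2.1, S.f_ca,
      M.eι, γ, S.σ_acts class_ops.2.2.2.2.1, cox_ops.2.1]
  have hx : (M.θ k)⁻¹ * S.γ ∈ M.K := M.cent_e_mem (by
    calc (M.θ k)⁻¹ * S.γ * S.ι (1, 0, 0) = (M.θ k)⁻¹ * (S.γ * S.ι (1, 0, 0) * S.γ⁻¹) * S.γ := by group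
      _ = _ := by rw [← h2]; group)
  have := mul_mem (M.θ_mem k) hx
  rwa [mul_inv_cancel_left] at this

/-- the representatives of the classes -/
noncomputable def repG (_ : S.Emb) : ℕ → G
  | 1 => S.t
  | 2 => S.σ uW
  | 3 => S.f (swap 0 1 * swap 3 4 * swap 2 5)
  | 4 => S.t * S.σ uW
  | _ => 1

theorem repG_eq : ∀ j < 5, M.θ (prodS (repSet j)) = M.repG j := by
  intro j hj
  interval_cases j <;> simp [repSet, prodS, repG, M.T1, M.T2, M.T4, M.T6, S.u_eq, mul_assoc]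

theorem repG_three : IsConj (S.σ sW) (M.repG 3) := by
  refine isConj_iff.2 ⟨S.f p13, ?_⟩
  rw [← S.f_w, ← map_inv, inv_eq_of_mul_eq_one_right p13_facts.1, ← map_mul, ← map_mul, p13_facts.2.2.2.2.1]
  rfl

theorem repG_four : M.repG 4 = S.σ negW := by
  show S.σ e1W * S.σ uW = _
  rw [S.σ_mul e1W_mem.1 class_ops.1, odd_facts.2.2.2.2.2.1]

theorem repG_distinct {i j : ℕ} (hi : i < 5) (hj : j < 5) (h : IsConj (M.repG i) (M.repG j)) : i = j := by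
  have h3 := M.repG_three
  have h4 := M.repG_four
  have hu : ∀ k, k < 5 → k ≠ 0 → ¬ IsConj (M.repG 0) (M.repG k) := fun k hk hk0 e => by
    have e1 : M.repG k = 1 := isConj_one_right.1 e
    rw [← M.repG_eq k hk, ← map_one M.θ] at e1
    have h' := congrArg rep (M.inj e1)
    rw [Code.rep_prod (Code.rep_lt ⟨k, hk⟩), Code.rep_one] at h'
    exact repSet_ne ⟨k, hk⟩ hk0 h'
  have key : ∀ {i j : ℕ}, i < j → j < 5 → ¬ IsConj (M.repG i) (M.repG j) := by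
    intro i j hij hj h
    interval_cases j <;> interval_cases i
    · exact hu 1 hj one_ne_zero h
    · exact hu 2 hj two_ne_zero h
    · exact S.not_u h
    · exact hu 3 hj three_ne_zero h
    · exact S.not_u0 (h.trans h3.symm)
    · exact S.u_u0 (h3.trans h.symm)
    · exact hu 4 hj four_ne_zero h
    · rw [h4] at h; exact S.not_w h
    · rw [h4] at h; exact S.u_w h
    · rw [h4] at h; exact S.u0_w (h3.trans h)
  rcases lt_trichotomy i j with l | l | l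
  · exact absurd h (key l hj)
  · exact l
  · exact absurd h.symm (key l hi)

theorem conj_rep {x : Sp6} (hx : x * x = 1) : IsConj (M.θ x) (M.repG (cx x)) := by
  obtain ⟨hlt, -, ⟨k, hk⟩, -⟩ := Code.classify hx
  refine isConj_iff.2 ⟨M.θ k, ?_⟩
  rw [← M.repG_eq _ hlt, ← hk, map_mul, map_mul, map_inv]

/-- Conjugate elements of the image are conjugate in it. -/
theorem conj_of_conj {x y : Sp6} (hx : x * x = 1) (hy : y * y = 1) (h : IsConj (M.θ x) (M.θ y)) :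
    cx x = cx y ∧ ∃ k, k * x * k⁻¹ = y := by
  obtain ⟨hlx, -, ⟨a, ha⟩, -⟩ := Code.classify hx
  obtain ⟨hly, -, ⟨b, hb⟩, -⟩ := Code.classify hy
  have e := M.repG_distinct hlx hly (((M.conj_rep hx).symm.trans h).trans (M.conj_rep hy))
  refine ⟨e, b⁻¹ * a, ?_⟩
  rw [e] at ha
  exact conj_solve (ha.trans hb.symm)

include M in
theorem cx_conj {x : Sp6} (hx : x * x = 1) (k : Sp6) : cx (k * x * k⁻¹) = cx x :=
  ((M.conj_of_conj hx (by rw [show k * x * k⁻¹ * (k * x * k⁻¹) = k * (x * x) * k⁻¹ by group, hx, mul_one, mul_inv_cancel])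
    (isConj_iff.2 ⟨M.θ k, by rw [map_mul, map_mul, map_inv]⟩)).1).symm

theorem cx_eq {x : Sp6} (hx : x * x = 1) {j : ℕ} (hj : j < 5) : IsConj (M.repG j) (M.θ x) ↔ cx x = j := by
  obtain ⟨hlt, -⟩ := Code.classify hx
  exact ⟨fun h => (M.repG_distinct hj hlt (h.trans (M.conj_rep hx))).symm, fun e => e ▸ (M.conj_rep hx).symm⟩

/-- The reflections in the image are the transvections. -/
theorem refl_tv {r : G} (hr : IsConj S.t r) (hrK : r ∈ M.K) : ∃ a ∈ Code.tvs, M.θ (τ a) = r := by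
  obtain ⟨x, rfl⟩ := hrK
  have hx : x * x = 1 := M.inj (by
    rw [map_mul, map_one]
    obtain ⟨c, hc⟩ := isConj_iff.1 hr
    rw [← hc]
    calc c * S.t * c⁻¹ * (c * S.t * c⁻¹) = c * (S.t * S.t) * c⁻¹ := by group
      _ = 1 := by rw [S.t_sq]; group)
  obtain ⟨-, -, ⟨k, hk⟩, -⟩ := Code.classify hx
  have hc : cx x = 1 := (M.cx_eq hx (by norm_num)).1 hr
  rw [hc] at hk
  set a := Cfsg.Lib.SpSixTwo.actV k⁻¹ 1
  have hxa : x = τ a := by
    rw [← Code.τ_conj k⁻¹ 1, show τ 1 = k * x * k⁻¹ by rw [hk]; simp [repSet, prodS]]; group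
  refine ⟨a, ?_, by rw [hxa]⟩
  have ha64 : a < 64 := Cfsg.Lib.SpSixTwo.actV_lt _ _
  have ha0 : a ≠ 0 := fun e => by
    rw [hxa, e, cx, Code.rep_τ (by norm_num)] at hc
    revert hc; decide +kernel
  exact List.mem_map.2 ⟨a - 1, List.mem_range.2 (by omega), by omega⟩

theorem exists_good : ∃ A, S.Good A ∧ A * A ≠ 1 ∧ S.zA A ∈ M.K := by
  obtain ⟨A, δ, h, hA, hh, he⟩ := S.U1_rep (S.Za_U1 (S.s_Za 1))
  refine ⟨A, hA, fun hA2 => ?_, ?_⟩
  · -- otherwise the reflection normalises the subgroup of order three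
    rw [S.zA_small hA2, one_mul] at he
    have hp : S.f p13 * S.f p13 = 1 := by rw [← map_mul, p13_facts.1, map_one]
    have hs : S.s 1 = S.t ^ δ.val * S.f (p13 * h * p13) := by
      calc S.s 1 = S.f p13 * S.f p13 * S.s 1 * (S.f p13 * S.f p13) := by rw [hp, one_mul, mul_one]
        _ = S.f p13 * (S.f p13 * S.s 1 * S.f p13) * S.f p13 := by group
        _ = S.f p13 * S.t ^ δ.val * S.f h * S.f p13 := by rw [he]; group
        _ = _ := by
          rw [map_mul, map_mul, (show Commute (S.f p13) S.t from S.f_t _).pow_right δ.val]; group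
    obtain ⟨-, -, -, -, n1, n2, -, -⟩ := model_facts
    have hr : ∀ l : List ℕ, (∀ c ∈ l, c < 64) → M.θ (τ 5 * (τ 1 * τ 8) * τ 5) = M.θ (prodS l) →
        Code.mul (tvC 5) (Code.mul (prodC [1, 8]) (tvC 5)) = prodC l := fun l hl e => by
      have e' := congrArg rep (M.inj e)
      rwa [mul_assoc, Code.rep_mul, Code.rep_mul, Code.rep_τ (by norm_num), show τ 1 * τ 8 = prodS [1, 8] by simp [prodS],
        Code.rep_prod (by decide), Code.rep_prod hl] at e'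
    have hsq : S.s 1 = (S.s 1)⁻¹ := (inv_eq_of_mul_eq_one_right (S.Za_sq (S.s_Za 1))).symm
    have hconj : M.θ (τ 5 * (τ 1 * τ 8) * τ 5) = S.s 1 * S.ι (1, 0, 0) * (S.s 1)⁻¹ := by
      rw [map_mul, map_mul, M.T5, M.eι, ← hsq]
    have hfe : ∀ x : S6, S.f x * S.ι (1, 0, 0) * (S.f x)⁻¹ = S.ι (1, 0, 0) := fun x => by
      rw [S.f_e x, mul_inv_cancel_right]
    have e1 : M.θ (τ 5 * (τ 1 * τ 8) * τ 5) = S.t ^ δ.val * S.ι (1, 0, 0) * (S.t ^ δ.val)⁻¹ := by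
      rw [hconj, hs, mul_inv_rev, ← mul_assoc, mul_assoc (S.t ^ δ.val) (S.f _), mul_assoc (S.t ^ δ.val),
        hfe]
    obtain ⟨d, hd⟩ := δ
    interval_cases d
    · refine n1 (hr [1, 8] (by decide) ?_)
      rw [e1, show prodS [1, 8] = τ 1 * τ 8 by simp [prodS], M.eι]; group
    · refine n2 (hr [8, 1] (by decide) ?_)
      rw [e1, show prodS [8, 1] = τ 8 * τ 1 by simp [prodS], map_mul, M.T1, M.T8, pow_one, S.t_inv]
  · have h1 : S.zA A = S.f p13 * S.s 1 * S.f p13 * (S.f h)⁻¹ * (S.t ^ δ.val)⁻¹ := by rw [he]; group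
    rw [h1]
    exact mul_mem (mul_mem (mul_mem (mul_mem (M.f_mem _) ⟨_, M.T5⟩) (M.f_mem _)) (inv_mem (M.f_mem _)))
      (inv_mem (pow_mem M.t_mem _))

theorem good_mem : ∀ A : SL(2, ZMod 3), A ^ 4 = 1 → S.Good A ∧ S.zA A ∈ M.K := by
  obtain ⟨A, hA, hA2, hAK⟩ := M.exists_good
  have hall : ∀ X : SL(2, ZMod 3), X ^ 4 = 1 → S.Good X := fun X hX =>
    ⟨hX, (S.good_all hA hA2 hX hX).1, (S.good_all hA hA2 hX hX).2⟩
  have hv : ∀ X : SL(2, ZMod 3), X ^ 4 = 1 → S.zA (cv X) = S.ι (0, 1, 1) * S.zA X * (S.ι (0, 1, 1))⁻¹ := by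
    intro X hX
    have hvt : Commute (S.ι (0, 1, 1)) S.t := (S.t_fix _).2 rfl
    rw [zA, zA]
    calc S.qA (cv X) * (S.t * S.qA (cv X) * S.t)
        = (S.ι (0, 1, 1) * S.qA X * (S.ι (0, 1, 1))⁻¹) * (S.t * (S.ι (0, 1, 1) * S.qA X * (S.ι (0, 1, 1))⁻¹) * S.t) := by
          rw [S.qA_v]
      _ = (S.ι (0, 1, 1) * S.qA X * (S.ι (0, 1, 1))⁻¹) * (S.t * S.ι (0, 1, 1) * S.qA X * ((S.ι (0, 1, 1))⁻¹ * S.t)) := by
          group
      _ = _ := by rw [hvt.symm.eq, hvt.inv_left.eq]; group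
  intro X hX
  refine ⟨hall X hX, ?_⟩
  obtain ⟨i, j, rfl⟩ := quat_facts.2.2.2.2.2.1 A hA.1 hA2 X hX
  have h4 : ∀ (Y : SL(2, ZMod 3)) (n : ℕ), Y ^ 4 = 1 → (Y ^ n) ^ 4 = 1 := fun Y n h => by
    rw [← pow_mul, mul_comm, pow_mul, h, one_pow]
  have hp : ∀ (Y : SL(2, ZMod 3)), Y ^ 4 = 1 → S.zA Y ∈ M.K → ∀ n : ℕ, S.zA (Y ^ n) ∈ M.K := by
    intro Y hY hYK n
    induction n with
    | zero => rw [pow_zero, S.zA_small (one_mul 1)]; exact one_mem _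
    | succ n ih => rw [pow_succ, (Good.mul S (hall _ (h4 Y n hY)) (hall Y hY)).2]; exact mul_mem ih hYK
  have hcv := (quat_facts.2.2.2.2.2.2.1 A hA.1).1
  rw [(Good.mul S (hall _ (h4 A i.val hA.1)) (hall _ (h4 (cv A) j.val hcv))).2]
  exact mul_mem (hp A hA.1 hAK _) (hp (cv A) hcv (by rw [hv A hA.1]; exact mul_mem (mul_mem M.v_mem hAK) (inv_mem M.v_mem)) _)

theorem U1_mem {g : G} (hg : g ∈ S.U1) : g ∈ M.K := by
  obtain ⟨A, δ, h, hA, -, rfl⟩ := S.U1_rep hg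
  exact mul_mem (mul_mem (M.good_mem A hA.1).2 (pow_mem M.t_mem _)) (M.f_mem h)

theorem Za_mem {g : G} (hg : g ∈ S.Za) : g ∈ M.K := by
  have h := mul_mem (mul_mem (M.f_mem p13) (M.U1_mem (S.Za_U1 hg))) (M.f_mem p13)
  have hp : S.f p13 * S.f p13 = 1 := by rw [← map_mul, p13_facts.1, map_one]
  rwa [show S.f p13 * (S.f p13 * g * S.f p13) * S.f p13 = (S.f p13 * S.f p13) * g * (S.f p13 * S.f p13) by group, hp,
    one_mul, mul_one] at h

theorem qA_mem {A : SL(2, ZMod 3)} (hA : A ^ 4 = 1) : S.qA A ∈ M.K ∧ S.qA A ∈ S.Cw := by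
  refine ⟨?_, (M.good_mem A hA).1.2.1⟩
  obtain ⟨Y, hY, h1, h2, h3, hYA⟩ := quat_gen A hA
  set X := (cv Y)⁻¹ with hX
  obtain ⟨gX, zX⟩ := M.good_mem X h1
  obtain ⟨gY, zY⟩ := M.good_mem Y hY
  have et : S.ι (1, 0, 0) * S.t = S.t * (S.ι (1, 0, 0))⁻¹ := by
    have h := S.t_e 1
    rw [← S.ι_neg]
    calc S.ι (1, 0, 0) * S.t = S.t * (S.t * S.ι (1, 0, 0) * S.t⁻¹) := by
          rw [S.t_inv, ← mul_assoc, ← mul_assoc, S.t_sq, one_mul]
      _ = _ := by rw [h]; congr 2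
  have e1 : S.ι (1, 0, 0) * S.zA Y * (S.ι (1, 0, 0))⁻¹ = S.qA (cv (cv Y)) * (S.t * S.qA (cv Y) * S.t) := by
    rw [← (S.qA_e Y).1, ← (S.qA_e Y).2, zA]
    calc _ = S.ι (1, 0, 0) * S.qA Y * (S.ι (1, 0, 0))⁻¹ *
          (S.ι (1, 0, 0) * S.t * S.qA Y * (S.t * (S.ι (1, 0, 0))⁻¹)) := by group
      _ = _ := by rw [← et]; nth_rw 1 [et]; group
  have hc : Commute (S.qA (cv (cv Y))) (S.t * S.qA X * S.t) := by
    obtain ⟨A0, hA0, hA02, -⟩ := M.exists_good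
    exact (S.good_all hA0 hA02 h2 h1).2
  have e2 : S.zA X * (S.ι (1, 0, 0) * S.zA Y * (S.ι (1, 0, 0))⁻¹) = S.qA (X * cv (cv Y)) := by
    rw [e1, zA]
    calc S.qA X * (S.t * S.qA X * S.t) * (S.qA (cv (cv Y)) * (S.t * S.qA (cv Y) * S.t))
        = S.qA X * ((S.t * S.qA X * S.t) * S.qA (cv (cv Y))) * (S.t * S.qA (cv Y) * S.t) := by group
      _ = S.qA X * (S.qA (cv (cv Y)) * (S.t * S.qA X * S.t)) * (S.t * S.qA (cv Y) * S.t) := by rw [hc.eq]
      _ = S.qA X * S.qA (cv (cv Y)) * (S.t * (S.qA X * (S.t * S.t) * S.qA (cv Y)) * S.t) := by group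
      _ = _ := by rw [S.t_sq, mul_one, S.qA_mul, S.qA_mul X (cv Y), hX, inv_mul_cancel, S.qA_one, mul_one, S.t_sq, mul_one]
  have hmem : S.qA (X * cv (cv Y)) ∈ M.K := e2 ▸ mul_mem zX (mul_mem (mul_mem (M.e_mem 1) zY) (inv_mem (M.e_mem 1)))
  rcases hYA with e | e <;> rw [e] at hmem
  · exact hmem
  · rw [← S.qA_mul, S.qA_i0, ← S.f_w] at hmem
    have := mul_mem hmem (inv_mem (M.f_mem bw))
    rwa [mul_inv_cancel_right] at this

theorem Cw_mem {g : G} (hg : g ∈ S.Cw) : g ∈ M.K := by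
  obtain ⟨T⟩ := S.exists_tcore
  obtain ⟨n, hn, k, δ, rfl⟩ := T.cover g hg
  obtain ⟨A, B, hA, hB, -, -, z, hz, rfl⟩ := T.form n hn
  obtain ⟨h, -, rfl⟩ := hz
  exact mul_mem (mul_mem (mul_mem (mul_mem (M.qA_mem hA).1 (mul_mem (mul_mem M.t_mem (M.qA_mem hB).1) M.t_mem))
    (M.f_mem h)) (M.e_mem k)) (pow_mem M.t_mem _)

end Emb

end Sx

end Cfsg.Lib.SpCentre
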