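import Cfsg.Agent.LocalThree.SpCentre.SixTriple
import Cfsg.Agent.PGLCover.Two

/-!
Elements of odd order centralising the first reflection and a representative of the second class of
involutions.
-/

set_option autoImplicit false
set_option maxRecDepth 8000
set_option linter.unusedSectionVars false
set_option linter.style.haveILetI false
set_option synthInstance.maxSize 2000
set_option maxHeartbeats 1000000

namespace Cfsg.Lib.SpCentre

open Subgroup Equiv Cfsg.Lib.HeisSL Cfsg.Lib.AmalgamSpFour Cfsg.Lib.SymNineLocal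
open scoped MatrixGroups

universe u

theorem odd_facts : cmp uW e1W = cmp e1W uW ∧ cmp uW sW = cmp sW uW ∧ app uW (0, 1, 1) = -(0, 1, 1) ∧
    cmp e1W (dg (1, -1, 1)) = dg (-1, -1, 1) ∧ cmp (cmp cW (cmp cW cW)) idW = idW ∧
    cmp e1W uW = negW ∧ (∀ u : V, u.1 = 0 → app sW u = u → ∃ k : ZMod 3, u = sm k (0, 1, 1)) ∧
    [cW, cmp cW cW, idW].any (fun x => decide (x ∈ M48) && decide (cmp x (dg (-1, -1, 1)) = cmp uW x)) = true ∧
    cmp e1W (cmp sW (cmp (dg (1, -1, 1)) sW)) = dg (-1, 1, -1) ∧ dg (-1, -1, 1) ∈ M48 := by decide +kernel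

theorem odd_six : (∀ k : Fin 3, tr k * tr (k + 1) = bw * tr (k + 2)) ∧
    (∀ k : Fin 3, ∃ p : S6, p * (bw * tr k) = (swap 0 1 * swap 3 4) * p) ∧
    (∀ k : Fin 3, ∃ p : S6, p * tr k = swap 0 1 * p) ∧
    swap (0 : Fin 6) 1 * swap 3 4 * bw = bw * (swap 0 1 * swap 3 4) ∧ swap (0 : Fin 6) 3 * bw = bw * swap 0 3 ∧
    (swap (0 : Fin 6) 1 * swap 3 4 * swap 0 3) * (swap 0 1 * swap 3 4 * swap 0 3) = tr 1 * tr 0 ∧
    (∀ k : Fin 3, tr k ≠ 1 ∧ tr k ≠ bw ∧ tr k * bw = bw * tr k) ∧ tr 1 * tr 0 ≠ 1 ∧ tr 1 * tr 0 ≠ bw ∧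
    (tr 1 * tr 0) * (tr 1 * tr 0) = 1 := by
  decide +kernel

/-- transport of the three transpositions -/
def p13 : S6 := swap 1 3

theorem p13_facts : p13 * p13 = 1 ∧ p13 * tr 0 * p13 = swap 0 1 ∧ p13 * tr 1 * p13 = swap 3 4 ∧
    p13 * tr 2 * p13 = swap 2 5 ∧ p13 * bw * p13 = swap 0 1 * swap 3 4 * swap 2 5 ∧
    p13 * (swap 0 1 * swap 3 4) * p13 = swap 0 3 * swap 1 4 := by decide +kernel

theorem v_fix : app sW (0, 1, 1) = (0, 1, 1) := by decide +kernel

theorem v_smul : ∀ k : ZMod 3, sm k ((0, 1, 1) : V) = k.val • ((0, 1, 1) : V) := by decide +kernel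

theorem odd_dvd {G : Type u} [Group G] {d : G} {n : ℕ} (hn : Odd n) (hdn : d ^ n = 1) {k : ℕ}
    (hk : d ^ 2 ^ k = 1) : d = 1 :=
  orderOf_eq_one_iff.1 (Nat.dvd_one.1 (((Nat.Coprime.pow_right k hn.coprime_two_right) : Nat.Coprime n (2 ^ k)) ▸
    Nat.dvd_gcd (orderOf_dvd_of_pow_eq_one hdn) (orderOf_dvd_of_pow_eq_one hk)))

namespace Sx

variable {G : Type u} [Group G] [Finite G] (S : Sx G)

theorem t_inv : S.t⁻¹ = S.t := inv_eq_of_mul_eq_one_right S.t_sq

theorem t_e (k : ZMod 3) : S.t * S.ι (k, 0, 0) * S.t⁻¹ = S.ι (-k, 0, 0) := by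
  show S.σ e1W * _ * (S.σ e1W)⁻¹ = _
  rw [S.σ_acts e1W_mem.1]
  congr 1
  have key : ∀ k : ZMod 3, app e1W (k, 0, 0) = (-k, 0, 0) := by decide +kernel
  exact key k

/-- An element centralising the reflection and the three transpositions, in coordinates. -/
theorem Cw_t (T : S.TCore) {d : G} (hd : d ∈ S.Cw) (hdt : d * S.t = S.t * d) :
    ∃ m ∈ T.N, ∃ δ : Fin 2, d = m * S.t ^ δ.val ∧ m * S.t = S.t * m := by
  classical
  obtain ⟨m, hm, k, δ, he⟩ := T.cover d hd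
  have hk : k = 0 := by
    by_contra hk
    have hm' := T.normal _ S.t_Cw m hm
    have hpc : S.t ^ δ.val * S.t⁻¹ * (S.t ^ δ.val)⁻¹ = S.t⁻¹ := by group
    have h1 : m * S.ι (k, 0, 0) = (S.t * m * S.t⁻¹) * S.ι (-k, 0, 0) := by
      rw [← S.t_e]
      calc m * S.ι (k, 0, 0) = d * (S.t ^ δ.val)⁻¹ := by rw [he, mul_inv_cancel_right]
        _ = (S.t * d * S.t⁻¹) * (S.t ^ δ.val)⁻¹ := by rw [← hdt, mul_inv_cancel_right]
        _ = S.t * m * S.ι (k, 0, 0) * (S.t ^ δ.val * S.t⁻¹ * (S.t ^ δ.val)⁻¹) := by rw [he]; group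
        _ = _ := by rw [hpc]; group
    have h2 : S.ι (k + k, 0, 0) ∈ T.N := by
      have e : S.ι (k + k, 0, 0) = m⁻¹ * (S.t * m * S.t⁻¹) := by
        rw [show ((k + k, 0, 0) : V) = (k, 0, 0) + (k, 0, 0) by simp]
        rw [S.ι_add, eq_inv_mul_iff_mul_eq, ← mul_assoc, h1, mul_assoc, ← S.ι_add]
        simp [show ((0, 0, 0) : V) = 0 from rfl, S.ι_zero]
      rw [e]; exact mul_mem (inv_mem hm) hm'
    obtain ⟨j, hj⟩ := T.two ⟨_, h2⟩
    have h3 : S.ι (k + k, 0, 0) ^ 3 = 1 := by rw [pow_three]; exact S.ι_cube _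
    have h4 := congrArg Subtype.val hj
    have h5 : S.ι (k + k, 0, 0) = 1 := odd_dvd (by decide : Odd 3) h3 (k := j) (by simpa using h4)
    rw [← S.ι_zero] at h5
    have key : ∀ k : ZMod 3, ((k + k, 0, 0) : V) = 0 → k = 0 := by decide +kernel
    exact hk (key k (S.ι_inj h5))
  subst hk
  rw [show S.ι ((0 : ZMod 3), 0, 0) = 1 from S.ι_zero, mul_one] at he
  refine ⟨m, hm, δ, he, ?_⟩
  rw [show m = d * (S.t ^ δ.val)⁻¹ by rw [he, mul_inv_cancel_right]]
  exact ((show Commute d S.t from hdt).mul_left ((Commute.refl S.t).pow_left δ.val).inv_left).eq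

/-- The centraliser of the reflection and the three transpositions has no element of odd order. -/
theorem Cw_t_odd {d : G} (hd : d ∈ S.Cw) (hdt : d * S.t = S.t * d) {n : ℕ} (hn : Odd n) (hdn : d ^ n = 1) : d = 1 := by
  classical
  obtain ⟨T⟩ := S.exists_tcore
  obtain ⟨m, hm, δ, he, -⟩ := S.Cw_t T hd hdt
  have hd2 : d * d ∈ T.N := by
    rw [he]
    have hpp : S.t ^ δ.val * S.t ^ δ.val = 1 := by
      rw [← (Commute.refl S.t).mul_pow, S.t_sq, one_pow]
    have e : m * S.t ^ δ.val * (m * S.t ^ δ.val) = m * (S.t ^ δ.val * m * (S.t ^ δ.val)⁻¹) := by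
      calc _ = m * (S.t ^ δ.val * m * (S.t ^ δ.val)⁻¹) * (S.t ^ δ.val * S.t ^ δ.val) := by group
        _ = _ := by rw [hpp, mul_one]
    rw [e]
    exact mul_mem hm (T.normal _ (pow_mem S.t_Cw _) m hm)
  obtain ⟨j, hj⟩ := T.two ⟨_, hd2⟩
  refine odd_dvd hn hdn (k := j + 1) ?_
  rw [pow_succ', pow_mul, pow_two]
  simpa using congrArg Subtype.val hj

theorem tr_conj_t (k : Fin 3) : IsConj S.t (S.f (tr k)) := by
  fin_cases k <;> exact S.conj_swap (by decide)

/-- A transposition times the reflection is of the second class. -/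
theorem not_tr_t (k : Fin 3) : ¬ IsConj S.t (S.t * S.f (tr k)) := fun h => by
  obtain ⟨p, hp⟩ := odd_six.2.2.1 k
  refine S.not_u ((h.trans ?_).trans (?_ : IsConj (S.t * S.f (swap 0 1)) _))
  · refine isConj_iff.2 ⟨S.f p, ?_⟩
    rw [← mul_assoc, show S.f p * S.t = S.t * S.f p from S.f_t p, mul_assoc S.t, ← map_mul, hp, map_mul, ← mul_assoc,
      mul_inv_cancel_right]
  · obtain ⟨x, -, hx⟩ := List.any_eq_true.1 odd_facts.2.2.2.2.2.2.2.1
    simp only [Bool.and_eq_true, decide_eq_true_eq] at hx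
    refine isConj_iff.2 ⟨S.σ x, mul_inv_eq_iff_eq_mul.2 ?_⟩
    show S.σ x * (S.σ e1W * S.f (swap 0 1)) = _
    rw [S.f_u, S.σ_mul e1W_mem.1 op_frame.1, odd_facts.2.2.2.1, S.σ_mul hx.1 odd_facts.2.2.2.2.2.2.2.2.2,
      S.σ_mul class_ops.1 hx.1, hx.2]

theorem t_f (h : S6) : S.t * S.f h = S.f h * S.t := (S.f_t h).symm

theorem f_ne_t (h : S6) : S.f h ≠ S.t := fun e => by
  have h1 := S.t_e 1
  rw [← e, show S.f h * S.ι (1, 0, 0) = S.ι (1, 0, 0) * S.f h from S.f_e h, mul_inv_cancel_right] at h1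
  exact absurd (S.ι_inj h1) (by decide +kernel)

/-- The group generated by the reflection and the product of the transpositions. -/
def Tz : Subgroup G where
  carrier := {g | g = 1 ∨ g = S.t ∨ g = S.f bw ∨ g = S.t * S.f bw}
  one_mem' := Or.inl rfl
  mul_mem' := by
    have hb : S.f bw * S.f bw = 1 := by rw [← map_mul, show bw * bw = 1 by decide +kernel, map_one]
    have hc := S.t_f bw
    have ht := S.t_sq
    rintro x y (rfl | rfl | rfl | rfl) (rfl | rfl | rfl | rfl)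
    all_goals simp only [Set.mem_setOf_eq, one_mul, mul_one, ← hc, ht, hb, ← mul_assoc]
    all_goals try simp only [show S.t * S.f bw * S.t = S.f bw by rw [hc, mul_assoc, ht, mul_one], ht, hb, one_mul, mul_one, true_or, or_true]
    all_goals try simp only [mul_assoc S.t (S.f bw) (S.f bw), hb, mul_one, ht, one_mul, true_or, or_true]
  inv_mem' := by
    have hb : (S.f bw)⁻¹ = S.f bw := by rw [← map_inv, show bw⁻¹ = bw by decide +kernel]
    rintro x (rfl | rfl | rfl | rfl)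
    · simp
    · simp [S.t_inv]
    · simp [hb]
    · simp only [Set.mem_setOf_eq, mul_inv_rev, hb, S.t_inv, ← S.t_f, or_true]

theorem Tz_sq {g : G} (hg : g ∈ S.Tz) : g * g = 1 := by
  have hb : S.f bw * S.f bw = 1 := by rw [← map_mul, show bw * bw = 1 by decide +kernel, map_one]
  rcases hg with rfl | rfl | rfl | rfl
  · exact one_mul _
  · exact S.t_sq
  · exact hb
  · calc S.t * S.f bw * (S.t * S.f bw) = S.t * (S.f bw * S.t) * S.f bw := by group
      _ = S.t * S.t * (S.f bw * S.f bw) := by rw [← S.t_f]; group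
      _ = 1 := by rw [S.t_sq, hb, one_mul]

theorem Tz_comm {g z : G} (h1 : g * S.t = S.t * g) (h2 : g * S.f bw = S.f bw * g) (hz : z ∈ S.Tz) : g * z = z * g := by
  rcases hz with rfl | rfl | rfl | rfl
  · rw [mul_one, one_mul]
  · exact h1
  · exact h2
  · exact ((show Commute g S.t from h1).mul_right h2).eq

theorem f_Tz {h : S6} (hz : S.f h ∈ S.Tz) : h = 1 ∨ h = bw := by
  rcases hz with e | e | e | e
  · exact Or.inl (S.f_inj (e.trans (map_one _).symm))
  · exact absurd e (S.f_ne_t h)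
  · exact Or.inr (S.f_inj e)
  · refine absurd ?_ (S.f_ne_t (h * bw))
    rw [map_mul, show S.f h = S.t * S.f bw from e, mul_assoc, ← map_mul, show bw * bw = 1 by decide +kernel, map_one,
      mul_one]

/-- An element of odd order centralising the first two class representatives and an element swapping transpositions. -/
theorem odd_B {d : G} (hdt : d * S.t = S.t * d) (hd0 : d * S.σ sW = S.σ sW * d)
    (hg : d * S.σ uW = S.σ uW * d ∨ d * (S.σ uW * S.f (swap 0 3)) = S.σ uW * S.f (swap 0 3) * d)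
    {n : ℕ} (hn : Odd n) (hdn : d ^ n = 1) : d = 1 := by
  classical
  have : Fact (Nat.Prime 3) := ⟨Nat.prime_three⟩
  rw [← S.f_w] at hd0
  obtain ⟨C, hCd⟩ : ∃ C : Subgroup G, C = centralizer ({S.t, S.f bw} : Set G) := ⟨_, rfl⟩
  have hC : ∀ {g : G}, g ∈ C ↔ g * S.t = S.t * g ∧ g * S.f bw = S.f bw * g := fun {g} => by
    rw [hCd, mem_centralizer_iff]
    exact ⟨fun h => ⟨(h _ (Or.inl rfl)).symm, (h _ (Or.inr rfl)).symm⟩,
      fun h z hz => by rcases hz with rfl | rfl <;> [exact h.1.symm; exact h.2.symm]⟩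
  let Zc : Subgroup C := S.Tz.subgroupOf C
  haveI : Zc.Normal := ⟨fun z hz g => by
    show ((g * z * g⁻¹ : C) : G) ∈ S.Tz
    rw [Subgroup.coe_mul, Subgroup.coe_mul, Subgroup.coe_inv,
      S.Tz_comm (hC.1 g.2).1 (hC.1 g.2).2 (mem_subgroupOf.1 hz), mul_inv_cancel_right]
    exact mem_subgroupOf.1 hz⟩
  let π : C →* C ⧸ Zc := QuotientGroup.mk' Zc
  have hπs : Function.Surjective π := QuotientGroup.mk'_surjective Zc
  have hker : ∀ x : C, π x = 1 ↔ (x : G) ∈ S.Tz := fun x => by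
    rw [QuotientGroup.mk'_apply, QuotientGroup.eq_one_iff, mem_subgroupOf]
  have hπeq : ∀ x y : C, π x = π y ↔ (x : G)⁻¹ * y ∈ S.Tz := fun x y => by
    rw [← inv_mul_eq_one, ← map_inv, ← map_mul, hker]; rfl
  have hvC : S.ι (0, 1, 1) ∈ C := hC.2 ⟨(S.t_fix _).2 rfl, by
    rw [S.f_w]
    exact ((S.σ_acts op_frame.2.1).fix_iff (0, 1, 1)).2 v_fix |>.symm⟩
  have huC : S.σ uW ∈ C := hC.2 ⟨S.σ_commute class_ops.1 e1W_mem.1 odd_facts.1, by
    rw [S.f_w]; exact S.σ_commute class_ops.1 op_frame.2.1 odd_facts.2.1⟩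
  have hxC : ∀ k, S.f (tr k) ∈ C := fun k => hC.2 ⟨S.f_t _, by rw [← map_mul, ← map_mul, (odd_six.2.2.2.2.2.2.1 k).2.2]⟩
  set v : C ⧸ Zc := π ⟨_, hvC⟩ with hv
  set dd : C ⧸ Zc := π ⟨d, hC.2 ⟨hdt, hd0⟩⟩ with hdd
  have hv3 : v * (v * v) = 1 := by
    rw [hv, ← map_mul, ← map_mul, ← map_one π]; exact congrArg π (Subtype.ext (S.ι_cube _))
  have hv1 : v ≠ 1 := fun h => by
    have h2 := S.Tz_sq ((hker _).1 h)
    refine S.ι_ne_one wt_ne ?_
    calc S.ι (0, 1, 1) = (S.ι (0, 1, 1) * (S.ι (0, 1, 1) * S.ι (0, 1, 1))) * (S.ι (0, 1, 1) * S.ι (0, 1, 1))⁻¹ := by group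
      _ = 1 := by rw [S.ι_cube, h2]; group
  have hcentv : ∀ y, y * v = v * y → y ∈ zpowers v := by
    intro y hy
    obtain ⟨g, rfl⟩ := hπs y
    rw [hv, ← map_mul, ← map_mul, hπeq] at hy
    set w := (((g : G) * S.ι (0, 1, 1))⁻¹ * (S.ι (0, 1, 1) * (g : G)))⁻¹ with hw
    have hwm : w ∈ S.Tz := inv_mem hy
    have hgw : (g : G) * S.ι (0, 1, 1) = S.ι (0, 1, 1) * g * w := by rw [hw]; group
    have hwg : Commute w (g : G) := (S.Tz_comm (hC.1 g.2).1 (hC.1 g.2).2 hwm).symm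
    have hwv : Commute w (S.ι (0, 1, 1)) := (S.Tz_comm (hC.1 hvC).1 (hC.1 hvC).2 hwm).symm
    have e1 : (g : G) * S.ι (0, 1, 1) * (g : G)⁻¹ = S.ι (0, 1, 1) * w := by
      rw [hgw, mul_assoc (S.ι (0, 1, 1)), ← hwg.eq]; group
    have hw1 : w = 1 := by
      have h3 := congrArg (fun x => x * (x * x)) e1
      rw [show (g : G) * S.ι (0, 1, 1) * (g : G)⁻¹ * ((g : G) * S.ι (0, 1, 1) * (g : G)⁻¹ * ((g : G) * S.ι (0, 1, 1) * (g : G)⁻¹)) =
        (g : G) * (S.ι (0, 1, 1) * (S.ι (0, 1, 1) * S.ι (0, 1, 1))) * (g : G)⁻¹ by group, S.ι_cube, mul_one,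
        mul_inv_cancel, ← pow_three, hwv.symm.mul_pow, pow_three, S.ι_cube, one_mul, pow_three, S.Tz_sq hwm, mul_one] at h3
      exact h3.symm
    rw [hw1, mul_one] at hgw
    obtain ⟨x, hx, hgx⟩ := S.toLoc.exists_acts (S.cent_two class_ops.2.2.2.2.2.2.2.2.2.2.2.2.2.2.2.2.1 hgw)
    have hb := List.all_eq_true.1 op36_gen_b x hx
    simp only [(hgx.fix_iff _).1 hgw, decide_true, Bool.not_true, Bool.false_or, Bool.or_eq_true, decide_eq_true_eq,
      or_assoc] at hb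
    have hxZ : S.σ x ∈ S.Tz := by
      rcases v2_stab x (by simpa [or_assoc] using hb) with rfl | rfl | rfl | rfl
      · exact Or.inl S.σ_id
      · exact Or.inr (Or.inl rfl)
      · exact Or.inr (Or.inr (Or.inl S.f_w.symm))
      · refine Or.inr (Or.inr (Or.inr ?_))
        rw [S.f_w]; exact (S.σ_mul e1W_mem.1 op_frame.2.1).symm
    have hxC' : S.σ x ∈ C := hC.2 (by
      have h := hxZ
      exact ⟨(S.Tz_comm rfl (S.t_f bw) h).symm, (S.Tz_comm (S.f_t bw) rfl h).symm⟩)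
    obtain ⟨v₀, hv₀⟩ := S.toLoc.same_acts (S.σ_acts hx) hgx
    have hge : (g : G) = S.ι (app x v₀) * S.σ x := by
      rw [← S.σ_conj hx, show S.toData.ι v₀ = (S.σ x)⁻¹ * (g : G) from hv₀, mul_inv_cancel_left]
    have hu : S.ι (app x v₀) ∈ C := by
      have h := mul_mem g.2 (inv_mem hxC')
      rwa [hge, mul_inv_cancel_right] at h
    obtain ⟨hu1, hu2⟩ := hC.1 hu
    rw [S.f_w] at hu2
    obtain ⟨k, hk⟩ := odd_facts.2.2.2.2.2.2.1 _ ((S.t_fix _).1 hu1) (((S.σ_acts op_frame.2.1).fix_iff _).1 hu2.symm)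
    have e2 : π g = π ⟨_, hu⟩ := by
      rw [eq_comm, hπeq]
      show (S.ι (app x v₀))⁻¹ * (g : G) ∈ S.Tz
      rw [hge, inv_mul_cancel_left]; exact hxZ
    have e3 : (⟨_, hu⟩ : C) = (⟨_, hvC⟩ : C) ^ k.val := Subtype.ext (by
      rw [SubmonoidClass.coe_pow, ← S.ι_nsmul]
      show S.ι (app x v₀) = _
      rw [hk]
      congr 1
      exact v_smul k)
    rw [e2, e3, map_pow]
    exact pow_mem (mem_zpowers _) _
  have hX : centralizer (zpowers v : Set (C ⧸ Zc)) = zpowers v := le_antisymm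
    (fun y hy => hcentv y (mem_centralizer_iff.1 hy v (mem_zpowers v)).symm)
    fun y hy => mem_centralizer_iff.2 fun z hz => by
      obtain ⟨i, rfl⟩ := mem_zpowers_iff.1 hy
      obtain ⟨j, rfl⟩ := mem_zpowers_iff.1 hz
      rw [← zpow_add, ← zpow_add, add_comm]
  have hcard3 : Nat.card (zpowers v) = 3 := by
    rw [Nat.card_zpowers, orderOf_eq_prime (by rw [pow_three, hv3]) hv1]
  set uu : C ⧸ Zc := π ⟨_, huC⟩ with huu
  set xx : Fin 3 → C ⧸ Zc := fun k => π ⟨_, hxC k⟩ with hxx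
  have huv : uu * v * uu⁻¹ = v⁻¹ := by
    rw [huu, hv, ← map_inv, ← map_inv, ← map_mul, ← map_mul]
    refine congrArg π (Subtype.ext ?_)
    show S.σ uW * S.ι (0, 1, 1) * (S.σ uW)⁻¹ = (S.ι (0, 1, 1))⁻¹
    rw [S.σ_acts class_ops.1, odd_facts.2.2.1, S.ι_neg]
  have hvx : ∀ k, v * xx k * v⁻¹ = xx (k + 1) := fun k => by
    rw [hxx, hv]
    show π _ * π _ * (π _)⁻¹ = π _
    rw [← map_inv, ← map_mul, ← map_mul]
    exact congrArg π (Subtype.ext (S.v_tr k))
  have hx2 : ∀ k, xx k * xx k = 1 := fun k => by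
    rw [hxx]
    show π _ * π _ = 1
    rw [← map_mul, hker]
    show S.f (tr k) * S.f (tr k) ∈ S.Tz
    rw [← map_mul, show tr k * tr k = 1 by fin_cases k <;> decide, map_one]; exact one_mem _
  have hxc : ∀ j k, xx j * xx k = xx k * xx j := fun j k => by
    rw [hxx]
    show π _ * π _ = π _ * π _
    rw [← map_mul, ← map_mul]
    refine congrArg π (Subtype.ext ?_)
    show S.f (tr j) * S.f (tr k) = S.f (tr k) * S.f (tr j)
    rw [← map_mul, ← map_mul]
    congr 1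
    fin_cases j <;> fin_cases k <;> decide
  have hdd_n : dd ^ n = 1 := by rw [hdd, ← map_pow, show (⟨d, hC.2 ⟨hdt, hd0⟩⟩ : C) ^ n = 1 from Subtype.ext hdn, map_one]
  have hfin : dd = 1 → d = 1 := fun h => by
    refine odd_dvd hn hdn (k := 1) ?_
    rw [pow_one, pow_two]; exact S.Tz_sq ((hker _).1 h)
  -- the element swapping transpositions
  obtain ⟨g, hgd, hg4, hgq, hgS⟩ : ∃ g : C ⧸ Zc, g * dd = dd * g ∧ g * g * (g * g) = 1 ∧
      (∀ (K : Subgroup (C ⧸ Zc)), K.Normal → (∀ y ∈ K, y * y = 1) → g ∉ K) ∧ (g = uu ∨ g = uu * xx 0) := by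
    rcases hg with h | h
    · refine ⟨uu, ?_, ?_, ?_, Or.inl rfl⟩
      · rw [huu, hdd, ← map_mul, ← map_mul]; exact congrArg π (Subtype.ext h.symm)
      · have : uu * uu = 1 := by
          rw [huu, ← map_mul, ← map_one π]; exact congrArg π (Subtype.ext (S.σ_sq class_ops.1 class_ops.2.2.1))
        rw [this, one_mul]
      · intro K hK hKsq hu
        have h1 : v * v ∈ K := by
          have h2 := mul_mem (hK.conj_mem uu hu v) (inv_mem hu)
          have e : v * uu * v⁻¹ * uu⁻¹ = v * v := by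
            calc v * uu * v⁻¹ * uu⁻¹ = v * (uu * v * uu⁻¹)⁻¹ := by group
              _ = _ := by rw [huv, inv_inv]
          rwa [e] at h2
        have h3 := hKsq _ h1
        refine hv1 ?_
        calc v = v * v * (v * v) * (v * (v * v))⁻¹ := by group
          _ = 1 := by rw [h3, hv3]; group
    · have e0 : uu * xx 0 = π ⟨_, mul_mem huC (hxC 0)⟩ := by rw [huu, hxx, ← map_mul]; rfl
      have hsq : (uu * xx 0) * (uu * xx 0) = xx 1 * xx 0 := by
        rw [e0, hxx]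
        show π _ * π _ = π _ * π _
        rw [← map_mul, ← map_mul]
        refine congrArg π (Subtype.ext ?_)
        show S.σ uW * S.f (tr 0) * (S.σ uW * S.f (tr 0)) = S.f (tr 1) * S.f (tr 0)
        rw [← S.f_u2, ← map_mul, ← map_mul, ← map_mul]
        exact congrArg S.f (odd_six.2.2.2.2.2.1)
      refine ⟨uu * xx 0, ?_, ?_, ?_, Or.inr rfl⟩
      · rw [e0, hdd, ← map_mul, ← map_mul]; exact congrArg π (Subtype.ext h.symm)
      · rw [hsq]
        calc xx 1 * xx 0 * (xx 1 * xx 0) = xx 1 * (xx 0 * xx 1) * xx 0 := by group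
          _ = (xx 1 * xx 1) * (xx 0 * xx 0) := by rw [hxc 0 1]; group
          _ = 1 := by rw [hx2, hx2, one_mul]
      · intro K hK hKsq hu
        have h3 := hKsq _ hu
        rw [hsq, hxx] at h3
        replace h3 : π (⟨_, hxC 1⟩ * ⟨_, hxC 0⟩) = 1 := by rw [map_mul]; exact h3
        rw [hker] at h3
        have h4 : S.f (tr 1 * tr 0) ∈ S.Tz := by rw [map_mul]; exact h3
        rcases S.f_Tz h4 with e | e
        · exact odd_six.2.2.2.2.2.2.2.1 e
        · exact odd_six.2.2.2.2.2.2.2.2.1 e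
  rcases Cfsg.Agent.S3331.result (zpowers v) hcard3 hX with ⟨N, hN, hnil, hco, hq⟩ | ⟨N, hN, -, hsq, ⟨e5⟩⟩ | h7
  rotate_left
  · -- alternating quotient
    refine hfin ?_
    let ρ : (C ⧸ Zc) →* alternatingGroup (Fin 5) := e5.toMonoidHom.comp (QuotientGroup.mk' N)
    have hk : ∀ x, ρ x = 1 ↔ x ∈ N := fun x => by
      show e5 (QuotientGroup.mk' N x) = 1 ↔ _
      rw [MulEquiv.map_eq_one_iff, QuotientGroup.mk'_apply, QuotientGroup.eq_one_iff]
    have h8 := (small_five (MulEquiv.refl _)).2 (ρ g) (ρ dd) (by rw [← map_mul, ← map_mul, hg4, map_one])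
      (fun h => hgq N hN (fun y hy => by rw [← pow_two]; exact hsq y hy) ((hk g).1 h))
      (by rw [← map_mul, ← map_mul, hgd])
    rw [← map_pow, hk] at h8
    refine odd_dvd hn hdd_n (k := 4) ?_
    have := hsq _ h8
    rwa [← pow_mul] at this
  · obtain ⟨e7⟩ := h7
    refine hfin ?_
    have h8 := (small_seven (MulEquiv.refl _)).2 (e7 g) (e7 dd) (by rw [← map_mul, ← map_mul, hg4, map_one])
      (fun h => hgq ⊥ inferInstance (fun y hy => by rw [mem_bot.1 hy, one_mul])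
        (mem_bot.2 (e7.injective (h.trans (map_one e7).symm)))) (by rw [← map_mul, ← map_mul, hgd])
    rw [← map_pow] at h8
    exact odd_dvd hn hdd_n (k := 3) (e7.injective (by rw [map_one]; exact h8))
  -- the nilpotent case
  haveI := hN
  haveI := hnil
  let q : (C ⧸ Zc) →* (C ⧸ Zc) ⧸ N := QuotientGroup.mk' N
  have hqk : ∀ x, q x = 1 ↔ x ∈ N := fun x => QuotientGroup.eq_one_iff x
  have hqv : q v ≠ 1 := fun h => hv1 (by
    obtain ⟨k, hk⟩ := cube_root hco ((hqk v).1 h)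
    rw [← hk, pow_three, hv3, one_pow])
  have hqu2 : q uu * q uu = 1 := by
    rw [← map_mul, huu, ← map_mul, show (⟨_, huC⟩ : C) * ⟨_, huC⟩ = 1 from Subtype.ext (S.σ_sq class_ops.1 class_ops.2.2.1),
      map_one, map_one]
  have hquv : q uu * q v * (q uu)⁻¹ = (q v)⁻¹ := by rw [← map_inv q, ← map_inv q, ← map_mul q, ← map_mul q, huv]
  have hqu : q uu ≠ 1 := fun h => by
    refine hqv ?_
    rw [h, one_mul, inv_one, mul_one, eq_inv_iff_mul_eq_one] at hquv
    have h3 := congrArg q hv3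
    rw [map_mul, map_mul, hquv, mul_one, map_one] at h3
    exact h3
  obtain ⟨e3⟩ : Nonempty ((C ⧸ Zc) ⧸ N ≃* Equiv.Perm (Fin 3)) := by
    refine hq.resolve_left fun h => hqu (orderOf_eq_one_iff.1 ?_)
    have h1 : orderOf (q uu) ∣ 3 := h ▸ orderOf_dvd_natCard _
    have h2 : orderOf (q uu) ∣ 2 := orderOf_dvd_of_pow_eq_one (by rw [pow_two, hqu2])
    exact Nat.dvd_one.1 (show Nat.gcd 3 2 = 1 by norm_num ▸ Nat.dvd_gcd h1 h2)
  have hperm : (∀ a b : Equiv.Perm (Fin 3), a * (a * a) = 1 → a ≠ 1 → b * b = 1 → (a * b * a⁻¹) * b = b * (a * b * a⁻¹) → b = 1) ∧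
      ∀ a b : Equiv.Perm (Fin 3), a * a = 1 → a ≠ 1 → a * b = b * a → b * b = 1 := by decide +kernel
  have hxN : ∀ k, xx k ∈ N := fun k => by
    refine (hqk _).1 (e3.injective (?_ : e3 (q (xx k)) = e3 1))
    rw [map_one]
    refine hperm.1 (e3 (q v)) _ (by rw [← map_mul, ← map_mul, ← map_mul, ← map_mul, hv3, map_one, map_one])
      (fun h => hqv (e3.injective (h.trans (map_one e3).symm))) (by rw [← map_mul, ← map_mul, hx2, map_one, map_one]) ?_
    rw [← map_inv e3, ← map_mul e3, ← map_mul e3, ← map_mul e3, ← map_mul e3]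
    refine congrArg e3 ?_
    rw [← map_inv q, ← map_mul q, ← map_mul q, ← map_mul q, ← map_mul q, hvx, hxc]
  have hqg : e3 (q g) ≠ 1 := fun h => by
    refine hqu ?_
    have h1 : q g = 1 := e3.injective (h.trans (map_one e3).symm)
    rcases hgS with rfl | rfl
    · exact h1
    · rwa [map_mul, (hqk _).2 (hxN 0), mul_one] at h1
  have hqg2 : e3 (q g) * e3 (q g) = 1 := by
    rw [← map_mul, ← map_mul, map_eq_one_iff e3 e3.injective]
    rcases hgS with rfl | rfl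
    · rw [map_mul]; exact hqu2
    · rw [map_mul, map_mul, (hqk _).2 (hxN 0), mul_one, hqu2]
  have hddN : dd ∈ N := by
    refine (hqk _).1 (odd_dvd hn (by rw [← map_pow, hdd_n, map_one]) (k := 1) (e3.injective ?_))
    rw [map_one, pow_one, pow_two, map_mul]
    exact hperm.2 (e3 (q g)) _ hqg2 hqg (by rw [← map_mul, ← map_mul, ← map_mul, ← map_mul, hgd])
  refine S.Cw_t_odd (S.mem_Cw.2 fun k => ?_) hdt hn hdn
  have hc := Cfsg.Lib.PGLCover.commute_of_coprime (K := N) hddN (hxN k) (by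
    refine Nat.Coprime.of_dvd (orderOf_dvd_of_pow_eq_one hdd_n) (orderOf_dvd_of_pow_eq_one (n := 2) (by rw [pow_two, hx2]))
      hn.coprime_two_right)
  have hz : (d * S.f (tr k))⁻¹ * (S.f (tr k) * d) ∈ S.Tz := by
    have h := hc.eq
    rw [hdd, hxx] at h
    replace h : π (⟨d, hC.2 ⟨hdt, hd0⟩⟩ * ⟨_, hxC k⟩) = π (⟨_, hxC k⟩ * ⟨d, hC.2 ⟨hdt, hd0⟩⟩) := by
      rw [map_mul, map_mul]; exact h
    exact (hπeq _ _).1 h
  obtain ⟨z, hzm, hze⟩ : ∃ z ∈ S.Tz, d⁻¹ * S.f (tr k) * d = S.f (tr k) * z := by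
    refine ⟨_, hz, ?_⟩
    group
  have hzc : IsConj S.t (S.f (tr k) * z) := by
    refine (S.tr_conj_t k).trans (isConj_iff.2 ⟨d⁻¹, ?_⟩)
    rw [inv_inv, hze]
  rcases hzm with rfl | rfl | rfl | rfl
  · rw [mul_one] at hze
    calc d * S.f (tr k) = d * (d⁻¹ * S.f (tr k) * d) := by rw [hze]
      _ = _ := by group
  · rw [S.f_t] at hzc
    exact absurd hzc (S.not_tr_t k)
  · exfalso
    rw [← map_mul] at hzc
    obtain ⟨p, hp⟩ := odd_six.2.1 k
    refine S.not_u (hzc.trans (isConj_iff.2 ⟨S.f p, mul_inv_eq_iff_eq_mul.2 ?_⟩))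
    rw [← S.f_u2, ← map_mul, ← map_mul, ← hp]
    congr 1
    rw [(odd_six.2.2.2.2.2.2.1 k).2.2]
  · exfalso
    obtain ⟨p, hp⟩ := odd_six.2.1 k
    refine S.not_w (hzc.trans (isConj_iff.2 ⟨S.f p, mul_inv_eq_iff_eq_mul.2 ?_⟩))
    rw [← odd_facts.2.2.2.2.2.1, ← S.σ_mul e1W_mem.1 class_ops.1, ← S.f_u2]
    show S.f p * (S.f (tr k) * (S.t * S.f bw)) = S.t * S.f (swap 0 1 * swap 3 4) * S.f p
    rw [← mul_assoc (S.f (tr k)), S.f_t (tr k), mul_assoc S.t, ← map_mul, ← mul_assoc, S.f_t p, mul_assoc,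
      mul_assoc S.t, ← map_mul, ← map_mul, ← hp]
    congr 2
    rw [(odd_six.2.2.2.2.2.2.1 k).2.2]

/-- The same statement, moved to the other triple of transpositions. -/
theorem odd_B13 {d : G} (hdt : d * S.t = S.t * d)
    (hd0 : d * S.f (swap 0 1 * swap 3 4 * swap 2 5) = S.f (swap 0 1 * swap 3 4 * swap 2 5) * d)
    (hg : d * S.f (swap 0 3 * swap 1 4) = S.f (swap 0 3 * swap 1 4) * d ∨
      d * (S.f (swap 0 3 * swap 1 4) * S.f (swap 0 1)) = S.f (swap 0 3 * swap 1 4) * S.f (swap 0 1) * d)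
    {n : ℕ} (hn : Odd n) (hdn : d ^ n = 1) : d = 1 := by
  have hp : (S.f p13)⁻¹ = S.f p13 := by
    rw [← map_inv]; exact congrArg S.f (inv_eq_of_mul_eq_one_right p13_facts.1)
  have hcj : ∀ {x y : G}, d * x = x * d → S.f p13 * x * (S.f p13)⁻¹ = y →
      (MulAut.conj (S.f p13) d) * y = y * MulAut.conj (S.f p13) d := fun {x y} h e => by
    rw [← e, ← MulAut.conj_apply, ← map_mul, ← map_mul, h]
  have h13 : ∀ h : S6, S.f p13 * S.f h * (S.f p13)⁻¹ = S.f (p13 * h * p13) := fun h => by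
    rw [hp, ← map_mul, ← map_mul]
  have hconj := p13_facts
  have inv13 : ∀ {a b : S6}, p13 * a * p13 = b → p13 * b * p13 = a := fun {a b} e => by
    rw [← e, ← mul_assoc, ← mul_assoc, hconj.1, one_mul, mul_assoc, hconj.1, mul_one]
  refine (MulAut.conj (S.f p13)).injective ((S.odd_B (d := MulAut.conj (S.f p13) d) ?_ ?_ ?_ hn
    (by rw [← map_pow, hdn, map_one])).trans (map_one _).symm)
  · exact hcj hdt (by rw [S.f_t, mul_inv_cancel_right])
  · rw [← S.f_w]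
    exact hcj hd0 (by rw [h13, inv13 hconj.2.2.2.2.1])
  · rcases hg with h | h
    · refine Or.inl (hcj h ?_)
      rw [h13, inv13 hconj.2.2.2.2.2, S.f_u2]
    · refine Or.inr (hcj h ?_)
      rw [← map_mul, h13, ← S.f_u2, ← map_mul]
      congr 1
      decide +kernel

end Sx

end Cfsg.Lib.SpCentre
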