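import Cfsg.Agent.LocalThree.SpCentre.SixU1

/-!
The centraliser of the reflection and two of the transpositions has a normal complement of odd order
to an abelian Sylow subgroup.
-/

set_option autoImplicit false
set_option maxRecDepth 8000
set_option linter.unusedSectionVars false
set_option linter.style.haveILetI false
set_option synthInstance.maxSize 2000
set_option maxHeartbeats 1000000

namespace Cfsg.Lib.SpCentre

open Subgroup Equiv Cfsg.Lib.HeisSL Cfsg.Lib.AmalgamSpFour Cfsg.Lib.SymNineLocal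
open scoped MatrixGroups

universe u

theorem quat_mix : (∀ A B : SL(2, ZMod 3), A ^ 4 = 1 → B ^ 4 = 1 → A * B * (A * B) = 1 → (A * A = 1 ↔ B * B = 1)) ∧
    (∀ A : SL(2, ZMod 3), A ^ 4 = 1 → A * A ≠ 1 → (A * cv A * cv (cv A)) * (A * cv A * cv (cv A)) = 1) := by
  decide +kernel

theorem w8_prod : (∀ i j : Fin 3, tr i * tr j * tr 2 ≠ 1 ∧ bw * tr i * (bw * tr j) * tr 2 ≠ 1) ∧
    bw * bw * tr 2 ≠ 1 ∧ (∀ i : Fin 3, tr i ∈ W8 ∧ bw * tr i ∈ W8) ∧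
    (∀ h ∈ W8, ∀ h' ∈ W8, h * h' ∈ W8) ∧
    (∀ i : Fin 3, (ca * cb) * (bw * tr i) * (ca * cb)⁻¹ = bw * tr (i + 1)) ∧ tr 0 * tr 1 * bw = tr 2 ∧
    (∀ h : S6, bw * (bw * h) = h) := by decide +kernel

/-- An involutory automorphism without fixed points inverts. -/
theorem invert_of_fixed {G : Type u} [Group G] [Finite G] {K : Subgroup G} {j : G}
    (hK : ∀ k ∈ K, j * k * j⁻¹ ∈ K) (hj : ∀ k ∈ K, j * j * k = k * (j * j))
    (hf : ∀ k ∈ K, j * k = k * j → k = 1) {k : G} (hk : k ∈ K) : j * k * j⁻¹ = k⁻¹ := by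
  let φ : K → K := fun k => ⟨j * k * j⁻¹, hK k k.2⟩
  let ψ : K →* K := MonoidHom.mk' φ fun a b => Subtype.ext (by
    show j * ((a : G) * b) * j⁻¹ = j * a * j⁻¹ * (j * b * j⁻¹); group)
  have h1 : MonoidHom.FixedPointFree ψ := fun g hg => Subtype.ext (hf g g.2 (mul_inv_eq_iff_eq_mul.1 (congrArg Subtype.val hg)))
  have h2 : Function.Involutive ψ := fun g => Subtype.ext (by
    show j * (j * (g : G) * j⁻¹) * j⁻¹ = g
    calc j * (j * (g : G) * j⁻¹) * j⁻¹ = (j * j * g) * (j * j)⁻¹ := by group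
      _ = g := by rw [hj g g.2, mul_inv_cancel_right])
  have h3 := congrFun (h1.coe_eq_inv_of_involutive h2) ⟨k, hk⟩
  exact congrArg Subtype.val h3

namespace Sx

variable {G : Type u} [Group G] [Finite G] (S : Sx G)

theorem zA_conj {A : SL(2, ZMod 3)} (hA : S.Good A) (h : A * A ≠ 1) :
    S.qA A * S.t * (S.qA A)⁻¹ = S.zA A * S.t * S.f bw := by
  rw [S.qA_inv, (quat_sign.2.2.2.1 A hA.1 h).2, ← S.qA_mul, S.qA_i0, ← S.f_w, zA]
  calc S.qA A * S.t * (S.qA A * S.f bw) = S.qA A * (S.t * S.qA A * (S.t * S.t)) * S.f bw := by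
        rw [S.t_sq, mul_one]; group
    _ = _ := by group

/-- The classes of the elementary abelian group generated by the reflection and the transpositions. -/
theorem w8_conj : ((S.f 1 : G) = 1 ∧ S.t * S.f 1 = S.t) ∧
    (∀ i, IsConj S.t (S.f (tr i)) ∧ IsConj (S.σ uW) (S.t * S.f (tr i))) ∧
    (∀ i, IsConj (S.σ uW) (S.f (bw * tr i)) ∧ IsConj (S.σ negW) (S.t * S.f (bw * tr i))) ∧
    S.f bw = S.σ sW ∧ IsConj (S.σ negW) (S.t * S.f bw) := by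
  refine ⟨⟨map_one _, by rw [map_one, mul_one]⟩, fun i => ⟨S.tr_conj_t i, ?_⟩, fun i => ?_, S.f_w, ?_⟩
  · obtain ⟨p, hp⟩ := odd_six.2.2.1 i
    obtain ⟨x, -, hx⟩ := List.any_eq_true.1 odd_facts.2.2.2.2.2.2.2.1
    simp only [Bool.and_eq_true, decide_eq_true_eq] at hx
    refine (IsConj.symm ?_)
    refine (isConj_iff.2 ⟨S.f p, mul_inv_eq_iff_eq_mul.2 ?_⟩ : IsConj _ (S.t * S.f (swap 0 1))).trans
      (isConj_iff.2 ⟨S.σ x, mul_inv_eq_iff_eq_mul.2 ?_⟩)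
    · rw [← mul_assoc, S.f_t p, mul_assoc S.t, ← map_mul, hp, map_mul, ← mul_assoc]
    · show S.σ x * (S.σ e1W * S.f (swap 0 1)) = _
      rw [S.f_u, S.σ_mul e1W_mem.1 op_frame.1, odd_facts.2.2.2.1, S.σ_mul hx.1 odd_facts.2.2.2.2.2.2.2.2.2,
        S.σ_mul class_ops.1 hx.1, hx.2]
  · obtain ⟨p, hp⟩ := odd_six.2.1 i
    have h1 : S.f p * S.f (bw * tr i) = S.σ uW * S.f p := by rw [← S.f_u2, ← map_mul, ← map_mul, hp]
    refine ⟨(isConj_iff.2 ⟨S.f p, mul_inv_eq_iff_eq_mul.2 h1⟩).symm, IsConj.symm (isConj_iff.2 ⟨S.f p, mul_inv_eq_iff_eq_mul.2 ?_⟩)⟩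
    rw [← mul_assoc, S.f_t p, mul_assoc, h1, ← mul_assoc]
    congr 1
    show S.σ e1W * S.σ uW = _
    rw [S.σ_mul e1W_mem.1 class_ops.1, odd_facts.2.2.2.2.2.1]
  · rw [S.f_w]
    show IsConj _ (S.σ e1W * S.σ sW)
    rw [S.σ_mul e1W_mem.1 op_frame.2.1]
    exact S.w_q

theorem not_one : ¬ IsConj S.t (1 : G) ∧ ¬ IsConj (S.σ uW) (1 : G) := by
  refine ⟨fun h => S.t_ne (isConj_one_left.1 h), fun h => ?_⟩
  have h1 : S.σ uW = 1 := isConj_one_left.1 h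
  rw [← S.f_u2, ← map_one S.f] at h1
  exact absurd (S.f_inj h1) (by decide)

/-- The forms of a reflection whose product with `t` is of the second class. -/
theorem refl_U1 {y : G} (hy : y ∈ S.U1) (h1 : IsConj S.t y) (h2 : IsConj (S.σ uW) (S.t * y)) :
    ∃ (A : SL(2, ZMod 3)) (δ : Fin 2) (h : S6), S.Good A ∧ h ∈ W8 ∧ y = S.zA A * S.t ^ δ.val * S.f h ∧
      ((A * A = 1 ∧ δ = 0 ∧ ∃ i, h = tr i) ∨ (A * A ≠ 1 ∧ δ = 1 ∧ h = bw) ∨
        (A * A ≠ 1 ∧ δ = 0 ∧ ∃ i, h = bw * tr i)) := by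
  obtain ⟨A, δ, h, hA, hh, rfl⟩ := S.U1_rep hy
  refine ⟨A, δ, h, hA, hh, rfl, ?_⟩
  obtain ⟨⟨c1, c1'⟩, ctr, cbt, cb, cb'⟩ := S.w8_conj
  have hu : ¬ IsConj S.t (S.σ uW) := S.not_u
  by_cases hA2 : A * A = 1
  · rw [S.zA_small hA2, one_mul] at h1 h2
    refine Or.inl ⟨hA2, ?_⟩
    fin_cases δ
    · simp only [pow_zero, one_mul] at h1
      refine ⟨rfl, ?_⟩
      rcases w8_class.1 h hh with rfl | hi | ⟨i, rfl⟩ | rfl
      · rw [c1] at h1; exact absurd h1 S.not_one.1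
      · exact hi
      · exact absurd (h1.trans (cbt i).1.symm) hu
      · rw [cb] at h1; exact absurd h1 S.not_u0
    · exfalso
      simp only [pow_one] at h1 h2
      rw [← mul_assoc, S.t_sq, one_mul] at h2
      rcases w8_class.1 h hh with rfl | ⟨i, rfl⟩ | ⟨i, rfl⟩ | rfl
      · rw [c1] at h2; exact S.not_one.2 h2
      · exact hu (h1.trans (ctr i).2.symm)
      · exact S.not_w (h1.trans (cbt i).2.symm)
      · exact S.not_w (h1.trans cb'.symm)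
  · -- conjugate by the lift
    have hcj : IsConj (S.zA A * S.t * S.f h) (S.t * S.f (bw * h)) := by
      refine IsConj.symm (isConj_iff.2 ⟨S.qA A, ?_⟩)
      have hc : Commute (S.qA A) (S.f (bw * h)) := S.Wg_comm hA.2.1 ⟨_, w8_class.2.2.2.2.2.2.1 h hh, rfl⟩
      calc S.qA A * (S.t * S.f (bw * h)) * (S.qA A)⁻¹ = S.qA A * S.t * (S.f (bw * h) * (S.qA A)⁻¹) := by group
        _ = S.qA A * S.t * (S.qA A)⁻¹ * S.f (bw * h) := by rw [hc.inv_left.symm.eq]; group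
        _ = _ := by rw [S.zA_conj hA hA2, mul_assoc, ← map_mul, w8_prod.2.2.2.2.2.2]
    fin_cases δ
    · simp only [pow_zero, mul_one] at h1 h2
      refine Or.inr (Or.inr ⟨hA2, rfl, ?_⟩)
      rw [← mul_assoc, show S.t * S.zA A = S.zA A * S.t from (S.zA_t hA).symm] at h2
      have h3 := h2.trans hcj
      rcases w8_class.1 _ (w8_class.2.2.2.2.2.2.1 h hh) with e | ⟨i, e⟩ | ⟨i, e⟩ | e <;> rw [e] at h3
      · rw [c1'] at h3; exact absurd h3.symm hu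
      · exact ⟨i, by rw [← e, w8_prod.2.2.2.2.2.2]⟩
      · exact absurd (h3.trans (cbt i).2.symm) S.u_w
      · exact absurd (h3.trans cb'.symm) S.u_w
    · simp only [pow_one] at h1
      refine Or.inr (Or.inl ⟨hA2, rfl, ?_⟩)
      have h3 := h1.trans hcj
      rcases w8_class.1 _ (w8_class.2.2.2.2.2.2.1 h hh) with e | ⟨i, e⟩ | ⟨i, e⟩ | e <;> rw [e] at h3
      · calc h = bw * (bw * h) := (w8_prod.2.2.2.2.2.2 h).symm
          _ = bw := by rw [e, mul_one]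
      · exact absurd (h3.trans (ctr i).2.symm) hu
      · exact absurd (h3.trans (cbt i).2.symm) S.not_w
      · exact absurd (h3.trans cb'.symm) S.not_w

/-- A reflection of the centraliser of the three transpositions is not the image of the third one. -/
theorem no_inner {g : G} (hgt : g * S.t = S.t * g) (hgn : g ∈ normalizer (S.U1 : Set G)) {A : SL(2, ZMod 3)}
    (hA : S.Good A) (hA2 : A * A ≠ 1) {i : Fin 3} (hyU : g * S.f (tr 2) * g⁻¹ ∈ S.U1)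
    (hye : g * S.f (tr 2) * g⁻¹ = S.zA A * S.t ^ (0 : Fin 2).val * S.f (bw * tr i))
    (h1 : IsConj S.t (g * S.f (tr 2) * g⁻¹)) (h2 : IsConj (S.σ uW) (S.t * (g * S.f (tr 2) * g⁻¹))) : False := by
  set y := g * S.f (tr 2) * g⁻¹ with hy
  rw [Fin.val_zero, pow_zero, mul_one] at hye
  set v := S.ι (0, 1, 1) with hv
  have hvA : ∀ {B : SL(2, ZMod 3)}, S.Good B → S.Good (cv B) ∧ v * S.zA B * v⁻¹ = S.zA (cv B) := by
    intro B hB
    have hvt : Commute v S.t := (S.t_fix _).2 rfl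
    have et : v * (S.t * S.qA B * S.t) * v⁻¹ = S.t * S.qA (cv B) * S.t := by
      rw [hv, ← S.qA_v, ← hv]
      calc v * (S.t * S.qA B * S.t) * v⁻¹ = v * S.t * S.qA B * (S.t * v⁻¹) := by group
        _ = _ := by rw [hvt.eq, hvt.inv_left.symm.eq]; group
    refine ⟨⟨(quat_facts.2.2.2.2.2.2.1 B hB.1).1, by rw [← S.qA_v]; exact S.v_Cw hB.2.1, ?_⟩, ?_⟩
    · have h := hB.2.2.map (MulAut.conj v).toMonoidHom
      simp only [MulEquiv.coe_toMonoidHom, MulAut.conj_apply] at h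
      rwa [et, hv, S.qA_v] at h
    · rw [zA, zA]
      calc v * (S.qA B * (S.t * S.qA B * S.t)) * v⁻¹ = (v * S.qA B * v⁻¹) * (v * (S.t * S.qA B * S.t) * v⁻¹) := by group
        _ = _ := by rw [et, hv, S.qA_v]
  have hvf : ∀ j, v * S.f (bw * tr j) * v⁻¹ = S.f (bw * tr (j + 1)) := fun j => by
    rw [hv, S.v_eq, ← map_inv, ← map_mul, ← map_mul, w8_prod.2.2.2.2.1]
  obtain ⟨g1, e1⟩ := hvA hA
  obtain ⟨g2, e2⟩ := hvA g1
  have ev1 : v * y * v⁻¹ = S.zA (cv A) * S.f (bw * tr (i + 1)) := by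
    rw [hye, show v * (S.zA A * S.f (bw * tr i)) * v⁻¹ = (v * S.zA A * v⁻¹) * (v * S.f (bw * tr i) * v⁻¹) by group,
      e1, hvf]
  have ev2 : v * (v * y * v⁻¹) * v⁻¹ = S.zA (cv (cv A)) * S.f (bw * tr (i + 2)) := by
    rw [ev1, show v * (S.zA (cv A) * S.f (bw * tr (i + 1))) * v⁻¹ =
      (v * S.zA (cv A) * v⁻¹) * (v * S.f (bw * tr (i + 1)) * v⁻¹) by group, e2, hvf, add_assoc]
    rfl
  have hW : ∀ (j : Fin 3) {B}, S.Good B → Commute (S.zA B) (S.f (bw * tr j)) := fun j B hB =>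
    S.Wg_comm (S.zA_Cw hB) ⟨_, (w8_prod.2.2.1 j).2, rfl⟩
  have hmulf : ∀ {B B' : SL(2, ZMod 3)} (j : Fin 3) (h' : S6), S.Good B → S.Good B' →
      S.zA B * S.f (bw * tr j) * (S.zA B' * S.f h') = S.zA (B * B') * S.f (bw * tr j * h') := by
    intro B B' j h' hB hB'
    rw [(hB.mul S hB').2, map_mul S.f (bw * tr j) h']
    calc S.zA B * S.f (bw * tr j) * (S.zA B' * S.f h') = S.zA B * (S.f (bw * tr j) * S.zA B') * S.f h' := by group
      _ = _ := by rw [← (hW j hB').eq]; group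
  have hprod : y * (v * y * v⁻¹ * (v * (v * y * v⁻¹) * v⁻¹)) = 1 := by
    rw [ev2, ev1, hye, hmulf _ _ g1 g2, hmulf _ _ hA (g1.mul S g2).1,
      S.zA_small (A := A * (cv A * cv (cv A))) (by rw [← mul_assoc A]; exact quat_mix.2 A hA.1 hA2), one_mul, ← map_one S.f]
    congr 1
    rw [← mul_assoc]
    exact w8_class.2.2.2.2.2.1 i
  have hy' : v * y * v⁻¹ * (v * (v * y * v⁻¹) * v⁻¹) = y :=
    mul_left_cancel (hprod.trans (S.U1_sq hyU).symm)
  have hg' : g⁻¹ ∈ normalizer (S.U1 : Set G) := inv_mem hgn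
  have hgi : Commute g⁻¹ S.t := (show Commute g S.t from hgt).inv_left
  have hr : ∀ {z : G}, z ∈ S.U1 → IsConj S.t z → IsConj (S.σ uW) (S.t * z) →
      g⁻¹ * z * g ∈ S.U1 ∧ IsConj S.t (g⁻¹ * z * g) ∧ IsConj (S.σ uW) (S.t * (g⁻¹ * z * g)) := by
    intro z hz hzt hzu
    refine ⟨?_, hzt.trans (isConj_iff.2 ⟨g⁻¹, by rw [inv_inv]⟩), hzu.trans (isConj_iff.2 ⟨g⁻¹, ?_⟩)⟩
    · have h := (mem_normalizer_iff.1 hg' z).1 hz
      rwa [inv_inv] at h
    · rw [inv_inv, ← mul_assoc g⁻¹, hgi.eq]; group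
  have hvt : Commute v S.t := (S.t_fix _).2 rfl
  have hvz : ∀ {z : G}, IsConj S.t z → IsConj (S.σ uW) (S.t * z) →
      IsConj S.t (v * z * v⁻¹) ∧ IsConj (S.σ uW) (S.t * (v * z * v⁻¹)) := fun {z} a b =>
    ⟨a.trans (isConj_iff.2 ⟨v, rfl⟩), b.trans (isConj_iff.2 ⟨v, by rw [← mul_assoc v, hvt.eq]; group⟩)⟩
  obtain ⟨r1, r2, r3⟩ := hr (S.v_U1 hyU) (hvz h1 h2).1 (hvz h1 h2).2
  obtain ⟨s1, s2, s3⟩ := hr (S.v_U1 (S.v_U1 hyU)) (hvz (hvz h1 h2).1 (hvz h1 h2).2).1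
    (hvz (hvz h1 h2).1 (hvz h1 h2).2).2
  obtain ⟨B, δ, k, hB, hk, hre, hBc⟩ := S.refl_U1 r1 r2 r3
  obtain ⟨B', δ', k', hB', hk', hse, hBc'⟩ := S.refl_U1 s1 s2 s3
  have hx : S.f (tr 2) = S.zA B * S.t ^ δ.val * S.f k * (S.zA B' * S.t ^ δ'.val * S.f k') := by
    rw [← hre, ← hse]
    calc S.f (tr 2) = g⁻¹ * y * g := by rw [hy]; group
      _ = g⁻¹ * (v * y * v⁻¹ * (v * (v * y * v⁻¹) * v⁻¹)) * g := by rw [hy']
      _ = _ := by rw [hv]; group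
  have hkt : k * k' * tr 2 ∈ W8 := w8_prod.2.2.2.1 _ (w8_prod.2.2.2.1 _ hk _ hk') _ (w8_prod.2.2.1 2).1
  obtain ⟨hgood, hzmul⟩ := hB.mul S hB'
  have hsp : S.zA (B * B') * (S.t ^ δ.val * S.t ^ δ'.val) * S.f (k * k' * tr 2) = 1 := by
    have e1 : S.f k * (S.zA B' * S.t ^ δ'.val) = S.zA B' * S.t ^ δ'.val * S.f k :=
      (S.Wg_comm (mul_mem (S.zA_Cw hB') (pow_mem S.t_Cw _)) ⟨k, hk, rfl⟩).symm
    have e2 : S.t ^ δ.val * S.zA B' = S.zA B' * S.t ^ δ.val :=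
      ((show Commute (S.zA B') S.t from S.zA_t hB').pow_right _).symm.eq
    have e3 : S.f (tr 2) * S.f (tr 2) = 1 := by
      rw [← map_mul, show tr 2 * tr 2 = (1 : S6) by decide +kernel, map_one]
    rw [map_mul, map_mul, hzmul, ← e3]
    nth_rw 2 [hx]
    calc S.zA B * S.zA B' * (S.t ^ δ.val * S.t ^ δ'.val) * (S.f k * S.f k' * S.f (tr 2))
        = S.zA B * (S.zA B' * S.t ^ δ.val) * S.t ^ δ'.val * S.f k * S.f k' * S.f (tr 2) := by group
      _ = S.zA B * (S.t ^ δ.val * S.zA B') * S.t ^ δ'.val * S.f k * S.f k' * S.f (tr 2) := by rw [e2]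
      _ = S.zA B * S.t ^ δ.val * (S.zA B' * S.t ^ δ'.val * S.f k) * S.f k' * S.f (tr 2) := by group
      _ = _ := by rw [← e1]; group
  have hδ : ∀ a : Fin 2, S.t ^ δ.val * S.t ^ δ'.val = S.t ^ a.val → (a = 0 ↔ δ = δ') →
      B * B' * (B * B') = 1 ∧ δ = δ' ∧ k * k' * tr 2 = 1 := fun a e hiff => by
    rw [e] at hsp
    obtain ⟨q1, q2, q3⟩ := S.U1_split hgood hkt hsp
    exact ⟨q1, hiff.1 q2, q3⟩
  obtain ⟨q1, q2, q3⟩ : B * B' * (B * B') = 1 ∧ δ = δ' ∧ k * k' * tr 2 = 1 := by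
    fin_cases δ <;> fin_cases δ'
    · exact hδ 0 (by simp) (by simp)
    · exact hδ 1 (by simp) (by decide)
    · exact hδ 1 (by simp) (by decide)
    · exact hδ 0 (by simp [S.t_sq]) (by simp)
  have hiff := quat_mix.1 B B' hB.1 hB'.1 q1
  rcases hBc with ⟨b1, b2, j, rfl⟩ | ⟨b1, b2, rfl⟩ | ⟨b1, b2, j, rfl⟩ <;>
    rcases hBc' with ⟨c1, c2, j', rfl⟩ | ⟨c1, c2, rfl⟩ | ⟨c1, c2, j', rfl⟩
  · exact (w8_prod.1 j j').1 q3
  · exact c1 (hiff.1 b1)
  · exact c1 (hiff.1 b1)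
  · exact b1 (hiff.2 c1)
  · exact w8_prod.2.1 q3
  · rw [b2, c2] at q2; exact absurd q2 (by decide)
  · exact b1 (hiff.2 c1)
  · rw [b2, c2] at q2; exact absurd q2 (by decide)
  · exact (w8_prod.1 j j').2 q3

/-- An element fixing the reflection and two transpositions and normalising `U1` lies in it. -/
theorem orbit {g : G} (hgt : g * S.t = S.t * g) (hg0 : g * S.f (tr 0) = S.f (tr 0) * g)
    (hg1 : g * S.f (tr 1) = S.f (tr 1) * g) (hgn : g ∈ normalizer (S.U1 : Set G)) : g ∈ S.U1 := by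
  set y := g * S.f (tr 2) * g⁻¹ with hy
  suffices hy2 : y = S.f (tr 2) by
    refine S.mem_U1.2 ⟨S.mem_Cw.2 fun i => ?_, hgt⟩
    fin_cases i
    exacts [hg0, hg1, mul_inv_eq_iff_eq_mul.1 hy2]
  have hyU : y ∈ S.U1 := (mem_normalizer_iff.1 hgn _).1 (S.f_U1 (w8_prod.2.2.1 2).1)
  obtain ⟨-, ctr, cbt, cb, cb'⟩ := S.w8_conj
  have hgc : ∀ {a b : G}, g * a = a * g → g * (a * b) * g⁻¹ = a * (g * b * g⁻¹) := fun {a b} e => by
    rw [← mul_assoc g, e]; group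
  have h1 : IsConj S.t y := (ctr 2).1.trans (isConj_iff.2 ⟨g, rfl⟩)
  have h2 : IsConj (S.σ uW) (S.t * y) := (ctr 2).2.trans (isConj_iff.2 ⟨g, hgc hgt⟩)
  obtain ⟨A, δ, h, hA, hh, hye, hc⟩ := S.refl_U1 hyU h1 h2
  rcases hc with ⟨hA2, rfl, i, rfl⟩ | ⟨hA2, rfl, rfl⟩ | ⟨hA2, rfl, i, rfl⟩
  · rw [S.zA_small hA2, Fin.val_zero, pow_zero, one_mul, one_mul] at hye
    have hinj : ∀ k : Fin 3, g * S.f (tr k) = S.f (tr k) * g → i = k → k = 2 := by
      intro k hk e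
      subst e
      have e2 : g * S.f (tr 2) * g⁻¹ = g * S.f (tr i) * g⁻¹ := by
        rw [← hy, hye, hk, mul_inv_cancel_right]
      have e3 : tr (2 : Fin 3) = tr i := S.f_inj (mul_left_cancel (mul_right_cancel e2))
      revert e3; fin_cases i <;> decide
    fin_cases i
    · exact absurd (hinj 0 hg0 rfl) (by decide)
    · exact absurd (hinj 1 hg1 rfl) (by decide)
    · exact hye
  · exfalso
    have e1 : g * (S.f (tr 0) * S.f (tr 1) * S.f (tr 2)) * g⁻¹ = S.f (tr 0) * S.f (tr 1) * y :=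
      hgc (show Commute g (S.f (tr 0) * S.f (tr 1)) from (show Commute g _ from hg0).mul_right hg1).eq
    have h3 : IsConj (S.σ sW) (S.f (tr 0) * S.f (tr 1) * y) := by
      refine isConj_iff.2 ⟨g, ?_⟩
      rw [← e1, ← S.f_w, ← map_mul, ← map_mul]
      congr 3
    have hc0 : Commute (S.qA A) (S.f (tr 0 * tr 1)) :=
      S.Wg_comm hA.2.1 ⟨_, w8_prod.2.2.2.1 _ (w8_prod.2.2.1 0).1 _ (w8_prod.2.2.1 1).1, rfl⟩
    refine S.u0_w (h3.trans ((IsConj.symm (isConj_iff.2 ⟨S.qA A, ?_⟩)).trans (cbt 2).2.symm))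
    show S.qA A * (S.t * S.f (bw * tr 2)) * (S.qA A)⁻¹ = _
    rw [hye, Fin.val_one, pow_one, ← S.zA_conj hA hA2, ← map_mul, ← w8_class.2.2.2.2.2.2.2.2]
    calc S.qA A * (S.t * S.f (tr 0 * tr 1)) * (S.qA A)⁻¹
        = S.qA A * (S.f (tr 0 * tr 1) * S.t) * (S.qA A)⁻¹ := by rw [S.t_f]
      _ = S.f (tr 0 * tr 1) * (S.qA A * S.t * (S.qA A)⁻¹) := by rw [← mul_assoc (S.qA A), hc0.eq]; group
  · exact (S.no_inner hgt hgn hA hA2 hyU hye h1 h2).elim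

/-- The centraliser of the reflection and two of the transpositions. -/
def Z0 : Subgroup G := centralizer ({S.t, S.f (tr 0), S.f (tr 1)} : Set G)

theorem mem_Z0 {g : G} : g ∈ S.Z0 ↔
    g * S.t = S.t * g ∧ g * S.f (tr 0) = S.f (tr 0) * g ∧ g * S.f (tr 1) = S.f (tr 1) * g := by
  rw [Z0, mem_centralizer_iff]
  refine ⟨fun h => ⟨(h _ (Or.inl rfl)).symm, (h _ (Or.inr (Or.inl rfl))).symm, (h _ (Or.inr (Or.inr rfl))).symm⟩,
    fun h z hz => ?_⟩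
  rcases hz with rfl | rfl | rfl
  exacts [h.1.symm, h.2.1.symm, h.2.2.symm]

theorem U1_le : S.U1 ≤ S.Z0 := fun g hg =>
  S.mem_Z0.2 ⟨(S.mem_U1.1 hg).2, S.mem_Cw.1 (S.mem_U1.1 hg).1 0, S.mem_Cw.1 (S.mem_U1.1 hg).1 1⟩

/-- The odd core of the centraliser is a complement. -/
theorem exists_complement : ∃ K : Subgroup G, (∀ k, k ∈ K ↔ k ∈ S.Z0 ∧ ∃ n, Odd n ∧ k ^ n = 1) ∧
    ∀ g ∈ S.Z0, ∃ k ∈ K, ∃ u ∈ S.U1, g = k * u := by
  classical
  have : Fact (Nat.Prime 2) := ⟨Nat.prime_two⟩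
  let U : Subgroup S.Z0 := S.U1.subgroupOf S.Z0
  have hU : IsPGroup 2 U := fun x => ⟨1, Subtype.ext (Subtype.ext (by
    show ((x : S.Z0) : G) ^ 2 ^ 1 = 1
    rw [pow_one, pow_two]; exact S.U1_sq x.2))⟩
  obtain ⟨P, hP⟩ := hU.exists_le_sylow
  have hN : ∀ g : S.Z0, g ∈ normalizer (U : Set S.Z0) → (g : G) ∈ S.U1 := fun g hg => by
    obtain ⟨h1, h2, h3⟩ := S.mem_Z0.1 g.2
    refine S.orbit h1 h2 h3 (mem_normalizer_iff.2 fun x => ⟨fun hx => ?_, fun hx => ?_⟩)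
    · exact (mem_normalizer_iff.1 hg ⟨x, S.U1_le hx⟩).1 hx
    · have hm : x ∈ S.Z0 := by
        have := mul_mem (mul_mem (inv_mem g.2) (S.U1_le hx)) g.2
        simpa [mul_assoc] using this
      exact (mem_normalizer_iff.1 hg ⟨x, hm⟩).2 hx
  have hPU : (P : Subgroup S.Z0) = U := by
    by_contra hne
    have := P.2.isNilpotent
    have hlt : U.subgroupOf P < ⊤ := lt_top_iff_ne_top.2 fun e => hne (le_antisymm (subgroupOf_eq_top.1 e) hP)
    have hn := Group.normalizerCondition_of_isNilpotent (G := (P : Subgroup S.Z0)) _ hlt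
    obtain ⟨x, hxN, hxU⟩ := SetLike.exists_of_lt hn
    refine hxU (mem_subgroupOf.2 (mem_subgroupOf.2 (hN x (mem_normalizer_iff.2 fun y => ?_))))
    constructor
    · exact fun hy => (mem_normalizer_iff.1 hxN ⟨y, hP hy⟩).1 hy
    · intro hy
      have hm : y ∈ (P : Subgroup S.Z0) := by
        have := mul_mem (mul_mem (inv_mem x.2) (hP hy)) x.2
        simpa [mul_assoc] using this
      exact (mem_normalizer_iff.1 hxN ⟨y, hm⟩).2 hy
  have hPc : normalizer ((P : Subgroup S.Z0) : Set S.Z0) ≤ centralizer ((P : Subgroup S.Z0) : Set S.Z0) := by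
    intro g hg
    rw [hPU] at hg ⊢
    exact mem_centralizer_iff.2 fun y hy => Subtype.ext (S.U1_comm hy (hN g hg))
  have hcmp := MonoidHom.ker_transferSylow_isComplement' P hPc
  set ρ := MonoidHom.transferSylow P hPc
  have hodd : ∀ k : S.Z0, k ∈ ρ.ker ↔ ∃ n, Odd n ∧ (k : G) ^ n = 1 := fun k => by
    constructor
    · intro hk
      refine ⟨Nat.card ρ.ker, ?_, ?_⟩
      · have h2 := MonoidHom.not_dvd_card_ker_transferSylow P hPc
        exact Nat.coprime_two_left.1 (Nat.prime_two.coprime_iff_not_dvd.2 h2)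
      · have h := congrArg (fun x : ρ.ker => ((x : S.Z0) : G)) (pow_card_eq_one' (x := (⟨k, hk⟩ : ρ.ker)))
        simpa using h
    · rintro ⟨n, hn, hkn⟩
      have h1 : ρ k ^ n = 1 := by
        rw [← map_pow, show k ^ n = 1 from Subtype.ext (by simpa using hkn), map_one]
      obtain ⟨j, hj⟩ := P.2 (ρ k)
      exact MonoidHom.mem_ker.2 (odd_dvd hn h1 hj)
  refine ⟨ρ.ker.map S.Z0.subtype, fun k => ?_, fun g hg => ?_⟩
  · constructor
    · rintro ⟨k, hk, rfl⟩; exact ⟨k.2, (hodd k).1 hk⟩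
    · rintro ⟨hk, h⟩; exact ⟨⟨k, hk⟩, (hodd _).2 h, rfl⟩
  · obtain ⟨⟨k, u⟩, h⟩ := hcmp.2 ⟨g, hg⟩
    refine ⟨_, ⟨k.1, k.2, rfl⟩, _, ?_, (congrArg Subtype.val h).symm⟩
    have hu : (u : S.Z0) ∈ U := hPU ▸ u.2
    exact hu

end Sx

end Cfsg.Lib.SpCentre
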