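import Mathlib

/-!
Involutions of the simple groups of order sixty and one hundred and sixty-eight: an automorphism of
order three fixing one fixes a second element of its centraliser; centralisers of `2`-elements are
`2`-groups.
-/

set_option autoImplicit false
set_option maxRecDepth 100000
set_option linter.unusedSectionVars false
set_option synthInstance.maxSize 4000

namespace Cfsg.Lib.SpCentre

universe u

open Matrix

/-- the property used of both groups -/
def SmallInv (Q : Type u) [Group Q] : Prop :=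
  (∀ τ : Q, τ * τ = 1 → τ ≠ 1 → ∃ y, y * τ = τ * y ∧ y ≠ 1 ∧ y ≠ τ ∧
      ∀ φ : MulAut Q, (∀ z, φ (φ (φ z)) = z) → φ τ = τ → φ y = y) ∧
    ∀ g d : Q, g * g * (g * g) = 1 → g ≠ 1 → g * d = d * g → d ^ 8 = 1

theorem fixed_of_pair {Q : Type u} [Group Q] {τ y : Q} (hτ : τ * τ = 1) (hτ1 : τ ≠ 1) (φ : MulAut Q)
    (h3 : ∀ z, φ (φ (φ z)) = z) (hφτ : φ τ = τ) (h : φ y = y ∨ φ y = y * τ) : φ y = y := by
  rcases h with h | h
  · exact h
  · exfalso
    have h2 : φ (φ y) = y := by rw [h, map_mul, h, hφτ, mul_assoc, hτ, mul_one]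
    exact hτ1 (mul_eq_left.1 (h.symm.trans ((congrArg φ h2).symm.trans (h3 y))))

/-! ### Order sixty -/

theorem a5_b : ∀ τ : alternatingGroup (Fin 5), τ * τ = 1 → τ ≠ 1 → ∃ y, y * τ = τ * y ∧ y ≠ 1 ∧ y ≠ τ ∧
    ∀ z, z * τ = τ * z → z = 1 ∨ z = τ ∨ z = y ∨ z = y * τ := by decide +kernel

theorem a5_cent : ∀ g : alternatingGroup (Fin 5), g * g * (g * g) = 1 → g ≠ 1 → ∀ d, g * d = d * g → d ^ 8 = 1 := by
  decide +kernel

theorem small_five {Q : Type u} [Group Q] (e : Q ≃* alternatingGroup (Fin 5)) : SmallInv Q := by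
  refine ⟨fun τ hτ hτ1 => ?_, fun g d hg hg1 hgd => e.injective ?_⟩
  · obtain ⟨y, hy, hy1, hyτ, hall⟩ := a5_b (e τ) (by rw [← map_mul, hτ, map_one])
      (fun h => hτ1 (e.injective (h.trans (map_one e).symm)))
    refine ⟨e.symm y, e.injective (by rw [map_mul, map_mul, e.apply_symm_apply, hy]),
      fun h => hy1 (by rw [← e.apply_symm_apply y, h, map_one]), fun h => hyτ (by rw [← e.apply_symm_apply y, h]),
      fun φ h3 hφτ => fixed_of_pair hτ hτ1 φ h3 hφτ ?_⟩
    have hne : φ (e.symm y) ≠ 1 ∧ φ (e.symm y) ≠ τ := by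
      constructor
      · intro h
        exact hy1 (by rw [← e.apply_symm_apply y, φ.injective (h.trans (map_one φ).symm), map_one])
      · intro h
        exact hyτ (by rw [← e.apply_symm_apply y, φ.injective (h.trans hφτ.symm)])
    rcases hall (e (φ (e.symm y))) (by
      rw [← map_mul, ← map_mul]
      congr 1
      calc φ (e.symm y) * τ = φ (e.symm y * τ) := by rw [map_mul, hφτ]
        _ = φ (τ * e.symm y) := by
          congr 1
          exact e.injective (by rw [map_mul, map_mul, e.apply_symm_apply, hy])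
        _ = _ := by rw [map_mul, hφτ]) with h | h | h | h
    · exact absurd (e.injective (h.trans (map_one e).symm)) hne.1
    · exact absurd (e.injective h) hne.2
    · exact Or.inl (e.injective (h.trans (e.apply_symm_apply y).symm))
    · exact Or.inr (e.injective (by rw [h, map_mul, e.apply_symm_apply]))
  · rw [map_pow, map_one]
    exact a5_cent (e g) (by simp only [← map_mul, hg, map_one]) (fun h => hg1 (e.injective (h.trans (map_one e).symm)))
      (e d) (by rw [← map_mul, hgd, map_mul])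

/-! ### Order one hundred and sixty-eight -/

/-- quadruples -/
abbrev M7 := ZMod 7 × ZMod 7 × ZMod 7 × ZMod 7

/-- product of quadruples -/
def mul7 (x y : M7) : M7 :=
  (x.1 * y.1 + x.2.1 * y.2.2.1, x.1 * y.2.1 + x.2.1 * y.2.2.2,
    x.2.2.1 * y.1 + x.2.2.2 * y.2.2.1, x.2.2.1 * y.2.1 + x.2.2.2 * y.2.2.2)

/-- residues -/
def all7 : List (ZMod 7) := [0, 1, 2, 3, 4, 5, 6]

/-- all quadruples of determinant one -/
def list7 : List M7 :=
  (all7.flatMap fun a => all7.flatMap fun b => all7.flatMap fun c => all7.map fun d => (a, b, c, d)).filter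
    fun x => decide (x.1 * x.2.2.2 - x.2.1 * x.2.2.1 = 1)

/-- equality up to sign -/
def pm7 (x y : M7) : Bool := decide (x = y) || decide (x = -y)

/-- the identity -/
def one7 : M7 := (1, 0, 0, 1)

theorem l27_b : (list7.all fun t => !(pm7 (mul7 t t) one7) || pm7 t one7 || list7.any fun y =>
    pm7 (mul7 y y) t && list7.all fun z => !(pm7 (mul7 z z) t) || pm7 z y || pm7 z (mul7 y t)) = true := by
  decide +kernel

theorem l27_cent : (list7.all fun g => !(pm7 (mul7 (mul7 g g) (mul7 g g)) one7) || pm7 g one7 ||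
    list7.all fun d => !(pm7 (mul7 g d) (mul7 d g)) ||
      pm7 (mul7 (mul7 (mul7 d d) (mul7 d d)) (mul7 (mul7 d d) (mul7 d d))) one7) = true := by
  decide +kernel

theorem centre7 : ∀ a b c d : ZMod 7, a * d - b * c = 1 → mul7 (a, b, c, d) (1, 1, 0, 1) = mul7 (1, 1, 0, 1) (a, b, c, d) →
    mul7 (a, b, c, d) (1, 0, 1, 1) = mul7 (1, 0, 1, 1) (a, b, c, d) →
      (a, b, c, d) = one7 ∨ (a, b, c, d) = -one7 := by decide +kernel

theorem all7_mem : ∀ a : ZMod 7, a ∈ all7 := by decide +kernel

/-- the quadruple -/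
def code7 (A : SpecialLinearGroup (Fin 2) (ZMod 7)) : M7 := (A 0 0, A 0 1, A 1 0, A 1 1)

theorem code7_mul (A B : SpecialLinearGroup (Fin 2) (ZMod 7)) : code7 (A * B) = mul7 (code7 A) (code7 B) := by
  simp [code7, mul7, Matrix.mul_apply, Fin.sum_univ_two]

theorem code7_inj {A B : SpecialLinearGroup (Fin 2) (ZMod 7)} (h : code7 A = code7 B) : A = B := by
  simp only [code7, Prod.mk.injEq] at h
  ext i j
  fin_cases i <;> fin_cases j
  exacts [h.1, h.2.1, h.2.2.1, h.2.2.2]

theorem code7_mem (A : SpecialLinearGroup (Fin 2) (ZMod 7)) : code7 A ∈ list7 := by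
  rw [list7, List.mem_filter, decide_eq_true_eq]
  refine ⟨?_, ?_⟩
  · simp only [List.mem_flatMap, List.mem_map, code7]
    exact ⟨_, all7_mem _, _, all7_mem _, _, all7_mem _, _, all7_mem _, rfl⟩
  · have := A.2
    rw [Matrix.det_fin_two] at this
    exact this

theorem small_seven {Q : Type u} [Group Q] (e : Q ≃* Matrix.ProjectiveSpecialLinearGroup (Fin 2) (ZMod 7)) :
    SmallInv Q := by
  have hker : ∀ A B : SpecialLinearGroup (Fin 2) (ZMod 7),
      (A : Matrix.ProjectiveSpecialLinearGroup (Fin 2) (ZMod 7)) = (B : Matrix.ProjectiveSpecialLinearGroup (Fin 2) (ZMod 7)) ↔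
        pm7 (code7 A) (code7 B) = true := by
    intro A B
    rw [QuotientGroup.eq, pm7, Bool.or_eq_true, decide_eq_true_eq, decide_eq_true_eq]
    constructor
    · intro h
      have key : ∀ U : SpecialLinearGroup (Fin 2) (ZMod 7), mul7 (code7 U) (code7 (A⁻¹ * B)) = mul7 (code7 (A⁻¹ * B)) (code7 U) :=
        fun U => by rw [← code7_mul, ← code7_mul, Subgroup.mem_center_iff.1 h U]
      have h1 := key ⟨!![1, 1; 0, 1], by simp [Matrix.det_fin_two]⟩
      have h2 := key ⟨!![1, 0; 1, 1], by simp [Matrix.det_fin_two]⟩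
      have hd := (A⁻¹ * B).2
      rw [Matrix.det_fin_two] at hd
      have hAB : code7 B = mul7 (code7 A) (code7 (A⁻¹ * B)) := by rw [← code7_mul, mul_inv_cancel_left]
      rcases centre7 _ _ _ _ hd h1.symm h2.symm with h | h
      · left
        rw [hAB, show code7 (A⁻¹ * B) = one7 from h]
        simp [mul7, one7]
      · right
        rw [hAB, show code7 (A⁻¹ * B) = -one7 from h]
        simp [mul7, one7, Prod.neg_mk, code7]
    · intro h
      refine Subgroup.mem_center_iff.2 fun C => code7_inj ?_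
      rcases h with h | h
      · rw [code7_inj h, inv_mul_cancel, mul_one, one_mul]
      · have hn : code7 (A⁻¹ * B) = -one7 := by
          have h1 : code7 B = -code7 A := by rw [h, neg_neg]
          have hone : mul7 (code7 A⁻¹) (code7 A) = one7 := by
            rw [← code7_mul, inv_mul_cancel]; simp [code7, one7]
          rw [code7_mul, h1, ← hone]
          simp only [mul7, Prod.neg_mk, Prod.fst_neg, Prod.snd_neg, Prod.mk.injEq]
          refine ⟨?_, ?_, ?_, ?_⟩ <;> ring
        rw [code7_mul C, code7_mul (A⁻¹ * B) C, hn]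
        simp [mul7, one7]
  let ψ : SpecialLinearGroup (Fin 2) (ZMod 7) →* Q := e.symm.toMonoidHom.comp (QuotientGroup.mk' _)
  have hψ : Function.Surjective ψ := e.symm.surjective.comp (QuotientGroup.mk'_surjective _)
  have heq : ∀ {A B}, ψ A = ψ B ↔ pm7 (code7 A) (code7 B) = true := fun {A B} => by
    rw [← hker]; exact e.symm.injective.eq_iff
  have hone : code7 1 = one7 := by simp [code7, one7]
  refine ⟨fun τ hτ hτ1 => ?_, fun g d hg hg1 hgd => ?_⟩
  · obtain ⟨T, rfl⟩ := hψ τ
    have hT := List.all_eq_true.1 l27_b _ (code7_mem T)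
    rw [← map_mul, ← map_one ψ, heq, code7_mul, hone] at hτ
    have hT1 : pm7 (code7 T) one7 = false := by
      rw [Bool.eq_false_iff]
      exact fun h => hτ1 (by rw [← map_one ψ, heq, hone]; exact h)
    simp only [hτ, hT1, Bool.not_true, Bool.false_or, List.any_eq_true, Bool.and_eq_true, List.all_eq_true] at hT
    obtain ⟨yc, hyc, hy2, hall⟩ := hT
    obtain ⟨hmem, hdet⟩ := List.mem_filter.1 hyc
    let Y : SpecialLinearGroup (Fin 2) (ZMod 7) :=
      ⟨!![yc.1, yc.2.1; yc.2.2.1, yc.2.2.2], by rw [Matrix.det_fin_two]; simpa using hdet⟩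
    have hY : code7 Y = yc := by simp [code7, Y]
    have hY2 : ψ Y * ψ Y = ψ T := by rw [← map_mul, heq, code7_mul, hY, hy2]
    have hτ2 : ψ T * ψ T = 1 := by rw [← map_mul, ← map_one ψ, heq, code7_mul, hone, hτ]
    refine ⟨ψ Y, by rw [← hY2, mul_assoc], fun h => hτ1 (by rw [← hY2, h, one_mul]), fun h => hτ1 ?_, ?_⟩
    · rw [h] at hY2
      exact mul_eq_left.1 hY2
    intro φ h3 hφτ
    refine fixed_of_pair hτ2 hτ1 φ h3 hφτ ?_
    obtain ⟨Z, hZ⟩ := hψ (φ (ψ Y))
    have hz : pm7 (mul7 (code7 Z) (code7 Z)) (code7 T) = true := by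
      rw [← code7_mul, ← heq, map_mul, hZ, ← map_mul, hY2, hφτ]
    have h := hall _ (code7_mem Z)
    simp only [hz, Bool.not_true, Bool.false_or, Bool.or_eq_true] at h
    rcases h with h | h
    · exact Or.inl (hZ ▸ (heq.2 (by rw [hY]; exact h)))
    · exact Or.inr (hZ ▸ (map_mul ψ Y T ▸ heq.2 (by rw [code7_mul, hY]; exact h)))
  · obtain ⟨A, rfl⟩ := hψ g
    obtain ⟨D, rfl⟩ := hψ d
    have h := List.all_eq_true.1 l27_cent _ (code7_mem A)
    simp only [← map_mul] at hg hgd
    rw [← map_one ψ, heq, code7_mul, code7_mul, hone] at hg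
    have hA1 : pm7 (code7 A) one7 = false := by
      rw [Bool.eq_false_iff]
      exact fun h => hg1 (by rw [← map_one ψ, heq, hone]; exact h)
    simp only [hg, hA1, Bool.not_true, Bool.false_or, List.all_eq_true] at h
    have h' := h _ (code7_mem D)
    rw [heq, code7_mul, code7_mul] at hgd
    simp only [hgd, Bool.not_true, Bool.false_or] at h'
    rw [← map_pow, ← map_one ψ, heq, hone]
    have e8 : D ^ 8 = (D * D * (D * D)) * (D * D * (D * D)) := by simp only [pow_succ, pow_zero, one_mul, mul_assoc]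
    simpa only [e8, code7_mul] using h'

end Cfsg.Lib.SpCentre
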