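import Cfsg.Agent.LocalThree.SpCentre.SixClasses
import Cfsg.Agent.LocalThree.SpCentre.SixCoprime
import Cfsg.Agent.LocalThree.SpCentre.SixSmall
import Cfsg.Agent.S3331

/-!
The centraliser of three commuting transpositions of the symmetric group of degree six: an extension
of a `2`-group by the symmetric group of degree three.
-/

set_option autoImplicit false
set_option maxRecDepth 8000
set_option linter.unusedSectionVars false
set_option synthInstance.maxSize 2000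
set_option maxHeartbeats 1000000

namespace Cfsg.Lib.SpCentre

open Subgroup Equiv Cfsg.Lib.HeisSL Cfsg.Lib.AmalgamSpFour Cfsg.Lib.SymNineLocal
open scoped MatrixGroups

universe u

/-- the three commuting transpositions -/
def tr : Fin 3 → S6 := ![swap 0 3, swap 1 4, swap 2 5]

/-- their group -/
def W8 : List S6 :=
  [1, swap 0 3, swap 1 4, swap 2 5, swap 0 3 * swap 1 4, swap 0 3 * swap 2 5, swap 1 4 * swap 2 5,
    swap 0 3 * swap 1 4 * swap 2 5]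

theorem tr_cent : ∀ h : S6, (∀ i, h * tr i = tr i * h) → h ∈ W8 := by decide +kernel

theorem tr_facts : (∀ h ∈ W8, h * h = 1 ∧ ∀ i, h * tr i = tr i * h) ∧
    (∀ a ∈ W8, ∀ b ∈ W8, a * b ∈ W8 ∧ a⁻¹ ∈ W8) ∧ (∀ h ∈ W8, ∃ a b c : Fin 2, h = tr 0 ^ a.val * tr 1 ^ b.val * tr 2 ^ c.val) ∧
    (∀ i, (ca * cb) * tr i * (ca * cb)⁻¹ = tr (i + 1)) ∧ (∀ i, tr i ∈ W8) ∧ bw ∈ W8 ∧
    (∀ p q : Fin 3, ca ^ p.val * cb ^ q.val * tr 0 = tr 0 * (ca ^ p.val * cb ^ q.val) →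
      ca ^ p.val * cb ^ q.val * tr 1 = tr 1 * (ca ^ p.val * cb ^ q.val) → p = 0 ∧ q = 0) := by decide +kernel

theorem three_perm : (∀ E T : Equiv.Perm (Fin 3), E * (E * E) = 1 → E ≠ 1 → T * T = 1 → T ≠ 1 →
      ∀ x, ∃ k : Fin 3, ∃ d : Fin 2, x = E ^ k.val * T ^ d.val) ∧
    ∀ x : Equiv.Perm (Fin 3), x ≠ 1 → x * (x * x) = 1 ∨ ∃ g, x * (g * x * g⁻¹) ≠ 1 ∧
      (x * (g * x * g⁻¹)) * ((x * (g * x * g⁻¹)) * (x * (g * x * g⁻¹))) = 1 := by decide +kernel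

/-- the eighth power -/
def p8 (m : Mdl) : Mdl := (m * m * (m * m)) * (m * m * (m * m))

theorem quat_mem : ∀ m : Mdl, m * i0 = i0 * m → p8 m = e0 → m = ⟨0, 0, 0, m.A⟩ ∧ m.A ^ 4 = 1 := by decide +kernel

/-- the conjugation of the quaternion group by the vector of weight two -/
def cv (A : SL(2, ZMod 3)) : SL(2, ZMod 3) := (mv (0, 1, 1)).A * A * ((mv (0, 1, 1)).A)⁻¹

theorem quat_facts : (∀ A : SL(2, ZMod 3), mv (0, 1, 1) * ⟨0, 0, 0, A⟩ = ⟨0, 0, 0, cv A⟩ * mv (0, 1, 1)) ∧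
    (∀ A : SL(2, ZMod 3), A ^ 4 = 1 → A * A ≠ 1 → A * A = i0.A ∧ A * (cv A * cv (cv A)) * (A * (cv A * cv (cv A))) = 1) ∧
    (∀ A : SL(2, ZMod 3), A * A = 1 → A = 1 ∨ A = i0.A) ∧ i0.A ≠ 1 ∧ i0.A * i0.A = 1 ∧
    (∀ A : SL(2, ZMod 3), A ^ 4 = 1 → A * A ≠ 1 → ∀ B : SL(2, ZMod 3), B ^ 4 = 1 →
      ∃ i : Fin 4, ∃ j : Fin 2, B = A ^ i.val * cv A ^ j.val) ∧
    (∀ A : SL(2, ZMod 3), A ^ 4 = 1 → cv A ^ 4 = 1 ∧ cv (cv (cv A)) = A) ∧
    (⟨0, 0, 0, 1⟩ : Mdl) = e0 ∧ (⟨0, 0, 0, i0.A⟩ : Mdl) = i0 := by decide +kernel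

theorem first_smul : ∀ k : ZMod 3, ((k, 0, 0) : V) = k.val • ((1, 0, 0) : V) := by decide +kernel

theorem first_smul' : ∀ k : Fin 3, (((k.val : ZMod 3), 0, 0) : V) = k.val • ((1, 0, 0) : V) := by decide +kernel

theorem v2_stab : ∀ x ∈ [idW, e1W, sW, cmp e1W sW],
    x = idW ∨ x = e1W ∨ x = sW ∨ x = cmp e1W sW := by decide +kernel

theorem coord_split : ∀ u : V, ∃ k : ZMod 3, ∃ p q : Fin 3, u = (k, 0, 0) + ((p.val • ((0, 1, 0) : V)) + q.val • ((0, 0, 1) : V)) := by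
  decide +kernel

/-- restriction of an automorphism to an invariant subgroup -/
noncomputable def restrictAut {X : Type u} [Group X] [Finite X] (φ : MulAut X) (N : Subgroup X)
    (h : ∀ n ∈ N, φ n ∈ N) : MulAut N :=
  MulEquiv.ofBijective (MonoidHom.mk' (fun n : N => (⟨φ (n : X), h n n.2⟩ : N)) fun a b => Subtype.ext (map_mul φ (a : X) b))
    (Finite.injective_iff_bijective.1 fun a b e => Subtype.ext (φ.injective (congrArg Subtype.val e)))

theorem restrictAut_apply {X : Type u} [Group X] [Finite X] (φ : MulAut X) (N : Subgroup X)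
    (h : ∀ n ∈ N, φ n ∈ N) (n : N) : (restrictAut φ N h n : X) = φ n := rfl

theorem sl_mul : ∀ A B : SL(2, ZMod 3), (⟨0, 0, 0, A⟩ : Mdl) * ⟨0, 0, 0, B⟩ = ⟨0, 0, 0, A * B⟩ := by
  decide +kernel

namespace Sx

variable {G : Type u} [Group G] [Finite G] (S : Sx G)

theorem ι_nsmul (n : ℕ) (v : V) : S.ι (n • v) = S.ι v ^ n := by
  induction n with
  | zero => rw [zero_smul, pow_zero]; exact S.ι_zero
  | succ n ih => rw [succ_nsmul, pow_succ, S.ι_add, ih]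

/-- the group of the three transpositions -/
def Wg : Subgroup G where
  carrier := {g | ∃ h ∈ W8, S.f h = g}
  one_mem' := ⟨1, by decide, map_one _⟩
  mul_mem' := by
    rintro x y ⟨a, ha, rfl⟩ ⟨b, hb, rfl⟩
    exact ⟨a * b, (tr_facts.2.1 a ha b hb).1, map_mul _ _ _⟩
  inv_mem' := by
    rintro x ⟨a, ha, rfl⟩
    exact ⟨a⁻¹, (tr_facts.2.1 a ha a ha).2, map_inv _ _⟩

/-- the centraliser of the three transpositions -/
def Cw : Subgroup G := centralizer (Set.range fun i => S.f (tr i))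

theorem mem_Cw {g : G} : g ∈ S.Cw ↔ ∀ i, g * S.f (tr i) = S.f (tr i) * g := by
  rw [Cw, mem_centralizer_iff]
  constructor
  · exact fun h i => (h _ ⟨i, rfl⟩).symm
  · rintro h _ ⟨i, rfl⟩; exact (h i).symm

theorem Wg_le : S.Wg ≤ S.Cw := by
  rintro g ⟨h, hh, rfl⟩
  exact S.mem_Cw.2 fun i => by rw [← map_mul, ← map_mul, (tr_facts.1 h hh).2 i]

theorem Wg_comm {g z : G} (hg : g ∈ S.Cw) (hz : z ∈ S.Wg) : g * z = z * g := by
  obtain ⟨h, hh, rfl⟩ := hz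
  obtain ⟨a, b, c, rfl⟩ := tr_facts.2.2.1 h hh
  have hc := S.mem_Cw.1 hg
  rw [map_mul, map_mul, map_pow, map_pow, map_pow]
  exact ((((show Commute g (S.f (tr 0)) from hc 0).pow_right a.val).mul_right
    ((show Commute g (S.f (tr 1)) from hc 1).pow_right b.val)).mul_right
    ((show Commute g (S.f (tr 2)) from hc 2).pow_right c.val)).eq

theorem Wg_sq {z : G} (hz : z ∈ S.Wg) : z * z = 1 := by
  obtain ⟨h, hh, rfl⟩ := hz
  rw [← map_mul, (tr_facts.1 h hh).1, map_one]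

theorem Wg_coprime : (Nat.card S.Wg).Coprime 3 := by
  have : Fact (Nat.Prime 2) := ⟨Nat.prime_two⟩
  obtain ⟨n, hn⟩ := IsPGroup.iff_card.1 (show IsPGroup 2 S.Wg from fun z => ⟨1, Subtype.ext (by
    rw [SubmonoidClass.coe_pow, pow_one, pow_two]; exact S.Wg_sq z.2)⟩)
  rw [hn]
  exact Nat.Coprime.pow_left n (by norm_num)

theorem t_Cw : S.t ∈ S.Cw := S.mem_Cw.2 fun i => (S.f_t _).symm

theorem e_Cw (k : ZMod 3) : S.ι (k, 0, 0) ∈ S.Cw := by
  refine S.mem_Cw.2 fun i => ?_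
  rw [← frame_vec.2.2.2.2.1 k]
  rcases sm_cases' k (1, 0, 0) with ⟨-, e⟩ | ⟨-, e⟩ | ⟨-, e⟩ <;> rw [e]
  · rw [show S.toData.ι 0 = 1 from S.ι_zero, one_mul, mul_one]
  · exact (S.f_e _).symm
  · rw [S.ι_add]
    exact ((show Commute (S.ι (1, 0, 0)) (S.f _) from (S.f_e _).symm).mul_left (S.f_e _).symm).eq

theorem v_eq : S.ι (0, 1, 1) = S.f (ca * cb) := by
  rw [map_mul, S.f_ca, S.f_cb, ← S.ι_add]; congr 1

theorem v_tr (i : Fin 3) : S.ι (0, 1, 1) * S.f (tr i) * (S.ι (0, 1, 1))⁻¹ = S.f (tr (i + 1)) := by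
  rw [S.v_eq, ← map_inv, ← map_mul, ← map_mul, tr_facts.2.2.2.1]

theorem v_Cw {g : G} (hg : g ∈ S.Cw) : S.ι (0, 1, 1) * g * (S.ι (0, 1, 1))⁻¹ ∈ S.Cw := by
  refine S.mem_Cw.2 fun i => ?_
  have h := S.mem_Cw.1 hg (i - 1)
  have e : S.f (tr i) = S.ι (0, 1, 1) * S.f (tr (i - 1)) * (S.ι (0, 1, 1))⁻¹ := by rw [S.v_tr, sub_add_cancel]
  rw [e]
  calc _ = S.ι (0, 1, 1) * (g * S.f (tr (i - 1))) * (S.ι (0, 1, 1))⁻¹ := by group
    _ = _ := by rw [h]; group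

theorem v_Wg {g : G} (hg : g ∈ S.Wg) : S.ι (0, 1, 1) * g * (S.ι (0, 1, 1))⁻¹ ∈ S.Wg := by
  obtain ⟨h, hh, rfl⟩ := hg
  refine ⟨_, ?_, by rw [S.v_eq, ← map_inv, ← map_mul, ← map_mul]⟩
  obtain ⟨a, b, c, rfl⟩ := tr_facts.2.2.1 h hh
  have key : ∀ a b c : Fin 2, (ca * cb) * (tr 0 ^ a.val * tr 1 ^ b.val * tr 2 ^ c.val) * (ca * cb)⁻¹ ∈ W8 := by decide +kernel
  exact key a b c

theorem u0_Wg : S.σ sW ∈ S.Wg := ⟨bw, tr_facts.2.2.2.2.2.1, S.f_w⟩

/-- The centraliser of the weight two vector in the centraliser of the transpositions. -/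
theorem cent_v_Cw {g : G} (hg : g ∈ S.Cw) (hv : g * S.ι (0, 1, 1) = S.ι (0, 1, 1) * g) :
    ∃ k : ZMod 3, ∃ d : Fin 2, ∃ z ∈ S.Wg, g = S.ι (k, 0, 0) * S.t ^ d.val * z := by
  obtain ⟨x, hx, hgx⟩ := S.toLoc.exists_acts (S.cent_two class_ops.2.2.2.2.2.2.2.2.2.2.2.2.2.2.2.2.1 hv)
  have hb := List.all_eq_true.1 op36_gen_b x hx
  simp only [(hgx.fix_iff _).1 hv, decide_true, Bool.not_true, Bool.false_or, Bool.or_eq_true, decide_eq_true_eq,
    or_assoc] at hb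
  have hxs : ∃ d : Fin 2, ∃ z ∈ S.Wg, S.σ x = S.t ^ d.val * z := by
    rcases v2_stab x (by simpa [or_assoc] using hb) with rfl | rfl | rfl | rfl
    · exact ⟨0, 1, one_mem _, by rw [S.σ_id]; simp⟩
    · exact ⟨1, 1, one_mem _, by show S.t = _; simp⟩
    · exact ⟨0, _, S.u0_Wg, by simp⟩
    · exact ⟨1, _, S.u0_Wg, by rw [← S.σ_mul e1W_mem.1 op_frame.2.1]; simp; rfl⟩
  obtain ⟨d, z, hz, hσ⟩ := hxs
  obtain ⟨v₀, hv₀⟩ := S.toLoc.same_acts (S.σ_acts hx) hgx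
  have hge : g = S.ι (app x v₀) * S.σ x := by
    rw [← S.σ_conj hx, show S.toData.ι v₀ = (S.σ x)⁻¹ * g from hv₀, mul_inv_cancel_left]
  have hu : S.ι (app x v₀) ∈ S.Cw := by
    have : g * (S.σ x)⁻¹ ∈ S.Cw := mul_mem hg (inv_mem (hσ ▸ mul_mem (pow_mem S.t_Cw _) (S.Wg_le hz)))
    rwa [hge, mul_inv_cancel_right] at this
  obtain ⟨k, p, q, he⟩ := coord_split (app x v₀)
  rw [he, S.ι_add, S.ι_add, S.ι_nsmul, S.ι_nsmul, ← S.f_ca, ← S.f_cb, ← map_pow, ← map_pow, ← map_mul] at hu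
  have h2 : S.f (ca ^ p.val * cb ^ q.val) ∈ S.Cw := by
    have := mul_mem (inv_mem (S.e_Cw k)) hu
    rwa [inv_mul_cancel_left] at this
  have h3 := fun i => S.f_inj (by rw [map_mul _ (ca ^ p.val * cb ^ q.val), map_mul _ (tr i)]; exact S.mem_Cw.1 h2 i :
    S.f (ca ^ p.val * cb ^ q.val * tr i) = S.f (tr i * (ca ^ p.val * cb ^ q.val)))
  obtain ⟨rfl, rfl⟩ := tr_facts.2.2.2.2.2.2 p q (h3 0) (h3 1)
  refine ⟨k, d, z, hz, ?_⟩
  rw [hge, he, hσ, mul_assoc]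
  congr 2
  simp

/-- An element of the centraliser of `a` lifting the quaternion group. -/
theorem exists_zQ : ∃ z : V, S.ι z * S.Ψ i0 * (S.ι z)⁻¹ = S.σ sW :=
  invol_lift S.toFull op_frame.2.1 op_frame.2.2.2.1
    (by rw [← S.hmul, i0_facts.1]; exact S.toData.Ψ_one)
    (fun v => mul_inv_eq_iff_eq_mul.2 (by
      show S.Ψ i0 * S.Ψ (mv v) = S.Ψ (mv (app sW v)) * S.Ψ i0
      rw [← S.hmul, ← S.hmul, i0_facts.2.2.1]))

/-- the vector of the lift -/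
noncomputable def zQ : V := S.exists_zQ.choose

/-- the quaternion group -/
noncomputable def qA (A : SL(2, ZMod 3)) : G := S.ι S.zQ * S.Ψ ⟨0, 0, 0, A⟩ * (S.ι S.zQ)⁻¹

theorem qA_mul (A B : SL(2, ZMod 3)) : S.qA A * S.qA B = S.qA (A * B) := by
  rw [qA, qA, qA, ← sl_mul, S.hmul]; group

theorem qA_one : S.qA 1 = 1 := by
  rw [qA, quat_facts.2.2.2.2.2.2.2.1, S.toData.Ψ_one, mul_one, mul_inv_cancel]

theorem qA_pow (A : SL(2, ZMod 3)) (n : ℕ) : S.qA (A ^ n) = S.qA A ^ n := by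
  induction n with
  | zero => rw [pow_zero, pow_zero, S.qA_one]
  | succ n ih => rw [pow_succ, pow_succ, ← ih, S.qA_mul]

theorem qA_i0 : S.qA i0.A = S.σ sW := by
  rw [qA, quat_facts.2.2.2.2.2.2.2.2]; exact S.exists_zQ.choose_spec

theorem qA_a (A : SL(2, ZMod 3)) : S.qA A * S.ι vZ = S.ι vZ * S.qA A :=
  ((show Commute (S.ι S.zQ) (S.ι vZ) from S.ι_comm _ _).mul_left (S.toLoc.Ψ_comm_a _)).mul_left
    (show Commute (S.ι S.zQ) (S.ι vZ) from S.ι_comm _ _).inv_left |>.eq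

theorem qA_v (A : SL(2, ZMod 3)) : S.ι (0, 1, 1) * S.qA A * (S.ι (0, 1, 1))⁻¹ = S.qA (cv A) := by
  have h : S.ι (0, 1, 1) * S.Ψ ⟨0, 0, 0, A⟩ = S.Ψ ⟨0, 0, 0, cv A⟩ * S.ι (0, 1, 1) := by
    show S.Ψ _ * S.Ψ _ = S.Ψ _ * S.Ψ _
    rw [← S.hmul, ← S.hmul, quat_facts.1]
  have hc : Commute (S.ι (0, 1, 1)) (S.ι S.zQ) := S.ι_comm _ _
  rw [qA, qA]
  calc S.ι (0, 1, 1) * (S.ι S.zQ * S.Ψ ⟨0, 0, 0, A⟩ * (S.ι S.zQ)⁻¹) * (S.ι (0, 1, 1))⁻¹
      = S.ι (0, 1, 1) * S.ι S.zQ * S.Ψ ⟨0, 0, 0, A⟩ * ((S.ι S.zQ)⁻¹ * (S.ι (0, 1, 1))⁻¹) := by group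
    _ = S.ι S.zQ * (S.ι (0, 1, 1) * S.Ψ ⟨0, 0, 0, A⟩) * ((S.ι (0, 1, 1))⁻¹ * (S.ι S.zQ)⁻¹) := by
      rw [hc.eq, hc.inv_inv.symm.eq, mul_assoc (S.ι S.zQ)]
    _ = _ := by rw [h]; group

/-- The `2`-elements centralising `a` and the product of the transpositions. -/
theorem mem_quat {g : G} (ha : g * S.ι vZ = S.ι vZ * g) (hu : g * S.σ sW = S.σ sW * g) {n : ℕ}
    (hn : Nat.Coprime n 3) (hg : g ^ n = 1) : ∃ A, A ^ 4 = 1 ∧ g = S.qA A := by
  classical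
  set z := S.ι S.zQ
  have hza : Commute z (S.ι vZ) := S.ι_comm _ _
  have hc : (z⁻¹ * g * z) * S.ι vZ = S.ι vZ * (z⁻¹ * g * z) :=
    ((hza.inv_left.mul_left ha).mul_left hza).eq
  obtain ⟨m, hm⟩ := S.cent _ hc
  have hzu : z * S.Ψ i0 * z⁻¹ = S.σ sW := S.exists_zQ.choose_spec
  have hmi : m * i0 = i0 * m := S.inj (by
    rw [S.hmul, S.hmul, hm, show S.Ψ i0 = z⁻¹ * S.σ sW * z by rw [← hzu]; group]
    calc z⁻¹ * g * z * (z⁻¹ * S.σ sW * z) = z⁻¹ * (g * S.σ sW) * z := by group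
      _ = _ := by rw [hu]; group)
  have hd : orderOf (z⁻¹ * g * z) ∣ 648 := by
    have h := orderOf_dvd_natCard (⟨_, mem_centralizer_singleton_iff.2 hc⟩ : centralizer ({S.ι vZ} : Set G))
    rwa [S.toLoc.mdl_card, Subgroup.orderOf_mk] at h
  have hd' : orderOf (z⁻¹ * g * z) ∣ n := orderOf_dvd_of_pow_eq_one (by
    have e := conj_pow (a := z⁻¹) (b := g) (i := n)
    rw [inv_inv] at e
    rw [e, hg]; group)
  have h8 : orderOf (z⁻¹ * g * z) ∣ 8 := by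
    have hco : Nat.Coprime (orderOf (z⁻¹ * g * z)) 81 := by
      rw [show (81 : ℕ) = 3 ^ 4 by norm_num]
      exact ((hn.coprime_dvd_left hd').pow_right 4)
    exact hco.dvd_of_dvd_mul_right (by simpa using hd)
  have hm8 : p8 m = e0 := S.inj (by
    rw [p8, S.hmul, S.hmul, S.hmul, hm, S.toData.Ψ_one]
    have h := orderOf_dvd_iff_pow_eq_one.1 h8
    simpa only [pow_succ, pow_zero, one_mul, mul_assoc] using h)
  obtain ⟨he, h4⟩ := quat_mem m hmi hm8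
  refine ⟨m.A, h4, ?_⟩
  show g = z * S.Ψ ⟨0, 0, 0, m.A⟩ * z⁻¹
  rw [← he, hm]; group

/-- The `2`-group in the centraliser of the transpositions. -/
structure TCore where
  N : Subgroup G
  le : N ≤ S.Cw
  wle : S.Wg ≤ N
  two : IsPGroup 2 N
  normal : ∀ g ∈ S.Cw, ∀ n ∈ N, g * n * g⁻¹ ∈ N
  vmem : ∀ n ∈ N, S.ι (0, 1, 1) * n * (S.ι (0, 1, 1))⁻¹ ∈ N
  comm : ∀ m ∈ N, ∀ n ∈ N, ∃ z ∈ S.Wg, m * n = n * m * z
  cover : ∀ g ∈ S.Cw, ∃ n ∈ N, ∃ k : ZMod 3, ∃ d : Fin 2, g = n * S.ι (k, 0, 0) * S.t ^ d.val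
  form : ∀ g ∈ N, ∃ A B, A ^ 4 = 1 ∧ B ^ 4 = 1 ∧ S.qA A ∈ N ∧ S.qA B ∈ N ∧
    ∃ z ∈ S.Wg, g = S.qA A * (S.t * S.qA B * S.t) * z

theorem exists_tcore : Nonempty S.TCore := by
  classical
  have : Fact (Nat.Prime 3) := ⟨Nat.prime_three⟩
  obtain ⟨C, hC⟩ : ∃ C : Subgroup G, C = S.Cw := ⟨_, rfl⟩
  let Wc : Subgroup C := S.Wg.subgroupOf C
  haveI : Wc.Normal := ⟨fun z hz g => by
    show ((g * z * g⁻¹ : C) : G) ∈ S.Wg
    rw [Subgroup.coe_mul, Subgroup.coe_mul, Subgroup.coe_inv, S.Wg_comm (hC ▸ g.2) (mem_subgroupOf.1 hz),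
      mul_inv_cancel_right]
    exact mem_subgroupOf.1 hz⟩
  let π : C →* C ⧸ Wc := QuotientGroup.mk' Wc
  have hπs : Function.Surjective π := QuotientGroup.mk'_surjective Wc
  have hker : ∀ x : C, π x = 1 ↔ (x : G) ∈ S.Wg := fun x => by
    rw [QuotientGroup.mk'_apply, QuotientGroup.eq_one_iff, mem_subgroupOf]
  have hπeq : ∀ x y : C, π x = π y ↔ (x : G)⁻¹ * y ∈ S.Wg := fun x y => by
    rw [← inv_mul_eq_one, ← map_inv, ← map_mul, hker]; rfl
  have hmem : ∀ {g : G}, g ∈ S.Cw → g ∈ C := fun h => hC ▸ h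
  have hemem := hmem (S.e_Cw 1)
  have htmem := hmem S.t_Cw
  set e : C ⧸ Wc := π ⟨_, hemem⟩ with he
  set τ : C ⧸ Wc := π ⟨_, htmem⟩ with hτ
  have he3 : e * (e * e) = 1 := by
    rw [he, ← map_mul, ← map_mul, show (⟨_, hemem⟩ : C) * (⟨_, hemem⟩ * ⟨_, hemem⟩) = 1 from Subtype.ext (S.ι_cube _),
      map_one]
  have he1 : e ≠ 1 := fun h => by
    have h2 := S.Wg_sq ((hker _).1 h)
    refine S.ι_ne_one frame_vec.2.2.2.2.2.1 ?_
    calc S.ι (1, 0, 0) = (S.ι (1, 0, 0) * (S.ι (1, 0, 0) * S.ι (1, 0, 0))) * (S.ι (1, 0, 0) * S.ι (1, 0, 0))⁻¹ := by group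
      _ = 1 := by rw [S.ι_cube, h2]; group
  have hτ2 : τ * τ = 1 := by
    rw [hτ, ← map_mul, show (⟨_, htmem⟩ : C) * ⟨_, htmem⟩ = 1 from Subtype.ext S.t_sq, map_one]
  have hte : τ * e * τ⁻¹ = e⁻¹ := by
    rw [hτ, he, ← map_inv, ← map_inv, ← map_mul, ← map_mul]
    refine congrArg π (Subtype.ext ?_)
    show S.σ e1W * S.ι (1, 0, 0) * (S.σ e1W)⁻¹ = (S.ι (1, 0, 0))⁻¹
    rw [S.σ_acts e1W_mem.1, frame_vec.2.2.2.2.2.2.2.2.2.2.2, S.ι_neg]
  -- the centraliser of the element of order three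
  have hcente : ∀ y, y * e = e * y → y ∈ zpowers e := by
    intro y hy
    obtain ⟨g, rfl⟩ := hπs y
    have hgW : (g : G) * S.ι (1, 0, 0) = S.ι (1, 0, 0) * g := by
      obtain ⟨w, hw, hwe⟩ : ∃ w ∈ S.Wg, (g : G) * S.ι (1, 0, 0) = S.ι (1, 0, 0) * g * w := by
        rw [he, ← map_mul, ← map_mul, hπeq] at hy
        refine ⟨_, inv_mem hy, ?_⟩
        show (g : G) * S.ι (1, 0, 0) = S.ι (1, 0, 0) * g *
          (((g : G) * S.ι (1, 0, 0))⁻¹ * (S.ι (1, 0, 0) * (g : G)))⁻¹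
        group
      have hwg : Commute w (g : G) := (S.Wg_comm (hC ▸ g.2) hw).symm
      have hwe' : Commute w (S.ι (1, 0, 0)) := (S.Wg_comm (S.e_Cw 1) hw).symm
      have e1 : (g : G) * S.ι (1, 0, 0) * (g : G)⁻¹ = S.ι (1, 0, 0) * w := by
        rw [hwe, mul_assoc (S.ι (1, 0, 0)), ← hwg.eq]; group
      have hw1 : w = 1 := by
        have h3 := congrArg (fun x => x * (x * x)) e1
        rw [show (g : G) * S.ι (1, 0, 0) * (g : G)⁻¹ * ((g : G) * S.ι (1, 0, 0) * (g : G)⁻¹ * ((g : G) * S.ι (1, 0, 0) * (g : G)⁻¹)) =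
          (g : G) * (S.ι (1, 0, 0) * (S.ι (1, 0, 0) * S.ι (1, 0, 0))) * (g : G)⁻¹ by group, S.ι_cube, mul_one,
          mul_inv_cancel, ← pow_three, hwe'.symm.mul_pow, pow_three, S.ι_cube, one_mul, pow_three, S.Wg_sq hw, mul_one] at h3
        exact h3.symm
      rw [hwe, hw1, mul_one]
    obtain ⟨k, h, hgk⟩ := S.cent_e _ hgW
    have hh : h ∈ W8 := tr_cent h fun i => S.f_inj (by
      have h1 : S.f h ∈ S.Cw := by
        have := mul_mem (inv_mem (S.e_Cw k)) (hC ▸ g.2 : (g : G) ∈ S.Cw)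
        rwa [hgk, inv_mul_cancel_left] at this
      rw [map_mul, map_mul]; exact S.mem_Cw.1 h1 i)
    have : π g = π ⟨_, hmem (S.e_Cw k)⟩ := (hπeq _ _).2 (by
      rw [hgk, mul_inv_rev, inv_mul_cancel_right]; exact inv_mem ⟨h, hh, rfl⟩)
    rw [this]
    have e1 : (⟨_, hmem (S.e_Cw k)⟩ : C) = (⟨_, hemem⟩ : C) ^ k.val := Subtype.ext (by
      rw [SubmonoidClass.coe_pow]; show S.ι (k, 0, 0) = _; rw [← S.ι_nsmul, ← first_smul k])
    rw [e1, map_pow]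
    exact pow_mem (mem_zpowers _) _
  have hX : centralizer (zpowers e : Set (C ⧸ Wc)) = zpowers e := le_antisymm
    (fun y hy => hcente y (mem_centralizer_iff.1 hy e (mem_zpowers e)).symm)
    fun y hy => mem_centralizer_iff.2 fun z hz => by
      obtain ⟨i, rfl⟩ := mem_zpowers_iff.1 hy
      obtain ⟨j, rfl⟩ := mem_zpowers_iff.1 hz
      rw [← zpow_add, ← zpow_add, add_comm]
  have hcard3 : Nat.card (zpowers e) = 3 := by
    rw [Nat.card_zpowers, orderOf_eq_prime (by rw [pow_three, he3]) he1]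
  -- conjugation by the weight two vector
  let cvC : MulAut C := restrictAut (MulAut.conj (S.ι (0, 1, 1))) C fun n hn => hmem (S.v_Cw (hC ▸ hn))
  have hmapW : Wc.map cvC.toMonoidHom = Wc := Subgroup.eq_of_le_of_card_ge
    (by rintro _ ⟨z, hz, rfl⟩; refine mem_subgroupOf.2 ?_; show (restrictAut _ C _ z : G) ∈ S.Wg; rw [restrictAut_apply]; exact S.v_Wg (mem_subgroupOf.1 hz))
    (by rw [card_map_of_injective (f := cvC.toMonoidHom) cvC.injective])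
  let β : MulAut (C ⧸ Wc) := QuotientGroup.congr Wc Wc cvC hmapW
  have hβπ : ∀ x : C, β (π x) = π (cvC x) := fun x => rfl
  have hcvC : ∀ x : C, (cvC x : G) = S.ι (0, 1, 1) * x * (S.ι (0, 1, 1))⁻¹ := fun x => restrictAut_apply _ _ _ x
  have hβ3 : ∀ y, β (β (β y)) = y := fun y => by
    obtain ⟨x, rfl⟩ := hπs y
    rw [hβπ, hβπ, hβπ]
    refine congrArg π (Subtype.ext ?_)
    rw [hcvC, hcvC, hcvC]
    calc S.ι (0, 1, 1) * (S.ι (0, 1, 1) * (S.ι (0, 1, 1) * (x : G) * (S.ι (0, 1, 1))⁻¹) * (S.ι (0, 1, 1))⁻¹) * (S.ι (0, 1, 1))⁻¹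
        = S.ι (0, 1, 1) * (S.ι (0, 1, 1) * S.ι (0, 1, 1)) * (x : G) * (S.ι (0, 1, 1) * (S.ι (0, 1, 1) * S.ι (0, 1, 1)))⁻¹ := by group
      _ = _ := by rw [S.ι_cube]; group
  have hβe : β e = e := by
    rw [he, hβπ]; refine congrArg π (Subtype.ext ?_)
    rw [hcvC]; exact S.ι_conj _ _
  have hβτ : β τ = τ := by
    rw [hτ, hβπ]; refine congrArg π (Subtype.ext ?_)
    rw [hcvC]
    show S.ι (0, 1, 1) * S.t * (S.ι (0, 1, 1))⁻¹ = S.t
    rw [(S.t_fix (0, 1, 1)).2 rfl, mul_inv_cancel_right]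
  have hlift : ∀ (P : Subgroup C) (hWP : Wc ≤ P) (_ : (Nat.card P).Coprime 3) (_ : ∀ z ∈ P, cvC z ∈ P) (g : C),
      g⁻¹ * cvC g ∈ P → ∃ n ∈ P, ∃ k : ZMod 3, ∃ d : Fin 2, π (g * n) = π ⟨_, hmem (S.e_Cw k)⟩ * τ ^ d.val := by
    intro P hWP hP hPinv g hg
    obtain ⟨n, hn, hfix⟩ := coset_fixed (P.map C.subtype) (v := S.ι (0, 1, 1))
      (by rwa [card_map_of_injective C.subtype_injective]) (S.ι_cube _)
      (by rintro _ ⟨z, hz, rfl⟩; exact ⟨cvC z, hPinv z hz, rfl⟩) (g := (g : G)) ⟨_, hg, rfl⟩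
    obtain ⟨n, hn', rfl⟩ := hn
    obtain ⟨k, d, z, hz, hgk⟩ := S.cent_v_Cw (g := (g : G) * n) (hC ▸ (g * n).2) hfix.symm
    refine ⟨n, hn', k, d, ?_⟩
    rw [hτ, ← map_pow, ← map_mul, hπeq]
    have h1 : ((g * n : C) : G)⁻¹ * ((⟨_, hmem (S.e_Cw k)⟩ * (⟨_, htmem⟩ : C) ^ d.val : C) : G) = z⁻¹ := by
      rw [Subgroup.coe_mul C g n, hgk, Subgroup.coe_mul, SubmonoidClass.coe_pow, mul_inv_rev]
      exact inv_mul_cancel_right _ _
    rw [h1]; exact inv_mem hz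
  have hek : ∀ (k : ZMod 3), ∃ i : ℕ, π ⟨_, hmem (S.e_Cw k)⟩ = e ^ i ∧ (e ^ i = 1 → k = 0) := fun k => by
    refine ⟨k.val, ?_, fun h => ?_⟩
    · rw [he, ← map_pow]
      refine congrArg π (Subtype.ext ?_)
      rw [SubmonoidClass.coe_pow, ← S.ι_nsmul]
      show S.ι (k, 0, 0) = _; rw [← first_smul k]
    · have hk : k.val % 3 = 0 := by
        have := orderOf_dvd_of_pow_eq_one h
        rw [orderOf_eq_prime (by rw [pow_three, he3]) he1] at this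
        omega
      have h2 := ZMod.val_lt k
      exact (ZMod.val_eq_zero k).1 (by omega)
  -- the case of a simple quotient is impossible
  have hsimple : ∀ (Q : Type) [Group Q] (ρ : (C ⧸ Wc) →* Q), Function.Surjective ρ → SmallInv Q →
      (∀ n ∈ ρ.ker, n * n = 1) → (∀ n ∈ ρ.ker, β n ∈ ρ.ker) → False := by
    intro Q _ ρ hρ hQ hsq hinv
    have he' : ρ e ≠ 1 := fun h => he1 (by
      have h2 := hsq e (MonoidHom.mem_ker.2 h)
      calc e = e * (e * e) := by rw [h2, mul_one]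
        _ = 1 := he3)
    have hτ' : ρ τ ≠ 1 := fun h => by
      refine he' ?_
      have h1 := congrArg ρ hte
      rw [map_mul, map_mul, map_inv, map_inv, h, one_mul, inv_one, mul_one] at h1
      have h3 := congrArg ρ he3
      rw [map_mul, map_mul, map_one, show ρ e * ρ e = 1 by rw [mul_eq_one_iff_eq_inv]; exact h1, mul_one] at h3
      exact h3
    obtain ⟨y, hy, hy1, hyτ, hfix⟩ := hQ.1 (ρ τ) (by rw [← map_mul, hτ2, map_one]) hτ'
    let φ0 : Q →* Q := MonoidHom.liftOfSurjective ρ hρ ⟨ρ.comp β.toMonoidHom, fun n hn => hinv n hn⟩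
    have hφ0 : ∀ x, φ0 (ρ x) = ρ (β x) := fun x => MonoidHom.liftOfRightInverse_comp_apply _ _ _ _ x
    have hφ3 : ∀ z, φ0 (φ0 (φ0 z)) = z := fun z => by
      obtain ⟨x, rfl⟩ := hρ z
      rw [hφ0, hφ0, hφ0, hβ3]
    let φ : MulAut Q := MulEquiv.ofBijective φ0 ⟨fun a b h => by rw [← hφ3 a, h, hφ3], fun z => ⟨φ0 (φ0 z), hφ3 z⟩⟩
    have hfy : φ0 y = y := hfix φ hφ3 (by show φ0 (ρ τ) = ρ τ; rw [hφ0, hβτ])
    obtain ⟨x, rfl⟩ := hρ y
    obtain ⟨g, rfl⟩ := hπs x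
    let P : Subgroup C := (ρ.comp π).ker
    have hP : (Nat.card P).Coprime 3 := by
      have : Fact (Nat.Prime 2) := ⟨Nat.prime_two⟩
      obtain ⟨n, hn⟩ := IsPGroup.iff_card.1 (show IsPGroup 2 P from fun z => ⟨2, Subtype.ext (Subtype.ext (by
        have h1 := (hker ((z : C) * z)).1 (by rw [map_mul]; exact hsq _ z.2)
        have h2 := S.Wg_sq h1
        simpa [pow_succ, mul_assoc] using h2))⟩)
      rw [hn]; exact Nat.Coprime.pow_left n (by norm_num)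
    obtain ⟨n, hn, k, d, hgn⟩ := hlift P (fun z hz => MonoidHom.mem_ker.2 (by
        rw [MonoidHom.comp_apply, (hker z).2 (mem_subgroupOf.1 hz), map_one])) hP
      (fun z hz => MonoidHom.mem_ker.2 (by
        rw [MonoidHom.comp_apply, ← hβπ]; exact hinv _ hz)) g
      (MonoidHom.mem_ker.2 (by
        rw [MonoidHom.comp_apply, map_mul, map_inv, map_mul, map_inv, ← hβπ, ← hφ0, hfy, inv_mul_cancel]))
    have hyv : ρ (π g) = ρ (π ⟨_, hmem (S.e_Cw k)⟩) * ρ τ ^ d.val := by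
      rw [← map_pow, ← map_mul, ← hgn, map_mul π, map_mul ρ, show ρ (π n) = 1 from hn, mul_one]
    obtain ⟨i, hi, hi0⟩ := hek k
    have hcomm : Commute (ρ τ) (ρ (e ^ i)) := by
      have h1 : Commute (ρ τ) (ρ (π g)) := (show Commute _ _ from hy).symm
      rw [hyv, hi] at h1
      have h2 := h1.mul_right ((Commute.refl (ρ τ)).pow_right d.val).inv_right
      rwa [mul_inv_cancel_right] at h2
    have hinv' : ρ τ * ρ (e ^ i) * (ρ τ)⁻¹ = (ρ (e ^ i))⁻¹ := by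
      rw [← map_inv ρ, ← map_inv ρ, ← map_mul ρ, ← map_mul ρ, ← conj_pow, hte, inv_pow]
    rw [hcomm.eq, mul_inv_cancel_right] at hinv'
    have he0 : ρ (e ^ i) = 1 := by
      have h2 : ρ (e ^ i) * ρ (e ^ i) = 1 := by
        nth_rw 2 [hinv']
        exact mul_inv_cancel _
      have h3 : ρ (e ^ i) * (ρ (e ^ i) * ρ (e ^ i)) = 1 := by
        rw [← map_mul, ← map_mul, ← pow_add, ← pow_add,
          show i + (i + i) = 3 * i by ring, pow_mul, pow_three, he3, one_pow, map_one]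
      rwa [h2, mul_one] at h3
    rw [hi, he0, one_mul] at hyv
    obtain ⟨d, hd⟩ := d
    interval_cases d
    · exact hy1 (by simpa using hyv)
    · exact hyτ (by simpa using hyv)
  rcases Cfsg.Agent.S3331.result (zpowers e) hcard3 hX with ⟨N, hN, hnil, hco, hq⟩ | ⟨N, hN, -, hsq, ⟨e5⟩⟩ | h7
  rotate_left
  · exfalso
    refine hsimple _ (e5.toMonoidHom.comp (QuotientGroup.mk' N)) (e5.surjective.comp (QuotientGroup.mk'_surjective N))
      (small_five (MulEquiv.refl _)) (fun n hn => ?_) (fun n hn => ?_)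
    all_goals
      have hk : ∀ x, x ∈ (e5.toMonoidHom.comp (QuotientGroup.mk' N)).ker ↔ x ∈ N := fun x => by
        rw [MonoidHom.mem_ker, MonoidHom.comp_apply, MulEquiv.coe_toMonoidHom, MulEquiv.map_eq_one_iff,
          QuotientGroup.mk'_apply, QuotientGroup.eq_one_iff]
    · have := hsq n ((hk n).1 hn); rwa [pow_two] at this
    · have hsimp : IsSimpleGroup (alternatingGroup (Fin 5)) := alternatingGroup.isSimpleGroup_five
      set ρ := e5.toMonoidHom.comp (QuotientGroup.mk' N) with hρ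
      have hs : Function.Surjective ρ := e5.surjective.comp (QuotientGroup.mk'_surjective N)
      let M : Subgroup (alternatingGroup (Fin 5)) := (ρ.ker.map β.toMonoidHom).map ρ
      have hMn : M.Normal := Subgroup.Normal.map (Subgroup.Normal.map inferInstance _ β.surjective) _ hs
      rcases hMn.eq_bot_or_eq_top with h | h
      · have : ρ (β n) ∈ M := ⟨β n, ⟨n, hn, rfl⟩, rfl⟩
        rw [h, mem_bot] at this
        exact MonoidHom.mem_ker.2 this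
      · exfalso
        obtain ⟨_, ⟨z, hz, rfl⟩, hze⟩ : ρ e ∈ M := h ▸ mem_top _
        have h2 : ρ e * ρ e = 1 := by
          rw [← hze, ← map_mul]
          show ρ (β z * β z) = 1
          rw [← map_mul β, show z * z = 1 by rw [← pow_two]; exact hsq z ((hk z).1 hz), map_one, map_one]
        have h3 : ρ e * (ρ e * ρ e) = 1 := by rw [← map_mul, ← map_mul, he3, map_one]
        rw [h2, mul_one] at h3
        have heN : e * e = 1 := by rw [← pow_two]; exact hsq e ((hk e).1 h3)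
        exact he1 ((show e = e * (e * e) by rw [heN, mul_one]).trans he3)
  · exfalso
    obtain ⟨e7⟩ := h7
    refine hsimple _ e7.toMonoidHom e7.surjective (small_seven (MulEquiv.refl _)) (fun n hn => ?_) (fun n hn => ?_)
    all_goals
      have h1 : n = 1 := e7.injective (hn.trans (map_one e7).symm)
      subst h1
    · rw [one_mul]
    · rw [map_one]; exact one_mem _
  -- the nilpotent case
  haveI := hN
  haveI := hnil
  let q : (C ⧸ Wc) →* (C ⧸ Wc) ⧸ N := QuotientGroup.mk' N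
  have hqk : ∀ x, q x = 1 ↔ x ∈ N := fun x => QuotientGroup.eq_one_iff x
  have hord : ∀ x ∈ N, x * (x * x) = 1 → x = 1 := fun x hx h3 => by
    obtain ⟨k, hk⟩ := cube_root hco hx
    rw [← hk, pow_three, h3, one_pow]
  have hqe : q e ≠ 1 := fun h => he1 (hord e ((hqk e).1 h) he3)
  have hqτ : q τ ≠ 1 := fun h => by
    refine hqe ?_
    have h1 := congrArg q hte
    rw [map_mul, map_mul, map_inv, map_inv, h, one_mul, inv_one, mul_one] at h1
    have h3 := congrArg q he3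
    rw [map_mul, map_mul, map_one, show q e * q e = 1 by rw [mul_eq_one_iff_eq_inv]; exact h1, mul_one] at h3
    exact h3
  obtain ⟨e3⟩ : Nonempty ((C ⧸ Wc) ⧸ N ≃* Equiv.Perm (Fin 3)) := by
    refine hq.resolve_left fun h => hqτ (orderOf_eq_one_iff.1 ?_)
    have h1 : orderOf (q τ) ∣ 3 := h ▸ orderOf_dvd_natCard _
    have h2 : orderOf (q τ) ∣ 2 := orderOf_dvd_of_pow_eq_one (by rw [pow_two, ← map_mul, hτ2, map_one])
    exact Nat.dvd_one.1 (show Nat.gcd 3 2 = 1 by norm_num ▸ Nat.dvd_gcd h1 h2)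
  have hcov : ∀ x, ∃ n ∈ N, ∃ k : Fin 3, ∃ d : Fin 2, x = n * e ^ k.val * τ ^ d.val := by
    intro x
    obtain ⟨k, d, hkd⟩ := three_perm.1 (e3 (q e)) (e3 (q τ)) (by rw [← map_mul, ← map_mul, ← map_mul, ← map_mul, he3, map_one, map_one])
      (fun h => hqe (e3.injective (h.trans (map_one e3).symm))) (by rw [← map_mul, ← map_mul, hτ2, map_one, map_one])
      (fun h => hqτ (e3.injective (h.trans (map_one e3).symm))) (e3 (q x))
    simp only [← map_pow, ← map_mul] at hkd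
    refine ⟨x * (e ^ k.val * τ ^ d.val)⁻¹, (hqk _).1 ?_, k, d, by group⟩
    rw [map_mul, map_inv, e3.injective hkd, mul_inv_cancel]
  have hβN : ∀ n ∈ N, β n ∈ N := by
    intro n hn
    refine (hqk _).1 (e3.injective ?_)
    rw [map_one]
    let ρ : (C ⧸ Wc) →* Equiv.Perm (Fin 3) := e3.toMonoidHom.comp q
    have hρs : Function.Surjective ρ := e3.surjective.comp (QuotientGroup.mk'_surjective N)
    let M : Subgroup (Equiv.Perm (Fin 3)) := (N.map β.toMonoidHom).map ρ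
    have hMn : M.Normal := Subgroup.Normal.map (Subgroup.Normal.map hN _ β.surjective) _ hρs
    have hMc : (Nat.card M).Coprime 3 := by
      refine hco.coprime_dvd_left ((card_map_dvd _ _).trans ?_)
      rw [card_map_of_injective (f := β.toMonoidHom) β.injective]
    have hno : ∀ x ∈ M, x * (x * x) = 1 → x = 1 := fun x hx h3 => by
      obtain ⟨k, hk⟩ := cube_root hMc hx
      rw [← hk, pow_three, h3, one_pow]
    have hxM : ρ (β n) ∈ M := ⟨β n, ⟨n, hn, rfl⟩, rfl⟩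
    show ρ (β n) = 1
    by_contra hne
    rcases three_perm.2 _ hne with h | ⟨g, hg1, hg3⟩
    · exact hne (hno _ hxM h)
    · exact hg1 (hno _ (mul_mem hxM (hMn.conj_mem _ hxM g)) hg3)
  -- automorphisms of `N`
  let α' : MulAut N := restrictAut (MulAut.conj e) N fun n hn => hN.conj_mem n hn e
  let β' : MulAut N := restrictAut β N hβN
  let τ' : MulAut N := restrictAut (MulAut.conj τ) N fun n hn => hN.conj_mem n hn τ
  have hα' : ∀ n : N, ((α' n : N) : C ⧸ Wc) = e * n * e⁻¹ := fun n => restrictAut_apply _ _ _ n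
  have hβ' : ∀ n : N, ((β' n : N) : C ⧸ Wc) = β n := fun n => restrictAut_apply _ _ _ n
  have hτ' : ∀ n : N, ((τ' n : N) : C ⧸ Wc) = τ * n * τ⁻¹ := fun n => restrictAut_apply _ _ _ n
  have hα3 : ∀ n, α' (α' (α' n)) = n := fun n => Subtype.ext (by
    rw [hα', hα', hα']
    calc e * (e * (e * (n : C ⧸ Wc) * e⁻¹) * e⁻¹) * e⁻¹ = e * (e * e) * (n : C ⧸ Wc) * (e * (e * e))⁻¹ := by group
      _ = _ := by rw [he3]; group)
  have hβ'3 : ∀ n, β' (β' (β' n)) = n := fun n => Subtype.ext (by rw [hβ', hβ', hβ', hβ3])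
  have hcm : ∀ n, α' (β' n) = β' (α' n) := fun n => Subtype.ext (by
    rw [hα', hβ', hβ', hα', map_mul, map_mul, map_inv, hβe])
  have hαf : ∀ n, α' n = n → n = 1 := fun n h => by
    have h' : e * (n : C ⧸ Wc) * e⁻¹ = n := congrArg Subtype.val h
    refine Subtype.ext (hord _ n.2 ?_)
    obtain ⟨i, hi⟩ := mem_zpowers_iff.1 (hcente _ (mul_inv_eq_iff_eq_mul.1 h').symm)
    rw [← hi, ← zpow_add, ← zpow_add, show i + (i + i) = 3 * i by ring, zpow_mul,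
      show e ^ (3 : ℤ) = 1 by rw [show ((3 : ℤ)) = ((3 : ℕ) : ℤ) by rfl, zpow_natCast, pow_three, he3], one_zpow]
  have hWc : (Nat.card Wc).Coprime 3 := by
    rw [Nat.card_congr (subgroupOfEquivOfLe (show S.Wg ≤ C from fun z hz => hmem (S.Wg_le hz))).toEquiv]
    exact S.Wg_coprime
  have hβf : ∀ n, β' n = n → n = 1 := fun n h => by
    have h' : β (n : C ⧸ Wc) = n := congrArg Subtype.val h
    obtain ⟨g, hg⟩ := hπs (n : C ⧸ Wc)
    rw [← hg, hβπ, eq_comm, hπeq] at h'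
    obtain ⟨z, hz, k, d, hgz⟩ := hlift Wc le_rfl hWc (fun z hz => hmapW ▸ ⟨z, hz, rfl⟩) g (mem_subgroupOf.2 h')
    rw [map_mul, (hker z).2 (mem_subgroupOf.1 hz), mul_one, hg] at hgz
    obtain ⟨i, hi, hi0⟩ := hek k
    rw [hi] at hgz
    have h1 : q (e ^ i) * q (τ ^ d.val) = 1 := by rw [← map_mul, ← hgz]; exact (hqk _).2 n.2
    obtain ⟨d, hd⟩ := d
    have hd0 : d = 0 := by
      rcases Nat.lt_or_ge d 1 with h | h
      · omega
      · exfalso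
        obtain rfl : d = 1 := by omega
        refine hqτ ?_
        rw [pow_one, map_pow, ← eq_inv_iff_mul_eq_one] at h1
        have h3 : (q τ)⁻¹ ^ 3 = 1 := by
          rw [← h1, ← pow_mul, mul_comm, pow_mul, pow_three, ← map_mul, ← map_mul, he3, map_one, one_pow]
        rw [inv_pow, inv_eq_one, pow_three, ← map_mul, ← map_mul, hτ2, mul_one] at h3
        exact h3
    subst hd0
    refine Subtype.ext ?_
    rw [hgz, pow_zero, mul_one]
    exact hord _ ((hqk _).1 (by simpa using h1)) (by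
      rw [← pow_add, ← pow_add, show i + (i + i) = 3 * i by ring, pow_mul, pow_three, he3, one_pow])
  -- fixed points of the products
  have hav : S.ι (1, 0, 0) * S.ι (0, 1, 1) = S.ι vZ := by rw [← S.ι_add]; congr 1
  have hfixA : ∀ n : N, α' (β' n) = n → ∃ A, A ^ 4 = 1 ∧ ∃ hA : S.qA A ∈ C, (n : C ⧸ Wc) = π ⟨_, hA⟩ := by
    intro n hn
    have hn' : e * β (n : C ⧸ Wc) * e⁻¹ = n := congrArg Subtype.val hn
    obtain ⟨g, hg⟩ := hπs (n : C ⧸ Wc)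
    rw [← hg, hβπ, he, ← map_inv, ← map_mul, ← map_mul, eq_comm, hπeq] at hn'
    obtain ⟨z, hz, hfix⟩ := coset_fixed S.Wg (v := S.ι vZ) S.Wg_coprime (S.ι_cube _)
      (fun w hw => by
        rw [← hav]
        have h := S.v_Wg hw
        rw [show S.ι (1, 0, 0) * S.ι (0, 1, 1) * w * (S.ι (1, 0, 0) * S.ι (0, 1, 1))⁻¹ =
          S.ι (1, 0, 0) * (S.ι (0, 1, 1) * w * (S.ι (0, 1, 1))⁻¹) * (S.ι (1, 0, 0))⁻¹ by group,
          S.Wg_comm (S.e_Cw 1) h, mul_inv_cancel_right]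
        exact h) (g := (g : G)) (by
        rw [← hav]
        have h2 : ((⟨_, hemem⟩ * cvC g * (⟨_, hemem⟩ : C)⁻¹ : C) : G) =
            S.ι (1, 0, 0) * S.ι (0, 1, 1) * g * (S.ι (1, 0, 0) * S.ι (0, 1, 1))⁻¹ := by
          rw [Subgroup.coe_mul, Subgroup.coe_mul, Subgroup.coe_inv, hcvC]; group
        rwa [← h2])
    have hgz : (g : G) * z ∈ S.Cw := mul_mem (hC ▸ g.2) (S.Wg_le hz)
    have hpow : ((g : G) * z) ^ (Nat.card N * 2) = 1 := by
      have h1 : π ((g * ⟨z, hmem (S.Wg_le hz)⟩) ^ Nat.card N) = 1 := by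
        rw [map_pow, map_mul, (hker ⟨z, hmem (S.Wg_le hz)⟩).2 hz, mul_one, hg, ← SubmonoidClass.coe_pow,
          pow_card_eq_one', OneMemClass.coe_one]
      have h2 := S.Wg_sq ((hker _).1 h1)
      rw [pow_mul, pow_two]; simpa using h2
    obtain ⟨A, hA4, hA⟩ := S.mem_quat hfix.symm (S.Wg_comm hgz S.u0_Wg)
      (Nat.Coprime.mul_left hco (by norm_num)) hpow
    refine ⟨A, hA4, hA ▸ hmem hgz, ?_⟩
    rw [← hg, hπeq]
    show (g : G)⁻¹ * S.qA A ∈ S.Wg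
    rw [← hA, inv_mul_cancel_left]; exact hz
  have hcentmem : ∀ (φ : MulAut N), ∀ x ∈ center N, φ x ∈ center N := fun φ x hx => mem_center_iff.2 fun y => by
    obtain ⟨z, rfl⟩ := φ.surjective y
    rw [← map_mul, ← map_mul, mem_center_iff.1 hx z]
  have hττ : ∀ n : N, τ' (τ' n) = n := fun n => Subtype.ext (by
    rw [hτ', hτ']
    calc τ * (τ * (n : C ⧸ Wc) * τ⁻¹) * τ⁻¹ = τ * τ * (n : C ⧸ Wc) * (τ * τ)⁻¹ := by group
      _ = _ := by rw [hτ2]; group)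
  have hτfix : ∀ n : N, α' (β' (β' n)) = n → α' (β' (τ' n)) = τ' n := fun n hn => by
    have hn' : e * β (β (n : C ⧸ Wc)) * e⁻¹ = n := congrArg Subtype.val hn
    refine Subtype.ext ?_
    rw [hα', hβ', hτ', map_mul, map_mul, map_inv, hβτ]
    have hτe : τ⁻¹ * e * τ = e⁻¹ := by
      have : τ⁻¹ = τ := inv_eq_of_mul_eq_one_right hτ2
      rw [this]; nth_rw 2 [← this]; exact hte
    have hn2 : e⁻¹ * β (n : C ⧸ Wc) * e = n := by
      have h2 := congrArg β hn'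
      rw [map_mul, map_mul, map_inv, hβe, hβ3] at h2
      rw [← h2]; group
    calc e * (τ * β (n : C ⧸ Wc) * τ⁻¹) * e⁻¹
        = τ * ((τ⁻¹ * e * τ) * β (n : C ⧸ Wc) * (τ⁻¹ * e * τ)⁻¹) * τ⁻¹ := by group
      _ = _ := by rw [hτe, inv_inv, hn2]
  have hτfix' : ∀ n : N, α' (β' n) = n → α' (β' (β' (τ' n))) = τ' n := fun n hn => by
    have hn' : e * β (n : C ⧸ Wc) * e⁻¹ = n := congrArg Subtype.val hn
    refine Subtype.ext ?_
    rw [hα', hβ', hβ', hτ', map_mul, map_mul, map_mul, map_mul, map_inv, map_inv, hβτ, hβτ]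
    have hτe : τ⁻¹ * e * τ = e⁻¹ := by
      have : τ⁻¹ = τ := inv_eq_of_mul_eq_one_right hτ2
      rw [this]; nth_rw 2 [← this]; exact hte
    have hn2 : β (β (n : C ⧸ Wc)) = e * (n : C ⧸ Wc) * e⁻¹ := by
      have h1 : β (n : C ⧸ Wc) = e⁻¹ * (n : C ⧸ Wc) * e := by
        nth_rw 2 [← hn']; group
      rw [h1, map_mul, map_mul, map_inv, hβe, h1]
      have : e⁻¹ * e⁻¹ = e := by rw [← mul_inv_rev, inv_eq_of_mul_eq_one_right (show e * e * e = 1 by rw [mul_assoc]; exact he3)]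
      calc e⁻¹ * (e⁻¹ * (n : C ⧸ Wc) * e) * e = (e⁻¹ * e⁻¹) * (n : C ⧸ Wc) * (e⁻¹ * e⁻¹)⁻¹ := by
            simp only [mul_inv_rev, inv_inv, mul_assoc]
        _ = _ := by rw [this]
    calc e * (τ * β (β (n : C ⧸ Wc)) * τ⁻¹) * e⁻¹
        = τ * ((τ⁻¹ * e * τ) * β (β (n : C ⧸ Wc)) * (τ⁻¹ * e * τ)⁻¹) * τ⁻¹ := by group
      _ = _ := by rw [hτe, hn2]; group
  have hsym : ∀ z ∈ center N, z ≠ 1 → (α' (β' z) = z ∨ α' (β' (β' z)) = z) →
      ∀ y, (α' (β' y) = y ∨ α' (β' (β' y)) = y) → y ∈ center N := by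
    intro z hz hz1 hzf y hyf
    obtain ⟨z, hz, hz1, hzf⟩ : ∃ z' ∈ center N, z' ≠ 1 ∧ α' (β' z') = z' := by
      rcases hzf with h | h
      · exact ⟨z, hz, hz1, h⟩
      · exact ⟨τ' z, hcentmem τ' z hz, fun e1 => hz1 (τ'.injective (e1.trans (map_one τ').symm)), hτfix z h⟩
    have key : ∀ y, α' (β' y) = y → y ∈ center N := by
      intro y hy
      obtain ⟨A, hA4, hAC, hAe⟩ := hfixA z hzf
      obtain ⟨B, hB4, hBC, hBe⟩ := hfixA y hy
      have hA2 : A * A ≠ 1 := fun h => hz1 (Subtype.ext (by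
        rw [hAe, OneMemClass.coe_one, hker]
        rcases quat_facts.2.2.1 A h with rfl | rfl
        · show S.qA 1 ∈ S.Wg
          rw [S.qA_one]; exact one_mem _
        · show S.qA i0.A ∈ S.Wg
          rw [S.qA_i0]; exact S.u0_Wg))
      obtain ⟨i, j, hB⟩ := quat_facts.2.2.2.2.2.1 A hA4 hA2 B hB4
      have hy' : y = z ^ i.val * β' z ^ j.val := Subtype.ext (by
        rw [Subgroup.coe_mul, SubmonoidClass.coe_pow, SubmonoidClass.coe_pow, hβ', hAe, hBe, hβπ, ← map_pow, ← map_pow,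
          ← map_mul]
        refine congrArg π (Subtype.ext ?_)
        rw [Subgroup.coe_mul, SubmonoidClass.coe_pow, SubmonoidClass.coe_pow, hcvC, S.qA_v, ← S.qA_pow, ← S.qA_pow,
          S.qA_mul, ← hB])
      rw [hy']
      exact mul_mem (pow_mem hz _) (pow_mem (hcentmem β' z hz) _)
    rcases hyf with h | h
    · exact key y h
    · have := hcentmem τ' _ (key (τ' y) (hτfix y h))
      rwa [hττ] at this
  obtain ⟨habel, hdec⟩ := two_fix hco α' β' hα3 hβ'3 hcm hαf hβf hsym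
  let P : Subgroup C := N.comap π
  refine ⟨{
    N := P.map C.subtype
    le := ?_, wle := ?_, two := ?_, normal := ?_, vmem := ?_, comm := ?_, cover := ?_, form := ?_ }⟩
  · rintro _ ⟨x, -, rfl⟩; exact hC ▸ x.2
  · intro z hz
    exact ⟨⟨z, hmem (S.Wg_le hz)⟩, mem_comap.2 (by rw [(hker ⟨z, hmem (S.Wg_le hz)⟩).2 hz]; exact one_mem _), rfl⟩
  · rintro ⟨_, g, hg, rfl⟩
    obtain ⟨p, q, hp, hq, he'⟩ := hdec ⟨π g, hg⟩
    obtain ⟨A, hA4, hAC, hAe⟩ := hfixA p hp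
    obtain ⟨B, hB4, hBC, hBe⟩ := hfixA (τ' q) (hτfix q hq)
    have h4 : ∀ n : N, ∀ D, D ^ 4 = 1 → (∃ hD : S.qA D ∈ C, (n : C ⧸ Wc) = π ⟨_, hD⟩) → n ^ 4 = 1 := by
      rintro n D hD ⟨hDC, hn⟩
      refine Subtype.ext ?_
      rw [SubmonoidClass.coe_pow, hn, ← map_pow, OneMemClass.coe_one, hker, SubmonoidClass.coe_pow, ← S.qA_pow, hD,
        S.qA_one]
      exact one_mem _
    have hg4 : (⟨π g, hg⟩ : N) ^ 4 = 1 := by
      rw [he', (show Commute p q from habel p q).mul_pow, h4 p A hA4 ⟨hAC, hAe⟩, one_mul]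
      refine τ'.injective ?_
      rw [map_pow, map_one, h4 _ B hB4 ⟨hBC, hBe⟩]
    refine ⟨3, Subtype.ext ?_⟩
    have h := S.Wg_sq ((hker (g ^ 4)).1 (by rw [map_pow]; exact congrArg Subtype.val hg4))
    show (g : G) ^ 2 ^ 3 = 1
    rw [show 2 ^ 3 = 4 + 4 by norm_num, pow_add]
    simpa using h
  · rintro g hg _ ⟨n, hn, rfl⟩
    refine ⟨⟨g, hmem hg⟩ * n * ⟨g, hmem hg⟩⁻¹, ?_, rfl⟩
    show π _ ∈ N
    rw [map_mul, map_mul, map_inv]
    exact hN.conj_mem _ hn _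
  · rintro _ ⟨n, hn, rfl⟩
    exact ⟨cvC n, hβN _ hn, rfl⟩
  · rintro _ ⟨m, hm, rfl⟩ _ ⟨n, hn, rfl⟩
    have h := congrArg Subtype.val (habel ⟨π m, hm⟩ ⟨π n, hn⟩)
    rw [Subgroup.coe_mul, Subgroup.coe_mul, ← map_mul, ← map_mul, eq_comm, hπeq] at h
    exact ⟨_, h, (mul_inv_cancel_left _ _).symm⟩
  · intro g hg
    obtain ⟨n, hn, k, d, he'⟩ := hcov (π ⟨g, hmem hg⟩)
    refine ⟨((⟨g, hmem hg⟩ * ((⟨_, hemem⟩ : C) ^ k.val * (⟨_, htmem⟩ : C) ^ d.val)⁻¹ : C) : G),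
      ⟨⟨g, hmem hg⟩ * ((⟨_, hemem⟩ : C) ^ k.val * (⟨_, htmem⟩ : C) ^ d.val)⁻¹, ?_, rfl⟩, (k.val : ZMod 3), d, ?_⟩
    · show π _ ∈ N
      rw [map_mul, map_inv, map_mul, map_pow, map_pow, ← he, ← hτ, he', mul_assoc n, mul_inv_cancel_right]
      exact hn
    · have hk : S.ι ((k.val : ZMod 3), 0, 0) = S.ι (1, 0, 0) ^ k.val := by
        rw [← S.ι_nsmul]
        rw [← first_smul' k]
      rw [hk, Subgroup.coe_mul, Subgroup.coe_inv, Subgroup.coe_mul, SubmonoidClass.coe_pow, SubmonoidClass.coe_pow]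
      group
  · rintro _ ⟨g, hg, rfl⟩
    obtain ⟨p, q, hp, hq, he'⟩ := hdec ⟨π g, hg⟩
    obtain ⟨A, hA4, hAC, hAe⟩ := hfixA p hp
    obtain ⟨B, hB4, hBC, hBe⟩ := hfixA (τ' q) (hτfix q hq)
    refine ⟨A, B, hA4, hB4, ⟨⟨_, hAC⟩, ?_, rfl⟩, ⟨⟨_, hBC⟩, ?_, rfl⟩, ?_⟩
    · show π _ ∈ N
      rw [← hAe]; exact p.2
    · show π _ ∈ N
      rw [← hBe]; exact (τ' q).2
    · have hgeq : π g = π (⟨_, hAC⟩ * (⟨_, htmem⟩ * ⟨_, hBC⟩ * ⟨_, htmem⟩)) := by
        rw [map_mul, map_mul, map_mul, ← hAe, ← hBe, hτ', ← hτ]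
        have h1 : (π g : C ⧸ Wc) = (p : C ⧸ Wc) * q := congrArg Subtype.val he'
        rw [h1]
        calc (p : C ⧸ Wc) * q = p * ((τ * τ) * q * (τ * τ)) := by rw [hτ2, one_mul, mul_one]
          _ = _ := by rw [inv_eq_of_mul_eq_one_right hτ2]; group
      rw [eq_comm, hπeq] at hgeq
      exact ⟨_, hgeq, (mul_inv_cancel_left _ _).symm⟩

end Sx

end Cfsg.Lib.SpCentre
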