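import Cfsg.Agent.LocalThree.SpCentre.SixOdd

/-!
The centraliser of the reflection and three commuting transpositions is elementary abelian, and its
normaliser in the centraliser of the reflection and two of the transpositions is itself.
-/

set_option autoImplicit false
set_option maxRecDepth 8000
set_option linter.unusedSectionVars false
set_option linter.style.haveILetI false
set_option synthInstance.maxSize 2000
set_option maxHeartbeats 1000000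

namespace Cfsg.Lib.SpCentre

open Subgroup Equiv Cfsg.Lib.HeisSL Cfsg.Lib.AmalgamSpFour Cfsg.Lib.SymNineLocal
open scoped MatrixGroups

universe u

theorem cv_three : ∀ A : SL(2, ZMod 3), cv (cv (cv A)) = A := by decide +kernel

theorem cv_mul : ∀ A B : SL(2, ZMod 3), cv (A * B) = cv A * cv B := by decide +kernel

theorem quat_sign : (∀ A B : SL(2, ZMod 3), A ^ 4 = 1 → B ^ 4 = 1 → (A * B) ^ 4 = 1) ∧
    (∀ A : SL(2, ZMod 3), A ^ 4 = 1 → (A⁻¹) ^ 4 = 1) ∧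
    (∀ A : SL(2, ZMod 3), A ^ 4 = 1 → (A⁻¹ * cv (cv A)) * (A⁻¹ * cv (cv A)) = 1 → A * A = 1) ∧
    (∀ A : SL(2, ZMod 3), A ^ 4 = 1 → A * A ≠ 1 → cv A * cv A ≠ 1 ∧ A⁻¹ = A * i0.A) ∧
    ∀ A : SL(2, ZMod 3), A ^ 4 = 1 → A * A * (A * A) = 1 := by decide +kernel

theorem w8_class : (∀ h ∈ W8, h = 1 ∨ (∃ i, h = tr i) ∨ (∃ i, h = bw * tr i) ∨ h = bw) ∧
    (∀ i j : Fin 3, tr i * tr j ≠ tr 2 ∧ bw * tr i * (bw * tr j) ≠ tr 2) ∧ bw * bw ≠ tr 2 ∧ bw * bw = 1 ∧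
    bw * tr 0 * tr 1 * tr 2 = 1 ∧
    (∀ i, bw * tr i * (bw * tr (i + 1)) * (bw * tr (i + 2)) = 1) ∧
    (∀ h ∈ W8, bw * h ∈ W8) ∧ (ca * cb) * bw * (ca * cb)⁻¹ = bw ∧ tr 0 * tr 1 = bw * tr 2 := by decide +kernel

namespace Sx

variable {G : Type u} [Group G] [Finite G] (S : Sx G)

theorem qA_e (A : SL(2, ZMod 3)) : S.ι (1, 0, 0) * S.qA A * (S.ι (1, 0, 0))⁻¹ = S.qA (cv (cv A)) ∧
    (S.ι (1, 0, 0))⁻¹ * S.qA A * S.ι (1, 0, 0) = S.qA (cv A) := by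
  have hav : S.ι (1, 0, 0) * S.ι (0, 1, 1) = S.ι vZ := by rw [← S.ι_add]; congr 1
  have key : ∀ B, S.ι (1, 0, 0) * S.qA (cv B) * (S.ι (1, 0, 0))⁻¹ = S.qA B := fun B => by
    rw [← S.qA_v]
    calc _ = S.ι (1, 0, 0) * S.ι (0, 1, 1) * S.qA B * (S.ι (1, 0, 0) * S.ι (0, 1, 1))⁻¹ := by group
      _ = _ := by rw [hav, ← S.qA_a, mul_inv_cancel_right]
  refine ⟨?_, ?_⟩
  · conv_lhs => rw [← cv_three A]
    exact key _
  · conv_lhs => rw [← key A]
    group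

theorem qA_inv (A : SL(2, ZMod 3)) : (S.qA A)⁻¹ = S.qA A⁻¹ :=
  inv_eq_of_mul_eq_one_right (by rw [S.qA_mul, mul_inv_cancel, S.qA_one])

theorem qA_small {A : SL(2, ZMod 3)} (hA : A * A = 1) : S.qA A = 1 ∨ S.qA A = S.σ sW := by
  rcases quat_facts.2.2.1 A hA with rfl | rfl
  exacts [Or.inl S.qA_one, Or.inr S.qA_i0]

theorem qA_sq_one {A : SL(2, ZMod 3)} (h : S.qA A ∈ S.Wg) : A * A = 1 := by
  have h2 : S.Ψ ⟨0, 0, 0, A * A⟩ = S.Ψ ⟨0, 0, 0, 1⟩ := by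
    have e := S.Wg_sq h
    rw [S.qA_mul, ← S.qA_one, qA, qA] at e
    exact mul_left_cancel (mul_right_cancel e)
  exact congrArg Mdl.A (S.inj h2)

theorem t_u0 : S.t * S.σ sW * S.t = S.σ sW := by
  rw [← S.f_w, S.t_f, mul_assoc, S.t_sq, mul_one]

/-- A lift of the quaternion group sent to such a lift by the reflection is of exponent two. -/
theorem t_qA {A B : SL(2, ZMod 3)} (hB : B ^ 4 = 1) {z : G} (hz : z ∈ S.Wg) (h : S.t * S.qA A * S.t = S.qA B * z) :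
    B * B = 1 := by
  refine quat_sign.2.2.1 B hB (S.qA_sq_one ?_)
  have h1 : (S.ι (1, 0, 0))⁻¹ * S.ι (0, 1, 1) * (S.qA B * z) * ((S.ι (1, 0, 0))⁻¹ * S.ι (0, 1, 1))⁻¹ = S.qA B * z := by
    have e1 : (S.ι (1, 0, 0))⁻¹ * S.ι (0, 1, 1) = S.t * S.ι vZ * S.t := by
      rw [← S.ι_neg, ← S.ι_add]
      nth_rw 2 [← S.t_inv]
      show _ = S.σ e1W * S.ι vZ * (S.σ e1W)⁻¹
      rw [S.σ_acts e1W_mem.1]
      congr 1
    rw [e1, ← h]
    calc S.t * S.ι vZ * S.t * (S.t * S.qA A * S.t) * (S.t * S.ι vZ * S.t)⁻¹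
        = S.t * S.ι vZ * (S.t * S.t) * S.qA A * (S.t * S.t⁻¹) * (S.ι vZ)⁻¹ * S.t⁻¹ := by group
      _ = S.t * (S.ι vZ * S.qA A * (S.ι vZ)⁻¹) * S.t := by rw [S.t_sq, mul_inv_cancel, S.t_inv]; group
      _ = _ := by rw [← S.qA_a, mul_inv_cancel_right]
  have hvz := S.v_Wg hz
  have h2 : S.qA B * z = S.qA (cv (cv B)) * (S.ι (0, 1, 1) * z * (S.ι (0, 1, 1))⁻¹) := by
    rw [← (S.qA_e (cv B)).2, ← S.qA_v]
    nth_rw 1 [← h1]
    have hc : Commute (S.ι (1, 0, 0)) (S.ι (0, 1, 1) * z * (S.ι (0, 1, 1))⁻¹) := S.Wg_comm (S.e_Cw 1) hvz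
    calc (S.ι (1, 0, 0))⁻¹ * S.ι (0, 1, 1) * (S.qA B * z) * ((S.ι (1, 0, 0))⁻¹ * S.ι (0, 1, 1))⁻¹
        = (S.ι (1, 0, 0))⁻¹ * (S.ι (0, 1, 1) * S.qA B * (S.ι (0, 1, 1))⁻¹) *
          ((S.ι (0, 1, 1) * z * (S.ι (0, 1, 1))⁻¹) * S.ι (1, 0, 0)) := by group
      _ = _ := by rw [← hc.eq]; group
  have h3 : S.qA (B⁻¹ * cv (cv B)) = z * (S.ι (0, 1, 1) * z * (S.ι (0, 1, 1))⁻¹)⁻¹ := by
    rw [← S.qA_mul, ← S.qA_inv, eq_mul_inv_iff_mul_eq, mul_assoc, ← h2, inv_mul_cancel_left]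
  rw [h3]; exact mul_mem hz (inv_mem hvz)

/-- The product of a lift and its conjugate by the reflection. -/
noncomputable def zA (A : SL(2, ZMod 3)) : G := S.qA A * (S.t * S.qA A * S.t)

/-- Lifts giving elements of the centraliser. -/
def Good (A : SL(2, ZMod 3)) : Prop :=
  A ^ 4 = 1 ∧ S.qA A ∈ S.Cw ∧ Commute (S.qA A) (S.t * S.qA A * S.t)

theorem zA_small {A : SL(2, ZMod 3)} (hA : A * A = 1) : S.zA A = 1 := by
  rcases S.qA_small hA with e | e <;> rw [zA, e]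
  · rw [one_mul, mul_one, S.t_sq]
  · rw [S.t_u0, ← S.f_w, ← map_mul, w8_class.2.2.2.1, map_one]

theorem zA_t {A : SL(2, ZMod 3)} (h : S.Good A) : S.zA A * S.t = S.t * S.zA A := by
  have e : S.t * S.zA A * S.t = S.zA A := by
    rw [zA]
    calc S.t * (S.qA A * (S.t * S.qA A * S.t)) * S.t = S.t * S.qA A * S.t * S.qA A * (S.t * S.t) := by group
      _ = _ := by rw [S.t_sq, mul_one, h.2.2.eq]
  calc S.zA A * S.t = S.t * S.zA A * S.t * S.t := by rw [e]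
    _ = _ := by rw [mul_assoc, S.t_sq, mul_one]

theorem zA_Cw {A : SL(2, ZMod 3)} (h : S.Good A) : S.zA A ∈ S.Cw :=
  mul_mem h.2.1 (mul_mem (mul_mem S.t_Cw h.2.1) S.t_Cw)

/-- If one nontrivial lift is good, all are, and the products commute. -/
theorem good_all {A : SL(2, ZMod 3)} (h : S.Good A) (hA : A * A ≠ 1) {X Y : SL(2, ZMod 3)} (hX : X ^ 4 = 1)
    (hY : Y ^ 4 = 1) : S.qA X ∈ S.Cw ∧ Commute (S.qA X) (S.t * S.qA Y * S.t) := by
  obtain ⟨h4, hC, hc⟩ := h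
  let P : SL(2, ZMod 3) → SL(2, ZMod 3) → Prop := fun X Y => Commute (S.qA X) (S.t * S.qA Y * S.t)
  have hvt : Commute (S.ι (0, 1, 1)) S.t := (S.t_fix _).2 rfl
  have hv : ∀ {X Y}, P X Y → P (cv X) (cv Y) := fun {X Y} p => by
    have e : S.ι (0, 1, 1) * (S.t * S.qA Y * S.t) * (S.ι (0, 1, 1))⁻¹ = S.t * S.qA (cv Y) * S.t := by
      rw [← S.qA_v]
      calc _ = S.ι (0, 1, 1) * S.t * S.qA Y * (S.t * (S.ι (0, 1, 1))⁻¹) := by group
        _ = _ := by rw [hvt.eq, hvt.inv_left.symm.eq]; group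
    have h' := p.map (MulAut.conj (S.ι (0, 1, 1))).toMonoidHom
    simp only [MulEquiv.coe_toMonoidHom, MulAut.conj_apply] at h'
    rwa [S.qA_v, e] at h'
  have he : ∀ {X Y}, P X Y → P (cv (cv X)) (cv Y) := fun {X Y} p => by
    have et : S.ι (1, 0, 0) * S.t = S.t * (S.ι (1, 0, 0))⁻¹ := by
      have h1 := S.t_e 1
      rw [← S.ι_neg]
      calc S.ι (1, 0, 0) * S.t = S.t * (S.t * S.ι (1, 0, 0) * S.t⁻¹) := by
            rw [S.t_inv, ← mul_assoc, ← mul_assoc, S.t_sq, one_mul]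
        _ = _ := by rw [h1]; congr 2
    have et' : S.t * (S.ι (1, 0, 0))⁻¹ = S.ι (1, 0, 0) * S.t := et.symm
    have et2 : (S.ι (1, 0, 0)) * S.t * (S.ι (1, 0, 0)) = S.t := by rw [et, inv_mul_cancel_right]
    have e : S.ι (1, 0, 0) * (S.t * S.qA Y * S.t) * (S.ι (1, 0, 0))⁻¹ = S.t * S.qA (cv Y) * S.t := by
      rw [← (S.qA_e Y).2]
      calc _ = S.ι (1, 0, 0) * S.t * S.qA Y * (S.t * (S.ι (1, 0, 0))⁻¹) := by group
        _ = _ := by rw [et']; nth_rw 1 [et]; group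
    have h' := p.map (MulAut.conj (S.ι (1, 0, 0))).toMonoidHom
    simp only [MulEquiv.coe_toMonoidHom, MulAut.conj_apply] at h'
    rwa [(S.qA_e X).1, e] at h'
  have p00 : P A A := hc
  have p11 : P (cv A) (cv A) := hv p00
  have p21 := he p00
  have p10 : P (cv A) A := by
    have := hv (hv p21)
    simpa only [cv_three] using this
  have p12 := he p21
  rw [cv_three] at p12
  have p01 : P A (cv A) := by
    have := hv (hv p12)
    simpa only [cv_three] using this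
  obtain ⟨i, j, rfl⟩ := quat_facts.2.2.2.2.2.1 A h4 hA X hX
  obtain ⟨k, l, rfl⟩ := quat_facts.2.2.2.2.2.1 A h4 hA Y hY
  have hC' : S.qA (cv A) ∈ S.Cw := by rw [← S.qA_v]; exact S.v_Cw hC
  refine ⟨?_, ?_⟩
  · rw [← S.qA_mul, S.qA_pow, S.qA_pow]; exact mul_mem (pow_mem hC _) (pow_mem hC' _)
  · have ec : ∀ a b : G, S.t * (a * b) * S.t = S.t * a * S.t * (S.t * b * S.t) := fun a b => by
      calc S.t * (a * b) * S.t = S.t * a * (S.t * S.t) * b * S.t := by rw [S.t_sq]; group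
        _ = _ := by group
    have ep : ∀ (a : G) (n : ℕ), S.t * a ^ n * S.t = (S.t * a * S.t) ^ n := fun a n => by
      have := conj_pow (a := S.t) (b := a) (i := n)
      rw [S.t_inv] at this
      exact this.symm
    rw [← S.qA_mul, ← S.qA_mul, S.qA_pow, S.qA_pow, S.qA_pow, S.qA_pow, ec, ep, ep]
    exact ((p00.pow_pow i.val k.val).mul_right (p01.pow_pow i.val l.val)).mul_left
      ((p10.pow_pow j.val k.val).mul_right (p11.pow_pow j.val l.val))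

theorem Good.mul {A B : SL(2, ZMod 3)} (hA : S.Good A) (hB : S.Good B) :
    S.Good (A * B) ∧ S.zA (A * B) = S.zA A * S.zA B := by
  have h4 := quat_sign.1 A B hA.1 hB.1
  have hmem : S.qA (A * B) ∈ S.Cw := by rw [← S.qA_mul]; exact mul_mem hA.2.1 hB.2.1
  have hc : Commute (S.qA B) (S.t * S.qA A * S.t) ∧ Commute (S.qA (A * B)) (S.t * S.qA (A * B) * S.t) := by
    by_cases h : A * A = 1
    · have hz : S.qA A ∈ S.Wg ∧ S.t * S.qA A * S.t = S.qA A := by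
        rcases S.qA_small h with e | e <;> rw [e]
        · exact ⟨one_mem _, by rw [mul_one, S.t_sq]⟩
        · exact ⟨S.u0_Wg, S.t_u0⟩
      have c1 : ∀ {g : G}, g ∈ S.Cw → Commute g (S.qA A) := fun hg => S.Wg_comm hg hz.1
      refine ⟨hz.2.symm ▸ c1 hB.2.1, ?_⟩
      rw [← S.qA_mul, show S.t * (S.qA A * S.qA B) * S.t = S.qA A * (S.t * S.qA B * S.t) by
        calc _ = S.t * S.qA A * (S.t * S.t) * S.qA B * S.t := by rw [S.t_sq]; group
          _ = (S.t * S.qA A * S.t) * (S.t * S.qA B * S.t) := by group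
          _ = _ := by rw [hz.2]]
      exact ((Commute.refl (S.qA A)).mul_left (c1 hB.2.1)).mul_right
        ((c1 (mul_mem (mul_mem S.t_Cw hB.2.1) S.t_Cw)).symm.mul_left hB.2.2)
    · exact ⟨(S.good_all hA h hB.1 hA.1).2, (S.good_all hA h h4 h4).2⟩
  refine ⟨⟨h4, hmem, hc.2⟩, ?_⟩
  have e : S.t * (S.qA A * S.qA B) * S.t = S.t * S.qA A * S.t * (S.t * S.qA B * S.t) := by
    calc S.t * (S.qA A * S.qA B) * S.t = S.t * S.qA A * (S.t * S.t) * S.qA B * S.t := by rw [S.t_sq]; group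
      _ = _ := by group
  rw [zA, zA, zA, ← S.qA_mul, e]
  calc S.qA A * S.qA B * (S.t * S.qA A * S.t * (S.t * S.qA B * S.t))
      = S.qA A * (S.qA B * (S.t * S.qA A * S.t)) * (S.t * S.qA B * S.t) := by group
    _ = _ := by rw [hc.1.eq]; group

theorem Good.comm {A B : SL(2, ZMod 3)} (hA : S.Good A) (hB : S.Good B) : Commute (S.zA A) (S.zA B) := by
  by_cases h : A * A = 1
  · rw [S.zA_small h]; exact Commute.one_left _
  by_cases h' : B * B = 1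
  · rw [S.zA_small h']; exact Commute.one_right _
  show S.zA A * S.zA B = S.zA B * S.zA A
  rw [← (hA.mul S hB).2, ← (hB.mul S hA).2]
  have key : ∀ A B : SL(2, ZMod 3), A ^ 4 = 1 → B ^ 4 = 1 → A * B = B * A ∨ A * B = i0.A * (B * A) := by decide +kernel
  rcases key A B hA.1 hB.1 with e | e
  · rw [e]
  · rw [e]
    have hi : S.Good i0.A := ⟨by rw [show i0.A ^ 4 = i0.A * i0.A * (i0.A * i0.A) by simp [pow_succ, mul_assoc], quat_facts.2.2.2.2.1, one_mul],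
      by rw [S.qA_i0]; exact S.Wg_le S.u0_Wg, by rw [S.qA_i0, S.t_u0]⟩
    rw [(hi.mul S (hB.mul S hA).1).2, S.zA_small quat_facts.2.2.2.2.1, one_mul]

/-- The centraliser of the reflection and the three transpositions. -/
def U1 : Subgroup G := S.Cw ⊓ centralizer ({S.t} : Set G)

theorem mem_U1 {g : G} : g ∈ S.U1 ↔ g ∈ S.Cw ∧ g * S.t = S.t * g := by
  rw [U1, mem_inf, mem_centralizer_singleton_iff]

/-- The form of the elements of `U1`. -/
theorem U1_rep {g : G} (hg : g ∈ S.U1) :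
    ∃ (A : SL(2, ZMod 3)) (δ : Fin 2) (h : S6), S.Good A ∧ h ∈ W8 ∧ g = S.zA A * S.t ^ δ.val * S.f h := by
  obtain ⟨T⟩ := S.exists_tcore
  obtain ⟨hgC, hgt⟩ := S.mem_U1.1 hg
  obtain ⟨n, hn, δ, rfl, hnt⟩ := S.Cw_t T hgC hgt
  obtain ⟨A, B, hA4, hB4, hAN, hBN, z, hz, hne⟩ := T.form n hn
  set a := S.qA A with ha
  set b := S.qA B with hb
  have htN : ∀ x ∈ T.N, S.t * x * S.t ∈ T.N := fun x hx => by
    have := T.normal _ S.t_Cw x hx
    rwa [S.t_inv] at this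
  have hzt : S.t * z = z * S.t := S.Wg_comm S.t_Cw hz
  have h1 : a * (S.t * b * S.t) = S.t * a * S.t * b := by
    have h2 : S.t * n * S.t = n := by
      calc S.t * n * S.t = n * (S.t * S.t) := by rw [← hnt, mul_assoc]
        _ = n := by rw [S.t_sq, mul_one]
    rw [hne] at h2
    refine mul_right_cancel (b := z) ?_
    conv_lhs => rw [← h2]
    calc S.t * (a * (S.t * b * S.t) * z) * S.t = S.t * a * S.t * b * S.t * (z * S.t) := by group
      _ = S.t * a * S.t * b * (S.t * S.t) * z := by rw [← hzt]; group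
      _ = _ := by rw [S.t_sq, mul_one]
  have hD : (a⁻¹ * b) = S.qA (A⁻¹ * B) := by rw [ha, S.qA_inv, hb, S.qA_mul]
  obtain ⟨w, hw, hwe⟩ : ∃ w ∈ S.Wg, S.t * (a⁻¹ * b) * S.t = a⁻¹ * b * w := by
    obtain ⟨w₁, hw₁, e₁⟩ := T.comm (a⁻¹) (inv_mem hAN) _ (htN _ hBN)
    have hw₁c : ∀ {x : G}, x ∈ S.Cw → x * w₁ = w₁ * x := fun hx => S.Wg_comm hx hw₁
    obtain ⟨w₂, hw₂, e₂⟩ := T.comm (S.t * a⁻¹ * S.t) (htN _ (inv_mem hAN)) (S.t * b * S.t) (htN _ hBN)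
    have h3 : a⁻¹ * (S.t * a * S.t) = S.t * b * S.t * b⁻¹ := by
      calc a⁻¹ * (S.t * a * S.t) = a⁻¹ * (S.t * a * S.t * b) * b⁻¹ := by group
        _ = _ := by rw [← h1]; group
    have h4 : S.t * a⁻¹ * S.t = (S.t * a * S.t)⁻¹ := by
      rw [mul_inv_rev, mul_inv_rev, S.t_inv, mul_assoc]
    obtain ⟨w₃, hw₃, e₃⟩ := T.comm (S.t * b * S.t) (htN _ hBN) (b⁻¹) (inv_mem hBN)
    obtain ⟨w₄, hw₄, e₄⟩ := T.comm (a⁻¹) (inv_mem hAN) b hBN
    -- the image of the product of `a⁻¹` and `b`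
    have e5 : S.t * (a⁻¹ * b) * S.t = (S.t * a⁻¹ * S.t) * (S.t * b * S.t) := by
      calc _ = S.t * a⁻¹ * (S.t * S.t) * b * S.t := by rw [S.t_sq]; group
        _ = _ := by group
    have e6 : S.t * a⁻¹ * S.t = b * (S.t * b * S.t)⁻¹ * a⁻¹ := by
      rw [h4]
      calc (S.t * a * S.t)⁻¹ = (a⁻¹ * (S.t * a * S.t))⁻¹ * a⁻¹ := by group
        _ = _ := by rw [h3]; group
    refine ⟨(a⁻¹ * b)⁻¹ * (S.t * (a⁻¹ * b) * S.t), ?_, (mul_inv_cancel_left _ _).symm⟩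
    rw [e5, e6]
    have e7 : b * (S.t * b * S.t)⁻¹ * a⁻¹ * (S.t * b * S.t) = b * a⁻¹ * w₁ := by
      calc _ = b * ((S.t * b * S.t)⁻¹ * (a⁻¹ * (S.t * b * S.t))) := by group
        _ = _ := by rw [e₁]; group
    rw [e7]
    have e8 : b * a⁻¹ = a⁻¹ * b * w₄⁻¹ := by rw [e₄]; group
    rw [e8, mul_inv_rev]
    rw [show b⁻¹ * a⁻¹⁻¹ * (a⁻¹ * b * w₄⁻¹ * w₁) = w₄⁻¹ * w₁ by group]
    exact mul_mem (inv_mem hw₄) hw₁
  rw [hD] at hwe
  have h4' : (A⁻¹ * B) ^ 4 = 1 := quat_sign.1 _ _ (quat_sign.2.1 A hA4) hB4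
  have hsq := S.t_qA h4' hw hwe
  have hab : ∃ c ∈ S.Wg, S.t * b * S.t = S.t * a * S.t * c := by
    refine ⟨S.qA (A⁻¹ * B), ?_, ?_⟩
    · rcases S.qA_small hsq with e | e <;> rw [e]
      exacts [one_mem _, S.u0_Wg]
    · have hm : S.t * S.qA (A⁻¹ * B) * S.t = S.qA (A⁻¹ * B) := by
        rcases S.qA_small hsq with e | e <;> rw [e]
        · rw [mul_one, S.t_sq]
        · exact S.t_u0
      rw [← hm]
      calc S.t * b * S.t = S.t * (a * (a⁻¹ * b)) * S.t := by rw [mul_inv_cancel_left]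
        _ = S.t * a * (S.t * S.t) * (a⁻¹ * b) * S.t := by rw [S.t_sq]; group
        _ = _ := by rw [hD]; group
  obtain ⟨c, hc, hbc⟩ := hab
  have hAg : S.Good A := by
    refine ⟨hA4, T.le hAN, ?_⟩
    show a * (S.t * a * S.t) = S.t * a * S.t * a
    have hcc : Commute a c := S.Wg_comm (T.le hAN) hc
    have h5 := h1
    have hbb : b = a * c := by
      have hct : S.t * c * S.t = c := by rw [← S.Wg_comm S.t_Cw hc |>.symm, mul_assoc, S.t_sq, mul_one]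
      calc b = (S.t * S.t) * b * (S.t * S.t) := by rw [S.t_sq, one_mul, mul_one]
        _ = S.t * (S.t * b * S.t) * S.t := by group
        _ = S.t * S.t * a * (S.t * c * S.t) := by rw [hbc]; group
        _ = _ := by rw [S.t_sq, one_mul, hct]
    rw [hbc, hbb] at h5
    exact mul_right_cancel (b := c) (by simpa [mul_assoc] using h5)
  obtain ⟨h', hh', hfc⟩ := mul_mem hc hz
  refine ⟨A, δ, h', hAg, hh', ?_⟩
  rw [hne, hbc, hfc, zA, mul_assoc (a * (S.t * a * S.t)) (S.t ^ δ.val),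
    S.Wg_comm (pow_mem S.t_Cw _) (mul_mem hc hz)]
  group

theorem U1_comm {g g' : G} (hg : g ∈ S.U1) (hg' : g' ∈ S.U1) : g * g' = g' * g := by
  obtain ⟨A, δ, h, hA, hh, rfl⟩ := S.U1_rep hg
  obtain ⟨A', δ', h', hA', hh', rfl⟩ := S.U1_rep hg'
  have hw : ∀ {h}, h ∈ W8 → ∀ {x : G}, x ∈ S.Cw → Commute x (S.f h) := fun hh _ hx => S.Wg_comm hx ⟨_, hh, rfl⟩
  have c1 := Good.comm S hA hA'
  have c2 : ∀ {A}, S.Good A → ∀ k : Fin 2, Commute (S.zA A) (S.t ^ k.val) := fun hA k =>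
    (show Commute _ _ from S.zA_t hA).pow_right _
  have m : ∀ {A}, S.Good A → ∀ k : Fin 2, S.zA A * S.t ^ k.val ∈ S.Cw := fun hA k =>
    mul_mem (S.zA_Cw hA) (pow_mem S.t_Cw _)
  have c3 : Commute (S.zA A * S.t ^ δ.val) (S.zA A' * S.t ^ δ'.val) :=
    (c1.mul_right (c2 hA δ')).mul_left ((c2 hA' δ).symm.mul_right ((Commute.refl S.t).pow_pow _ _))
  exact ((c3.mul_right (hw hh' (m hA δ))).mul_left
    ((hw hh (m hA' δ')).symm.mul_right (hw hh' (S.Wg_le ⟨h, hh, rfl⟩)))).eq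

theorem U1_sq {g : G} (hg : g ∈ S.U1) : g * g = 1 := by
  obtain ⟨A, δ, h, hA, hh, rfl⟩ := S.U1_rep hg
  have c : Commute (S.zA A * S.t ^ δ.val) (S.f h) :=
    S.Wg_comm (mul_mem (S.zA_Cw hA) (pow_mem S.t_Cw _)) ⟨_, hh, rfl⟩
  have c2 : Commute (S.zA A) (S.t ^ δ.val) := (show Commute _ _ from S.zA_t hA).pow_right _
  rw [← pow_two, c.mul_pow, c2.mul_pow, pow_two, pow_two, pow_two, ← (hA.mul S hA).2,
    ← (Commute.refl S.t).mul_pow, S.t_sq, one_pow, mul_one, ← map_mul, (tr_facts.1 h hh).1, map_one, mul_one]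
  exact S.zA_small (quat_sign.2.2.2.2 A hA.1)

theorem f_U1 {h : S6} (hh : h ∈ W8) : S.f h ∈ S.U1 := S.mem_U1.2 ⟨S.Wg_le ⟨h, hh, rfl⟩, S.f_t h⟩

theorem t_U1 : S.t ∈ S.U1 := S.mem_U1.2 ⟨S.t_Cw, rfl⟩

theorem v_U1 {g : G} (hg : g ∈ S.U1) : S.ι (0, 1, 1) * g * (S.ι (0, 1, 1))⁻¹ ∈ S.U1 := by
  obtain ⟨h1, h2⟩ := S.mem_U1.1 hg
  refine S.mem_U1.2 ⟨S.v_Cw h1, ?_⟩
  have hvt : Commute (S.ι (0, 1, 1)) S.t := (S.t_fix _).2 rfl
  exact ((hvt.mul_left h2).mul_left hvt.inv_left).eq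

/-- An equation between two forms. -/
theorem U1_split {A : SL(2, ZMod 3)} (hA : S.Good A) {δ : Fin 2} {h : S6} (hh : h ∈ W8)
    (e : S.zA A * S.t ^ δ.val * S.f h = 1) : A * A = 1 ∧ δ = 0 ∧ h = 1 := by
  obtain ⟨δ, hδ⟩ := δ
  interval_cases δ
  · rw [pow_zero, mul_one] at e
    have hA2 : A * A = 1 := by
      have h4 := quat_sign.2.1 A hA.1
      have := S.t_qA (A := A) h4 (z := (S.f h)⁻¹) (inv_mem ⟨h, hh, rfl⟩) (by
        rw [← S.qA_inv, eq_inv_mul_iff_mul_eq, ← mul_eq_one_iff_eq_inv]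
        exact e)
      rwa [← mul_inv_rev, inv_eq_one] at this
    rw [S.zA_small hA2, one_mul] at e
    exact ⟨hA2, rfl, S.f_inj (e.trans (map_one _).symm)⟩
  · exfalso
    rw [pow_one] at e
    have h1 : S.zA A * S.f h = S.t := by
      calc S.zA A * S.f h = (S.zA A * S.t * S.f h) * S.t := by
            rw [mul_assoc (S.zA A * S.t), S.f_t, ← mul_assoc, mul_assoc (S.zA A) S.t S.t, S.t_sq, mul_one]
        _ = S.t := by rw [e, one_mul]
    have hc : Commute (S.qA A) (S.f h) := S.Wg_comm hA.2.1 ⟨h, hh, rfl⟩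
    have hf : (S.f h)⁻¹ = S.f h := inv_eq_of_mul_eq_one_right (by rw [← map_mul, (tr_facts.1 h hh).1, map_one])
    have h2 : S.t = (S.qA A)⁻¹ * S.f h * (S.qA A)⁻¹ := by
      rw [zA] at h1
      have h3 : S.qA A * S.t * S.qA A = S.f h := by
        calc S.qA A * S.t * S.qA A = S.qA A * (S.t * S.qA A * S.t) * S.f h * (S.f h)⁻¹ * S.t⁻¹ := by group
          _ = S.t * (S.f h * S.t) := by rw [h1, hf, S.t_inv, mul_assoc]
          _ = _ := by rw [S.f_t, ← mul_assoc, S.t_sq, one_mul]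
      rw [← h3]; group
    have hA2 : A * A = 1 ∨ S.qA A * S.qA A = S.σ sW := by
      by_cases h' : A * A = 1
      · exact Or.inl h'
      · exact Or.inr (by rw [S.qA_mul, (quat_facts.2.1 A hA.1 h').1, S.qA_i0])
    rcases hA2 with h' | h'
    · rw [S.zA_small h', one_mul] at h1
      exact S.f_ne_t h h1
    · refine S.f_ne_t (h * bw⁻¹) (h2.trans ?_).symm
      rw [map_mul, map_inv, S.f_w, ← h', hc.inv_left.eq, mul_assoc, ← mul_inv_rev]

end Sx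

end Cfsg.Lib.SpCentre
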