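import Cfsg.Agent.LocalThree.SpCentre.SixOrbit

/-!
The centraliser of the three coordinate reflections is elementary abelian.
-/

set_option autoImplicit false
set_option maxRecDepth 8000
set_option linter.unusedSectionVars false
set_option linter.style.haveILetI false
set_option synthInstance.maxSize 2000
set_option maxHeartbeats 1000000

namespace Cfsg.Lib.SpCentre

open Subgroup Equiv Cfsg.Lib.HeisSL Cfsg.Lib.AmalgamSpFour Cfsg.Lib.SymNineLocal
open scoped MatrixGroups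

universe u

/-- the third sign change -/
def e3W : Op := dg (1, 1, -1)

theorem z_ops : e3W ∈ M48 ∧ cmp sW (cmp (dg (1, -1, 1)) sW) = e3W ∧
    cmp cW (cmp sW (cmp cW cW)) ∈ M48 ∧ (cmp (cmp cW (cmp sW (cmp cW cW))) sW = cW ∨
      cmp (cmp cW (cmp sW (cmp cW cW))) sW = cmp cW cW) ∧
    cmp (cmp cW (cmp sW (cmp cW cW))) (cmp cW (cmp sW (cmp cW cW))) = idW ∧
    cmp cW cW ∈ M48 ∧ cmp cW (dg (1, -1, 1)) ≠ cmp (dg (1, -1, 1)) cW ∧
    cmp (cmp cW cW) (dg (1, -1, 1)) ≠ cmp (dg (1, -1, 1)) (cmp cW cW) ∧ app negW vZ = -vZ ∧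
    cmp e1W (cmp (dg (1, -1, 1)) e3W) = negW ∧ cmp (cmp cW cW) (cmp cW cW) = cW := by decide +kernel

theorem eps_perm_b : (M48.all fun x => eps.all fun e => eps.any fun e' => decide (cmp e x = cmp x e')) = true := by
  decide +kernel

theorem fix_line_b : (M48.all fun x => allV.all fun v => allV.all fun u => !decide (cmp x x = idW) ||
    !decide (app x vZ = -vZ) || !decide (wt v = 2) || !decide (csum v = 0) || !decide (app x v = v) ||
    !decide (app x u = u) || decide (u = 0) || decide (u = v) || decide (u = -v)) = true := by decide +kernel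

theorem stab_two_b : (M48.all fun x => allV.all fun v => !decide (app x v = v) || !decide (wt v = 2) ||
    decide (cmp x x = idW)) = true := by decide +kernel

theorem s25 : swap (2 : Fin 6) 5 * swap 0 1 = swap 0 1 * swap 2 5 ∧ swap (2 : Fin 6) 5 * swap 3 4 = swap 3 4 * swap 2 5 := by
  decide +kernel

theorem p13_swap : p13 * swap (0 : Fin 6) 1 * p13 = tr 0 ∧ p13 * swap (3 : Fin 6) 4 * p13 = tr 1 ∧
    swap (2 : Fin 6) 5 * (swap 2 5) = 1 ∧ p13 * tr 2 * p13 = swap 2 5 := by decide +kernel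

namespace Sx

variable {G : Type u} [Group G] [Finite G] (S : Sx G)

/-- the cyclic permutation of the coordinates -/
noncomputable def γ : G := S.σ cW

/-- the centraliser of the three coordinate reflections -/
def Za : Subgroup G := centralizer ({S.t, S.f (swap 0 1), S.f (swap 3 4)} : Set G)

theorem mem_Za {g : G} : g ∈ S.Za ↔
    g * S.t = S.t * g ∧ g * S.f (swap 0 1) = S.f (swap 0 1) * g ∧ g * S.f (swap 3 4) = S.f (swap 3 4) * g := by
  rw [Za, mem_centralizer_iff]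
  refine ⟨fun h => ⟨(h _ (Or.inl rfl)).symm, (h _ (Or.inr (Or.inl rfl))).symm, (h _ (Or.inr (Or.inr rfl))).symm⟩,
    fun h z hz => ?_⟩
  rcases hz with rfl | rfl | rfl
  exacts [h.1.symm, h.2.1.symm, h.2.2.symm]

theorem f_swap34' : S.f (swap 3 4) = S.σ e3W := by rw [S.f_swap34, z_ops.2.1]

theorem mem_Za_eps {g : G} : g ∈ S.Za ↔ ∀ e ∈ eps, g * S.σ e = S.σ e * g := by
  rw [S.mem_Za, S.f_u, S.f_swap34']
  simp only [eps, List.mem_cons, List.not_mem_nil, or_false, forall_eq_or_imp, forall_eq]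
  exact Iff.rfl

theorem Za_conj {x : Op} (hx : x ∈ M48) {g : G} (hg : g ∈ S.Za) : S.σ x * g * (S.σ x)⁻¹ ∈ S.Za := by
  rw [S.mem_Za_eps] at hg ⊢
  intro e he
  have hb := List.all_eq_true.1 (List.all_eq_true.1 eps_perm_b x hx) e he
  simp only [List.any_eq_true, decide_eq_true_eq] at hb
  obtain ⟨e', he', hee⟩ := hb
  have h1 : S.σ e * S.σ x = S.σ x * S.σ e' := by
    rw [S.σ_mul (eps_facts.1 e he).1 hx, S.σ_mul hx (eps_facts.1 e' he').1, hee]
  have h2 : S.σ e' * (S.σ x)⁻¹ = (S.σ x)⁻¹ * S.σ e := by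
    rw [eq_inv_mul_iff_mul_eq, ← mul_assoc, ← h1, mul_inv_cancel_right]
  calc S.σ x * g * (S.σ x)⁻¹ * S.σ e = S.σ x * g * ((S.σ x)⁻¹ * S.σ e) := by group
    _ = S.σ x * (g * S.σ e') * (S.σ x)⁻¹ := by rw [← h2]; group
    _ = S.σ x * S.σ e' * g * (S.σ x)⁻¹ := by rw [hg e' he']; group
    _ = _ := by rw [← h1]; group

theorem u_eq : S.σ uW = S.f (swap 0 1) * S.f (swap 3 4) := by rw [← map_mul, S.f_u2]

theorem odd_fix {k : G} (hk : k ∈ S.Za) {n : ℕ} (hn : Odd n) (hkn : k ^ n = 1)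
    (h0 : k * S.σ sW = S.σ sW * k) : k = 1 := by
  obtain ⟨h1, h2, h3⟩ := S.mem_Za.1 hk
  refine S.odd_B h1 h0 (Or.inl ?_) hn hkn
  rw [S.u_eq]
  exact ((show Commute k _ from h2).mul_right h3).eq

/-- The odd order elements of the centraliser of the three reflections are trivial. -/
theorem Za_odd (K : Subgroup G) (hK : ∀ k, k ∈ K ↔ k ∈ S.Za ∧ ∃ n, Odd n ∧ k ^ n = 1) {k : G} (hk : k ∈ K) :
    k = 1 := by
  obtain ⟨hc, hw, hγ, hs⟩ : cW ∈ M48 ∧ negW ∈ M48 ∧ S.γ = S.σ cW ∧ sW ∈ M48 :=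
    ⟨class_ops.2.2.2.2.1, negW_facts.1, rfl, class_ops.2.2.2.2.2.1⟩
  have hKn : ∀ {x : Op}, x ∈ M48 → ∀ z ∈ K, S.σ x * z * (S.σ x)⁻¹ ∈ K := fun {x} hx z hz => by
    obtain ⟨h1, n, hn, hzn⟩ := (hK z).1 hz
    exact (hK _).2 ⟨S.Za_conj hx h1, n, hn, by rw [conj_pow, hzn, mul_one, mul_inv_cancel]⟩
  set x' := cmp cW (cmp sW (cmp cW cW)) with hx'
  have hinv : ∀ z ∈ K, S.σ sW * z * (S.σ sW)⁻¹ = z⁻¹ := fun z hz =>
    invert_of_fixed (hKn hs) (fun y _ => by rw [S.σ_sq hs op_frame.2.2.2.1, one_mul, mul_one])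
      (fun y hy e => by
        obtain ⟨h1, n, hn, hyn⟩ := (hK y).1 hy
        exact S.odd_fix h1 hn hyn e.symm) hz
  have hσx' : S.σ x' = S.γ * S.σ sW * S.γ⁻¹ := by
    rw [hγ, S.σ_inv hc z_ops.2.2.2.2.2.1 class_ops.2.2.2.2.2.2.2.2.2.1, mul_assoc, S.σ_mul hs z_ops.2.2.2.2.2.1,
      S.σ_mul hc (S.cmp_mem hs z_ops.2.2.2.2.2.1)]
  have hinv' : ∀ z ∈ K, S.σ x' * z * (S.σ x')⁻¹ = z⁻¹ := fun z hz => by
    obtain ⟨z', hz', rfl⟩ : ∃ z' ∈ K, S.γ * z' * S.γ⁻¹ = z := by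
      refine ⟨_, hKn z_ops.2.2.2.2.2.1 z hz, ?_⟩
      rw [hγ, ← S.σ_inv hc z_ops.2.2.2.2.2.1 class_ops.2.2.2.2.2.2.2.2.2.1]; group
    calc S.σ x' * (S.γ * z' * S.γ⁻¹) * (S.σ x')⁻¹ = S.γ * (S.σ sW * z' * (S.σ sW)⁻¹) * S.γ⁻¹ := by rw [hσx']; group
      _ = _ := by rw [hinv z' hz']; group
  -- the elements commute with the cycle
  have hγc : ∀ z ∈ K, Commute z S.γ := by
    intro z hz
    have e1 : S.σ (cmp x' sW) * z * (S.σ (cmp x' sW))⁻¹ = z := by
      rw [← S.σ_mul z_ops.2.2.1 hs]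
      calc S.σ x' * S.σ sW * z * (S.σ x' * S.σ sW)⁻¹ = S.σ x' * (S.σ sW * z * (S.σ sW)⁻¹) * (S.σ x')⁻¹ := by group
        _ = z := by rw [hinv z hz, hinv' _ (inv_mem hz), inv_inv]
    have e2 : Commute (S.σ (cmp x' sW)) z := mul_inv_eq_iff_eq_mul.1 e1
    rcases z_ops.2.2.2.1 with e | e
    · rw [hx', e] at e2; exact e2.symm
    · rw [hx', e] at e2
      have e3 : Commute (S.σ (cmp cW cW) * S.σ (cmp cW cW)) z := e2.mul_left e2
      rw [S.σ_mul z_ops.2.2.2.2.2.1 z_ops.2.2.2.2.2.1, z_ops.2.2.2.2.2.2.2.2.2.2] at e3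
      exact e3.symm
  obtain ⟨hkZ, n, hn, hkn⟩ := (hK k).1 hk
  obtain ⟨g, v, hga, hgv, hwt, hcs⟩ := S.cycle_two
  set k' := g * k * g⁻¹ with hk'
  have hk'v : k' * S.ι v = S.ι v * k' := by
    rw [← hgv, hk']
    calc g * k * g⁻¹ * (g * S.σ cW * g⁻¹) = g * (k * S.γ) * g⁻¹ := by rw [hγ]; group
      _ = _ := by rw [(hγc k hk).eq, hγ]; group
  obtain ⟨x, hx, hkx⟩ := S.toLoc.exists_acts (S.cent_two hwt hk'v)
  have hb := List.all_eq_true.1 (List.all_eq_true.1 stab_two_b x hx) v (allV_mem v)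
  simp only [(hkx.fix_iff v).1 hk'v, hwt, decide_true, Bool.not_true, Bool.false_or, decide_eq_true_eq] at hb
  have hk2 : (k' * k') ^ 3 = 1 := by
    obtain ⟨u, hu⟩ := (hb ▸ hkx.mul hkx : S.Acts (k' * k') idW).mem_J
    rw [← hu, pow_three]; exact S.ι_cube u
  have hk'n : k' ^ n = 1 := by rw [hk', conj_pow, hkn, mul_one, mul_inv_cancel]
  have hk3 : k' ^ 3 = 1 := by
    refine odd_dvd hn (by rw [← pow_mul, mul_comm, pow_mul, hk'n, one_pow]) (k := 1) ?_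
    rw [pow_one, ← pow_mul, mul_comm, pow_mul, pow_two, hk2]
  obtain ⟨u, hu⟩ : ∃ u, k' = S.ι u := by
    obtain ⟨u, hu⟩ := (hb ▸ hkx.mul hkx : S.Acts (k' * k') idW).mem_J
    refine ⟨u + u, ?_⟩
    rw [S.ι_add, show S.toFull.ι u = k' * k' from hu]
    calc k' = k' * k' ^ 3 := by rw [hk3, mul_one]
      _ = _ := by simp [pow_succ, mul_assoc]
  have hwk : k * S.σ negW = S.σ negW * k := by
    obtain ⟨h1, h2, h3⟩ := S.mem_Za.1 hkZ
    rw [← z_ops.2.2.2.2.2.2.2.2.2.1, ← S.σ_mul e1W_mem.1 (S.cmp_mem op_frame.1 z_ops.1), ← S.σ_mul op_frame.1 z_ops.1,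
      ← S.f_u, ← S.f_swap34']
    exact ((show Commute k S.t from h1).mul_right ((show Commute k _ from h2).mul_right h3)).eq
  set j := g * S.σ negW * g⁻¹ with hj
  have hjv : j * S.ι v = S.ι v * j := by
    rw [← hgv, hj]
    calc g * S.σ negW * g⁻¹ * (g * S.σ cW * g⁻¹) = g * (S.σ negW * S.σ cW) * g⁻¹ := by group
      _ = _ := by rw [S.σ_commute hw hc class_ops.2.2.2.2.2.2.2.2.2.2.2.2.2.2.1]; group
  have hju : j * S.ι u = S.ι u * j := by
    rw [← hu, hj, hk']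
    calc g * S.σ negW * g⁻¹ * (g * k * g⁻¹) = g * (S.σ negW * k) * g⁻¹ := by group
      _ = _ := by rw [← hwk]; group
  obtain ⟨y, hy, hjy⟩ := S.toLoc.exists_acts (S.cent_two hwt hjv)
  have hj2 : j * j = 1 := by
    rw [hj]
    calc _ = g * (S.σ negW * S.σ negW) * g⁻¹ := by group
      _ = 1 := by rw [S.σ_sq hw negW_facts.2.2.1]; group
  have hy2 : cmp y y = idW := Data.Acts.unique (hjy.mul hjy) (by rw [hj2]; exact Data.acts_one)
  have hya : app y vZ = -vZ := S.ι_inj (by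
    rw [← hjy vZ, S.ι_neg, hj]
    have hgi : Commute g⁻¹ (S.ι vZ) := (show Commute g (S.ι vZ) from hga).inv_left
    calc g * S.σ negW * g⁻¹ * S.ι vZ * (g * S.σ negW * g⁻¹)⁻¹
        = g * (S.σ negW * (g⁻¹ * S.ι vZ * g) * (S.σ negW)⁻¹) * g⁻¹ := by group
      _ = g * (S.ι vZ)⁻¹ * g⁻¹ := by rw [hgi.eq, inv_mul_cancel_right, S.σ_acts hw, z_ops.2.2.2.2.2.2.2.2.1, S.ι_neg]
      _ = _ := by rw [(show Commute g (S.ι vZ) from hga).inv_right.eq, mul_inv_cancel_right])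
  have hb2 := List.all_eq_true.1 (List.all_eq_true.1 (List.all_eq_true.1 fix_line_b y hy) v (allV_mem v)) u (allV_mem u)
  simp only [hy2, hya, hwt, hcs, (hjy.fix_iff v).1 hjv, (hjy.fix_iff u).1 hju, decide_true, Bool.not_true,
    Bool.false_or, Bool.or_eq_true, decide_eq_true_eq, or_assoc] at hb2
  have hkg : k = g⁻¹ * S.ι u * g := by rw [← hu, hk']; group
  have hk1 : k = 1 ∨ k = S.γ ∨ k = S.γ⁻¹ := by
    rcases hb2 with rfl | rfl | rfl
    · left; rw [hkg, S.ι_zero]; group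
    · right; left; rw [hkg, ← hgv, hγ]; group
    · right; right; rw [hkg, S.ι_neg, ← hgv, hγ]; group
  obtain ⟨-, h2, -⟩ := S.mem_Za.1 hkZ
  rw [S.f_u] at h2
  rcases hk1 with e | e | e
  · exact e
  · rw [e, hγ, S.σ_mul hc op_frame.1, S.σ_mul op_frame.1 hc] at h2
    exact absurd (S.σ_inj (S.cmp_mem hc op_frame.1) (S.cmp_mem op_frame.1 hc) h2) z_ops.2.2.2.2.2.2.1
  · rw [e, hγ, S.σ_inv hc z_ops.2.2.2.2.2.1 class_ops.2.2.2.2.2.2.2.2.2.1, S.σ_mul z_ops.2.2.2.2.2.1 op_frame.1,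
      S.σ_mul op_frame.1 z_ops.2.2.2.2.2.1] at h2
    exact absurd (S.σ_inj (S.cmp_mem z_ops.2.2.2.2.2.1 op_frame.1) (S.cmp_mem op_frame.1 z_ops.2.2.2.2.2.1) h2)
      z_ops.2.2.2.2.2.2.2.1

/-- The centraliser of the three reflections consists of conjugates of elements of `U1`. -/
theorem Za_U1 {g : G} (hg : g ∈ S.Za) : S.f p13 * g * S.f p13 ∈ S.U1 := by
  have hp : S.f p13 * S.f p13 = 1 := by rw [← map_mul, p13_facts.1, map_one]
  have hpc : ∀ {h h' : S6}, p13 * h' * p13 = h → ∀ {z : G}, z * S.f h = S.f h * z →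
      (S.f p13 * z * S.f p13) * S.f h' = S.f h' * (S.f p13 * z * S.f p13) := by
    intro h h' e z hz
    have e1 : S.f h' = S.f p13 * S.f h * S.f p13 := by
      rw [← map_mul, ← map_mul, ← e]
      congr 1
      rw [← mul_assoc, ← mul_assoc, p13_facts.1, one_mul, mul_assoc, p13_facts.1, mul_one]
    rw [e1]
    calc S.f p13 * z * S.f p13 * (S.f p13 * S.f h * S.f p13) = S.f p13 * z * (S.f p13 * S.f p13) * S.f h * S.f p13 := by group
      _ = S.f p13 * (z * S.f h) * S.f p13 := by rw [hp, mul_one]; group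
      _ = S.f p13 * S.f h * (S.f p13 * S.f p13) * z * S.f p13 := by rw [hz, hp, mul_one]; group
      _ = _ := by group
  have hpi : (S.f p13)⁻¹ = S.f p13 := inv_eq_of_mul_eq_one_right hp
  have ht : ∀ {z : G}, z * S.t = S.t * z → S.f p13 * z * S.f p13 * S.t = S.t * (S.f p13 * z * S.f p13) :=
    fun {z} hz => (((show Commute (S.f p13) S.t from S.f_t _).mul_left hz).mul_left (S.f_t _)).eq
  have hto : ∀ z ∈ S.Za, S.f p13 * z * S.f p13 ∈ S.Z0 := fun z hz => by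
    obtain ⟨h1, h2, h3⟩ := S.mem_Za.1 hz
    exact S.mem_Z0.2 ⟨ht h1, hpc p13_facts.2.1 h2, hpc p13_facts.2.2.1 h3⟩
  have hfrom : ∀ z ∈ S.Z0, S.f p13 * z * S.f p13 ∈ S.Za := fun z hz => by
    obtain ⟨h1, h2, h3⟩ := S.mem_Z0.1 hz
    exact S.mem_Za.2 ⟨ht h1, hpc p13_swap.1 h2, hpc p13_swap.2.1 h3⟩
  obtain ⟨K, hK, hKU⟩ := S.exists_complement
  obtain ⟨k, hk, u, hu, e⟩ := hKU _ (hto g hg)
  suffices hk1 : k = 1 by rwa [e, hk1, one_mul]
  obtain ⟨K', hK'⟩ : ∃ K' : Subgroup G, K' = K.map (MulAut.conj (S.f p13)).toMonoidHom := ⟨_, rfl⟩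
  have h := S.Za_odd K' (fun z => by
    rw [hK', Subgroup.mem_map]
    constructor
    · rintro ⟨y, hy, rfl⟩
      obtain ⟨hy1, n, hn, hyn⟩ := (hK y).1 hy
      rw [MulEquiv.coe_toMonoidHom, MulAut.conj_apply, hpi]
      refine ⟨hfrom y hy1, n, hn, ?_⟩
      nth_rw 2 [← hpi]
      rw [conj_pow, hyn, mul_one, mul_inv_cancel]
    · rintro ⟨hz, n, hn, hzn⟩
      refine ⟨S.f p13 * z * S.f p13, (hK _).2 ⟨hto z hz, n, hn, ?_⟩, ?_⟩
      · nth_rw 2 [← hpi]
        rw [conj_pow, hzn, mul_one, mul_inv_cancel]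
      · rw [MulEquiv.coe_toMonoidHom, MulAut.conj_apply, hpi]
        calc S.f p13 * (S.f p13 * z * S.f p13) * S.f p13 = (S.f p13 * S.f p13) * z * (S.f p13 * S.f p13) := by group
          _ = z := by rw [hp, one_mul, mul_one])
    (k := MulAut.conj (S.f p13) k) (hK' ▸ mem_map_of_mem _ hk)
  exact (MulAut.conj (S.f p13)).injective (h.trans (map_one _).symm)

theorem Za_comm {g g' : G} (hg : g ∈ S.Za) (hg' : g' ∈ S.Za) : g * g' = g' * g := by
  have hp : S.f p13 * S.f p13 = 1 := by rw [← map_mul, p13_facts.1, map_one]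
  have h := S.U1_comm (S.Za_U1 hg) (S.Za_U1 hg')
  have e : ∀ a b : G, S.f p13 * a * S.f p13 * (S.f p13 * b * S.f p13) = S.f p13 * (a * b) * S.f p13 := fun a b => by
    calc _ = S.f p13 * a * (S.f p13 * S.f p13) * b * S.f p13 := by group
      _ = _ := by rw [hp, mul_one]; group
  rw [e, e] at h
  exact mul_left_cancel (mul_right_cancel h)

theorem Za_sq {g : G} (hg : g ∈ S.Za) : g * g = 1 := by
  have hp : S.f p13 * S.f p13 = 1 := by rw [← map_mul, p13_facts.1, map_one]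
  have h := S.U1_sq (S.Za_U1 hg)
  rw [show S.f p13 * g * S.f p13 * (S.f p13 * g * S.f p13) = S.f p13 * g * (S.f p13 * S.f p13) * g * S.f p13 by group,
    hp, mul_one, ← hp, mul_assoc (S.f p13) g g] at h
  exact mul_left_cancel (a := S.f p13) (by rw [mul_one]; exact (mul_right_cancel (h.trans rfl)))

/-- the three further reflections -/
noncomputable def s (i : Fin 3) : G := S.γ ^ i.val * S.f (swap 2 5) * (S.γ ^ i.val)⁻¹

theorem s_Za (i : Fin 3) : S.s i ∈ S.Za := by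
  have h0 : S.f (swap 2 5) ∈ S.Za := S.mem_Za.2
    ⟨S.f_t _, by rw [← map_mul, ← map_mul, s25.1], by rw [← map_mul, ← map_mul, s25.2]⟩
  have hγ : ∀ z ∈ S.Za, S.γ * z * S.γ⁻¹ ∈ S.Za := fun z hz => S.Za_conj class_ops.2.2.2.2.1 hz
  fin_cases i <;> simp only [s]
  · simpa using h0
  · simpa using hγ _ h0
  · have := hγ _ (hγ _ h0)
    convert this using 1
    simp [pow_two, mul_assoc]

theorem s_comm (i j : Fin 3) : S.s i * S.s j = S.s j * S.s i := S.Za_comm (S.s_Za i) (S.s_Za j)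

end Sx

end Cfsg.Lib.SpCentre
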