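import Cfsg.Agent.LocalThree.SpCentre.Cases
import Cfsg.Agent.LocalThree.RankThree.PointTwo

/-!
When the central vector has two images, the centralisers of the other vectors normalise the abelian subgroup.
-/

set_option autoImplicit false
set_option maxRecDepth 8000
set_option linter.unusedSectionVars false
set_option synthInstance.maxSize 2000

namespace Cfsg.Lib.SpCentre

open Subgroup Cfsg.Lib.HeisSL Cfsg.Lib.AmalgamSpFour

universe u

/-- the twelve maps -/
def pm12 : List Op := perms ++ perms.map fun w => (-w.1, -w.2.1, -w.2.2)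

theorem pm12_image_b : (M48.all fun w => !(decide (app w vZ = vZ) || decide (app w vZ = -vZ)) || pm12.elem w) = true := by
  decide +kernel

/-- the scalars -/
def z3 : List (ZMod 3) := [0, 1, 2]

/-- all vectors -/
def allV : List V := z3.flatMap fun i => z3.flatMap fun j => z3.map fun k => (i, j, k)

theorem allV_mem : ∀ v : V, v ∈ allV := by decide +kernel

theorem z3_mem : ∀ k : ZMod 3, k ∈ z3 := by decide +kernel

/-- candidates for the basis of a quotient -/
def cand : List V :=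
  [(1, 0, 0), (0, 1, 0), (0, 0, 1), (1, 1, 0), (1, 0, 1), (0, 1, 1), (1, -1, 0), (1, 0, -1), (0, 1, -1)]

/-- the independence of two vectors modulo a third -/
def indepB (u a b : V) : Bool :=
  z3.all fun i => z3.all fun j => z3.all fun k => !decide (sm i a + sm j b = sm k u) || (i == 0 && j == 0)

/-- the shape of the stabiliser of a vector -/
def shapeB (u : V) : Bool :=
  pm12.any fun s => !decide (s = idW) && decide (app s u = u) &&
    (pm12.all fun w => !decide (app w u = u) || decide (w = idW) || decide (w = s)) &&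
    cand.any fun a => cand.any fun b => indepB u a b &&
      ((allV.all fun v => z3.any fun k => decide (app s v = -v + sm k u)) ||
        (decide (app s a = -a) && decide (app s b = b)))

theorem shape_all : (allV.all fun u => decide (u = 0) || decide (u = vZ) || decide (u = -vZ) || shapeB u) = true := by
  decide +kernel

theorem shape {u : V} (h0 : u ≠ 0) (h1 : u ≠ vZ) (h2 : u ≠ -vZ) :
    ∃ s, s ≠ idW ∧ app s u = u ∧ s ∈ pm12 ∧ (∀ w ∈ pm12, app w u = u → w = idW ∨ w = s) ∧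
      ∃ a b : V, (∀ i j k : ZMod 3, sm i a + sm j b = sm k u → i = 0 ∧ j = 0) ∧
        ((∀ v, ∃ k, app s v = -v + sm k u) ∨ (app s a = -a ∧ app s b = b)) := by
  have h := List.all_eq_true.1 shape_all u (allV_mem u)
  simp only [h0, h1, h2, decide_false, Bool.false_or, shapeB, List.any_eq_true, Bool.and_eq_true,
    Bool.not_eq_true', decide_eq_false_iff_not, decide_eq_true_eq, Bool.or_eq_true] at h
  obtain ⟨s, hs, ⟨⟨hs1, hsu⟩, hall⟩, a, -, b, -, hind, hcase⟩ := h
  refine ⟨s, hs1, hsu, hs, fun w hw hwu => ?_, a, b, fun i j k e => ?_, ?_⟩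
  · have := List.all_eq_true.1 hall w hw
    simpa [hwu] using this
  · have := List.all_eq_true.1 (List.all_eq_true.1 (List.all_eq_true.1 hind i (z3_mem i)) j (z3_mem j)) k (z3_mem k)
    simpa [e] using this
  · rcases hcase with h | h
    · refine Or.inl fun v => ?_
      obtain ⟨k, -, hk⟩ := List.any_eq_true.1 (List.all_eq_true.1 h v (allV_mem v))
      exact ⟨k, of_decide_eq_true hk⟩
    · exact Or.inr h

namespace Loc

variable {G : Type u} [Group G] [Finite G] (L : Loc G)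

theorem zpow_mem {u : V} {x : G} (h : x ∈ zpowers (L.ι u)) : ∃ k : ZMod 3, x = L.ι (sm k u) := by
  let U : Subgroup G :=
    { carrier := {x | ∃ k : ZMod 3, x = L.ι (sm k u)}
      one_mem' := ⟨0, by rw [show sm 0 u = 0 by simp [sm]]; exact L.ι_zero.symm⟩
      mul_mem' := by
        rintro _ _ ⟨i, rfl⟩ ⟨j, rfl⟩
        exact ⟨i + j, by rw [← L.ι_add]; congr 1; simp [sm, add_mul]⟩
      inv_mem' := by
        rintro _ ⟨i, rfl⟩
        exact ⟨-i, by rw [← L.ι_neg]; congr 1; simp [sm]⟩ }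
  exact (zpowers_le (H := U)).2 ⟨1, by congr 1; simp [sm]⟩ h

theorem sm_mem (u : V) (k : ZMod 3) : L.ι (sm k u) ∈ zpowers (L.ι u) := by
  rcases sm_cases' k u with ⟨-, e⟩ | ⟨-, e⟩ | ⟨-, e⟩ <;> rw [e]
  · rw [show L.ι 0 = 1 from L.ι_zero]; exact one_mem _
  · exact mem_zpowers _
  · rw [L.ι_add]; exact mul_mem (mem_zpowers _) (mem_zpowers _)

theorem same_acts {a b : G} {w : Op} (ha : L.Acts a w) (hb : L.Acts b w) : a⁻¹ * b ∈ L.J := by
  refine L.self fun v => ?_
  calc a⁻¹ * b * L.ι v = a⁻¹ * (b * L.ι v * b⁻¹) * b := by group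
    _ = a⁻¹ * (a * L.ι v * a⁻¹) * b := by rw [ha v, hb v]
    _ = L.ι v * (a⁻¹ * b) := by group

theorem ind_pm (h : ∀ w, L.Ind w → app w vZ = vZ ∨ app w vZ = -vZ) {w : Op} (hw : L.Ind w) : w ∈ pm12 := by
  have := List.all_eq_true.1 pm12_image_b w (L.ind_mem hw)
  rcases h w hw with e | e <;> simpa [e] using this

theorem two_point (h : ∀ w, L.Ind w → app w vZ = vZ ∨ app w vZ = -vZ) (hneg : ∀ w ∈ pm12, L.Ind w) {u : V}
    (h0 : u ≠ 0) (h1 : u ≠ vZ) (h2 : u ≠ -vZ) {g : G} (hg : g * L.ι u = L.ι u * g) :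
    g ∈ normalizer (L.J : Set G) := by
  classical
  obtain ⟨s, hs1, hsu, hspm, hstab, a, b, hind, hcase⟩ := shape h0 h1 h2
  obtain ⟨n, hn⟩ := hneg s hspm
  have hloc : ∀ x ∈ normalizer (L.J : Set G), x * L.ι u = L.ι u * x → x ∈ L.J ∨ n⁻¹ * x ∈ L.J := by
    intro x hx hxu
    obtain ⟨w, -, hw⟩ := L.exists_acts hx
    rcases hstab w (L.ind_pm h ⟨x, hw⟩) ((hw.fix_iff u).1 hxu) with rfl | rfl
    · exact Or.inl hw.mem_J
    · exact Or.inr (L.same_acts hn hw)
  have hnu : n * L.ι u = L.ι u * n := (hn.fix_iff u).2 hsu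
  obtain ⟨D⟩ := (L.ctx).exists_pointData (v := L.ι u) (L.mem_J u) (L.ι_ne_one h0) (fun x hx hxu hx3 => by
    obtain ⟨w, -, hw⟩ := L.exists_acts hx
    rcases hstab w (L.ind_pm h ⟨x, hw⟩) ((hw.fix_iff u).1 hxu) with rfl | rfl
    · exact hw.mem_J
    exfalso
    have h3 := L.cube_mem hw hx3
    rcases hstab _ (L.ind_pm h ⟨_, hn.mul hn⟩) (by rw [app_cmp, hsu, hsu]) with e2 | e2
    · rw [e2, (cmp_id _).1] at h3
      exact hs1 h3
    · rw [e2, e2] at h3
      exact hs1 h3)
  have hmemC : ∀ {x : G}, x * L.ι u = L.ι u * x → x ∈ centralizer ({L.ι u} : Set G) :=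
    fun h => mem_centralizer_singleton_iff.2 h
  let e : V → D.M := fun v => D.π ⟨L.ι v, hmemC (L.ι_comm v u)⟩
  have eP : ∀ v, e v ∈ (D.P : Subgroup D.M) := fun v => (D.memP _).2 (L.mem_J v)
  have eadd : ∀ v w, e (v + w) = e v * e w := fun v w => by
    show D.π _ = D.π _ * D.π _
    rw [← map_mul]; exact congrArg D.π (Subtype.ext (L.ι_add v w))
  have eone : ∀ v, e v = 1 ↔ ∃ k, v = sm k u := fun v => by
    refine (D.ker _).trans ⟨fun h => ?_, ?_⟩
    · obtain ⟨k, hk⟩ := L.zpow_mem h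
      exact ⟨k, L.ι_inj hk⟩
    · rintro ⟨k, rfl⟩; exact L.sm_mem u k
  have eneg : ∀ v, e (-v) = (e v)⁻¹ := fun v => by
    refine eq_inv_of_mul_eq_one_left ?_
    rw [← eadd, neg_add_cancel]
    exact (eone 0).2 ⟨0, by simp [sm]; rfl⟩
  obtain ⟨t, ht⟩ : ∃ t, t = D.π ⟨n, hmemC hnu⟩ := ⟨_, rfl⟩
  have etv : ∀ v, t * e v * t⁻¹ = e (app s v) := fun v => by
    rw [ht]
    show D.π _ * D.π _ * (D.π _)⁻¹ = D.π _
    rw [← map_inv, ← map_mul, ← map_mul]
    exact congrArg D.π (Subtype.ext (hn v))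
  have esurj : ∀ y ∈ (D.P : Subgroup D.M), ∃ v, e v = y := by
    intro y hy
    obtain ⟨⟨x, hx⟩, rfl⟩ := D.surj y
    obtain ⟨v, hv⟩ := (D.memP _).1 hy
    exact ⟨v, congrArg D.π (Subtype.ext hv)⟩
  have hnorm : ∀ y ∈ normalizer ((D.P : Subgroup D.M) : Set D.M),
      y ∈ (D.P : Subgroup D.M) ∨ t⁻¹ * y ∈ (D.P : Subgroup D.M) := by
    intro y hy
    obtain ⟨⟨x, hx⟩, rfl⟩ := D.surj y
    rcases hloc x ((D.memN _).1 hy) (mem_centralizer_singleton_iff.1 hx) with h | h
    · exact Or.inl ((D.memP _).2 h)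
    · refine Or.inr ?_
      rw [ht, ← map_inv, ← map_mul]
      exact (D.memP _).2 h
  have htN : t ∈ normalizer ((D.P : Subgroup D.M) : Set D.M) := ht ▸ (D.memN _).2 hn.mem_N
  have hza : ∀ i j : ZMod 3, (∃ k, sm i a + sm j b = sm k u) → i = 0 ∧ j = 0 := fun i j ⟨k, hk⟩ => hind i j k hk
  have sm1 : ∀ v : V, sm 1 v = v ∧ sm 0 v = 0 ∧ sm (-1) v = -v := fun v => by
    refine ⟨by simp [sm], by simp [sm], by simp [sm]; rfl⟩
  have ea : e a ≠ 1 := fun h => by
    obtain ⟨k, hk⟩ := (eone a).1 h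
    exact one_ne_zero (hza 1 0 ⟨k, by rw [(sm1 a).1, (sm1 b).2.1, add_zero]; exact hk⟩).1
  refine D.mem_of_top ?_ hg
  rcases hcase with hA | ⟨hsa, hsb⟩
  · have hinv : ∀ y ∈ (D.P : Subgroup D.M), t * y * t⁻¹ = y⁻¹ := by
      intro y hy
      obtain ⟨v, rfl⟩ := esurj y hy
      obtain ⟨k, hk⟩ := hA v
      rw [etv, hk, eadd, eneg, (eone _).2 ⟨k, rfl⟩, mul_one]
    have hcent : ∀ y ∈ (D.P : Subgroup D.M), y ≠ 1 → centralizer ({y} : Set D.M) = (D.P : Subgroup D.M) := by
      intro y hy hy1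
      refine le_antisymm (fun x hx => ?_) (fun x hx => mem_centralizer_singleton_iff.2 (D.comm hx hy))
      rcases hnorm x (D.cent y hy hy1 hx) with h | h
      · exact h
      exfalso
      have hc : t⁻¹ * x * y = y * (t⁻¹ * x) := D.comm h hy
      have hy' : y⁻¹ = y := by
        rw [← hinv y hy]
        calc t * y * t⁻¹ = t * (y * (t⁻¹ * x)) * x⁻¹ := by group
          _ = x * y * x⁻¹ := by rw [← hc]; group
          _ = y := by rw [mul_inv_eq_iff_eq_mul]; exact mem_centralizer_singleton_iff.1 hx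
      have h2 : y * y = 1 := by rw [← inv_eq_iff_mul_eq_one]; exact hy'
      have h3 := D.cube y hy
      rw [h2, mul_one] at h3
      exact hy1 h3
    have eb : e b ≠ 1 := fun h => by
      obtain ⟨k, hk⟩ := (eone b).1 h
      exact one_ne_zero (hza 0 1 ⟨k, by rw [(sm1 a).2.1, (sm1 b).1, zero_add]; exact hk⟩).2
    have key : ∀ i j : ZMod 3, e (sm i a + sm j b) = 1 → i = 0 ∧ j = 0 := fun i j h => hza i j ((eone _).1 h)
    let r : Fin 3 → D.M := ![e a, e b, e a * e b]
    have hr : ∀ i, r i ≠ 1 := by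
      intro i; fin_cases i
      · exact ea
      · exact eb
      · intro h
        exact one_ne_zero (key 1 1 (by rw [(sm1 a).1, (sm1 b).1, eadd]; exact h)).1
    have h20 : ∀ i : ZMod 3, e a * e b ≠ e (sm i a) := fun i h => by
      have h' : e (sm (1 - i) a + sm 1 b) = 1 := by
        rw [show sm (1 - i) a + sm 1 b = a + b + sm (-i) a by simp [sm, sub_mul, Prod.ext_iff]; ring_nf; simp,
          eadd, eadd, h, ← eadd]
        refine (eone _).2 ⟨0, ?_⟩
        simp [sm]
      exact one_ne_zero (key _ _ h').2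
    have h21 : ∀ i : ZMod 3, e a * e b ≠ e (sm i b) := fun i h => by
      have h' : e (sm 1 a + sm (1 - i) b) = 1 := by
        rw [show sm 1 a + sm (1 - i) b = a + b + sm (-i) b by simp [sm, sub_mul, Prod.ext_iff]; ring_nf; simp,
          eadd, eadd, h, ← eadd]
        refine (eone _).2 ⟨0, ?_⟩
        simp [sm]
      exact one_ne_zero (key _ _ h').1
    have h01 : ∀ i : ZMod 3, e a ≠ e (sm i b) := fun i h => by
      have h' : e (sm 1 a + sm (-i) b) = 1 := by
        rw [(sm1 a).1, eadd, h, ← eadd]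
        refine (eone _).2 ⟨0, ?_⟩
        simp [sm]
      exact one_ne_zero (key _ _ h').1
    have hs1' : ∀ v, e v = e (sm 1 v) ∧ (e v)⁻¹ = e (sm (-1) v) := fun v =>
      ⟨by rw [(sm1 v).1], by rw [(sm1 v).2.2, eneg]⟩
    exact Cfsg.Lib.AltNineLocal.Three.normal {
      P := D.P
      r := r
      r_two := rfl
      r_mem := fun i => by fin_cases i; exacts [eP a, eP b, mul_mem (eP a) (eP b)]
      card9 := D.card9
      cube := D.cube
      comm := fun x hx y hy => D.comm hx hy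
      r_ne := hr
      r_sep := by
        intro i j hij
        have hsymm : ∀ x y : D.M, (x ≠ y ∧ x ≠ y⁻¹) → (y ≠ x ∧ y ≠ x⁻¹) := fun x y h =>
          ⟨h.1.symm, fun e => h.2 (by rw [e, inv_inv])⟩
        have c01 : e a ≠ e b ∧ e a ≠ (e b)⁻¹ :=
          ⟨(hs1' b).1 ▸ h01 1, (hs1' b).2 ▸ h01 (-1)⟩
        have c20 : e a * e b ≠ e a ∧ e a * e b ≠ (e a)⁻¹ :=
          ⟨(hs1' a).1 ▸ h20 1, (hs1' a).2 ▸ h20 (-1)⟩
        have c21 : e a * e b ≠ e b ∧ e a * e b ≠ (e b)⁻¹ :=
          ⟨(hs1' b).1 ▸ h21 1, (hs1' b).2 ▸ h21 (-1)⟩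
        fin_cases i <;> fin_cases j <;>
          first
            | exact absurd rfl hij
            | exact c01
            | exact hsymm _ _ c01
            | exact c20
            | exact hsymm _ _ c20
            | exact c21
            | exact hsymm _ _ c21
      cent := fun i => hcent _ (by fin_cases i; exacts [eP a, eP b, mul_mem (eP a) (eP b)]) (hr i)
      t := t
      inv := hinv
      norm := hnorm
      core := D.core }
  · refine RankThree.refl_normal D.nine (eP a) (eP b) ea (fun hm => ?_) (by rw [etv, hsa, eneg])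
      (by rw [etv, hsb]) hnorm
    let U : Subgroup D.M :=
      { carrier := {y | ∃ i : ZMod 3, y = e (sm i a)}
        one_mem' := ⟨0, ((eone _).2 ⟨0, by simp [sm]⟩).symm⟩
        mul_mem' := by
          rintro _ _ ⟨i, rfl⟩ ⟨j, rfl⟩
          exact ⟨i + j, by rw [← eadd]; congr 1; simp [sm, add_mul]⟩
        inv_mem' := by
          rintro _ ⟨i, rfl⟩
          exact ⟨-i, by rw [← eneg]; congr 1; simp [sm]⟩ }
    obtain ⟨i, hi⟩ := (zpowers_le (H := U)).2 ⟨1, by rw [(sm1 a).1]⟩ hm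
    have h' : e (sm (-i) a + sm 1 b) = 1 := by
      rw [(sm1 b).1, eadd, hi, ← eadd]
      exact (eone _).2 ⟨0, by simp [sm]⟩
    exact one_ne_zero (hza _ _ ((eone _).1 h')).2

end Loc

end Cfsg.Lib.SpCentre
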